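import Groth.Agent.FTors.K920.KapSch
import Mathlib.RingTheory.Flat.EquationalCriterion

/-!
# Flatness of the completion morphism
-/

set_option autoImplicit false
set_option linter.style.haveILetI false
universe u

open CategoryTheory TopologicalSpace Opposite CategoryTheory.Limits AlgebraicGeometry

noncomputable section

namespace K920.KapFlat

open K29.RSec K29.RStalk K29.RPull K29.RExact FTors K920.TorsMod K920.Kap K919.AffBasic K919.AffFlat
  K920.KapSch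

section General

variable {T T1 : TopCat.{u}} {f : T1 ⟶ T} {R : Sheaf (Opens.grothendieckTopology T) CommRingCat.{u}}
  {R1 : Sheaf (Opens.grothendieckTopology T1) CommRingCat.{u}}
  [(Opens.map f).IsContinuous (Opens.grothendieckTopology T) (Opens.grothendieckTopology T1)]
  {φ : ringSheaf R ⟶ ((Opens.map f).sheafPushforwardContinuous RingCat.{u}
    (Opens.grothendieckTopology T) (Opens.grothendieckTopology T1)).obj (ringSheaf R1)}

/-- The stalk maps are flat if the maps on sections over a basis of opens are, for `f` inducing. -/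
lemma stR_flat {B : Set (Opens T)} (hf : Topology.IsInducing f)
    (hB : ∀ (W : Opens T), ∀ x ∈ W, ∃ V ∈ B, x ∈ V ∧ V ≤ W)
    (h : ∀ V ∈ B, (cm φ V).Flat) (y : T1) : (stR φ y).Flat := by
  letI := stAlg φ y
  have hpre : ∀ {W' : Opens T1}, y ∈ W' → ∀ {V : Opens T}, f y ∈ V →
      ∃ V' ∈ B, f y ∈ V' ∧ V' ≤ V ∧ pre f V' ≤ W' := by
    intro W' hy V hV
    obtain ⟨U, hU, hUW⟩ := hf.isOpen_iff.1 W'.isOpen
    have h1 : f y ∈ (⟨U, hU⟩ : Opens T) ⊓ V := by
      refine ⟨?_, hV⟩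
      have : y ∈ f ⁻¹' U := by rw [hUW]; exact hy
      exact this
    obtain ⟨V', hV', hxV', hle⟩ := hB _ _ h1
    refine ⟨V', hV', hxV', hle.trans inf_le_right, fun z hz ↦ ?_⟩
    have h2 : z ∈ f ⁻¹' U := (hle hz).1
    rw [hUW] at h2
    exact h2
  change Module.Flat (StO R (f y)) (StO R1 y)
  rw [Module.Flat.iff_forall_isTrivialRelation]
  intro l a b hab
  obtain ⟨V₀, hV₀, a, rfl⟩ : ∃ (V : Opens T) (hV : f y ∈ V) (a' : Fin l → O R V),
      (fun i ↦ gmO R (f y) V hV (a' i)) = a := by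
    obtain ⟨V, hV, a', ha'⟩ := exists_gmO_fin (f y) a
    exact ⟨V, hV, a', funext ha'⟩
  obtain ⟨W₀, hW₀, b, rfl⟩ : ∃ (V : Opens T1) (hV : y ∈ V) (b' : Fin l → O R1 V),
      (fun i ↦ gmO R1 y V hV (b' i)) = b := by
    obtain ⟨V, hV, b', hb'⟩ := exists_gmO_fin y b
    exact ⟨V, hV, b', funext hb'⟩
  obtain ⟨V₁, hV₁, hyV₁, hle₁, hle₁'⟩ := hpre hW₀ hV₀
  have h1 : gmO R1 y (pre f V₁) hyV₁ (∑ i, cm φ V₁ (resO hle₁ (a i)) * resO hle₁' (b i)) = 0 := by
    rw [map_sum, ← hab]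
    refine Finset.sum_congr rfl fun i _ ↦ ?_
    rw [map_mul, gmO_resO, ← stR_gmO, gmO_resO]
    rfl
  obtain ⟨W₂, hyW₂, hW₂, e⟩ := exists_resO_eq (R := R1) (x := y) (V := pre f V₁)
    (s := ∑ i, cm φ V₁ (resO hle₁ (a i)) * resO hle₁' (b i)) (t := 0) hyV₁ (by rw [h1, map_zero])
  obtain ⟨V₂, hV₂, hyV₂, hle₂, hle₂'⟩ := hpre hyW₂ hyV₁
  have h2 : ∑ i, cm φ V₂ (resO (hle₂.trans hle₁) (a i)) *
      resO (hle₂'.trans (hW₂.trans hle₁')) (b i) = 0 := by
    have e2 := congrArg (resO hle₂') e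
    rw [map_zero, map_zero, map_sum, map_sum] at e2
    rw [← e2]
    refine Finset.sum_congr rfl fun i _ ↦ ?_
    rw [map_mul, map_mul, resO_resO, resO_resO, resO_resO, ← resO_resO hle₁ hle₂ (a i), cm_resO]
  letI : Algebra (O R V₂) (O R1 (pre f V₂)) := (cm φ V₂).toAlgebra
  have hfl : Module.Flat (O R V₂) (O R1 (pre f V₂)) := h V₂ hV₂
  obtain ⟨k, α, z, hz1, hz2⟩ := Module.Flat.isTrivialRelation_of_sum_smul_eq_zero
    (R := O R V₂) (M := O R1 (pre f V₂)) (f := fun i ↦ resO (hle₂.trans hle₁) (a i))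
    (x := fun i ↦ resO (hle₂'.trans (hW₂.trans hle₁')) (b i)) (by
      rw [← h2]
      rfl)
  refine ⟨k, fun i j ↦ gmO R (f y) V₂ hyV₂ (α i j), fun j ↦ gmO R1 y (pre f V₂) hyV₂ (z j),
    fun i ↦ ?_, fun j ↦ ?_⟩
  · have h3 := congrArg (gmO R1 y (pre f V₂) hyV₂) (hz1 i)
    rw [gmO_resO, map_sum] at h3
    refine h3.trans ?_
    refine Finset.sum_congr rfl fun j _ ↦ ?_
    have h4 : gmO R (f y) V₂ hyV₂ (α i j) • gmO R1 y (pre f V₂) hyV₂ (z j) =
        stR φ y (gmO R (f y) V₂ hyV₂ (α i j)) * gmO R1 y (pre f V₂) hyV₂ (z j) := rfl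
    rw [h4, stR_gmO, ← map_mul]
    rfl
  · have h3 := congrArg (gmO R (f y) V₂ hyV₂) (hz2 j)
    rw [map_zero, map_sum] at h3
    rw [← h3]
    refine Finset.sum_congr rfl fun i _ ↦ ?_
    rw [map_mul, gmO_resO]

end General

section Scheme

variable {X : Scheme.{u}} {𝓘 : X.IdealSheafData} (hX : (FSch.completionAlong X 𝓘).IsFormal)
  [IsLocallyNoetherian X]

lemma cm_flat (V : X.affineOpens) : (cm (phi X 𝓘 hX) (V : X.Opens)).Flat := by
  have h𝔛 : (FSch.completionAlong X 𝓘).IsLocNoethFormal := Groth.Agent.S3854.result X 𝓘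
  have hV := isAffineOpen_pre hX V
  have hA : IsNoetherianRing (O X.sheaf (V : X.Opens)) := IsLocallyNoetherian.component_noetherian V
  have hB : IsNoetherianRing (O ((FSch.completionAlong X 𝓘).Osh hX) (pre (bs X 𝓘) V)) :=
    isNoetherianRing_OU h𝔛 hV
  let J : Ideal (O X.sheaf (V : X.Opens)) := 𝓘.ideal V
  have hJ : J.map (cm (phi X 𝓘 hX) (V : X.Opens)) =
    II (FSch.completionAlong X 𝓘) hX (pre (bs X 𝓘) V) := map_ideal hX V
  have hc : IsAdicComplete (J.map (cm (phi X 𝓘 hX) (V : X.Opens)))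
      (O ((FSch.completionAlong X 𝓘).Osh hX) (pre (bs X 𝓘) V)) := by
    rw [hJ]
    exact isAdicComplete h𝔛 hV
  refine K919.AlgFlat.flat_of_levels (cm (phi X 𝓘 hX) (V : X.Opens)) J
    (fun n ↦ LU (FSch.completionAlong X 𝓘) hX n (pre (bs X 𝓘) V))
    (fun n ↦ LU (FSch.completionAlong X 𝓘) hX n (pre (bs X 𝓘) V))
    (fun n ↦ (pr (FSch.completionAlong X 𝓘) hX n (pre (bs X 𝓘) V)).comp
      (cm (phi X 𝓘 hX) (V : X.Opens)))
    (fun n b ↦ pr_cm_surj hX n V b) (fun n ↦ ?_)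
    (fun n ↦ pr (FSch.completionAlong X 𝓘) hX n (pre (bs X 𝓘) V)) (pr_surjective h𝔛 hV) (fun n ↦ ?_)
    (fun n ↦ RingHom.id _) (fun n ↦ ?_) (fun n ↦ ?_)
  · ext a
    exact pr_cm_eq_zero_iff hX n V a
  · rw [hJ]
    exact ker_pr h𝔛 hV n
  · rfl
  · exact RingHom.Flat.id _

lemma stR_flat_completion (y : ((FSch.completionAlong X 𝓘).X 0).carrier) :
    (stR (phi X 𝓘 hX) y).Flat := by
  have h := kData (𝓘 := 𝓘) hX
  exact stR_flat h.emb.isInducing h.basis (fun V hV ↦ cm_flat hX ⟨V, hV⟩) y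

theorem preservesFiniteLimits_pull : PreservesFiniteLimits (kap X 𝓘 hX).pull :=
  preservesFiniteLimits_of_flat (kap X 𝓘 hX).adj (stR_flat_completion hX)

end Scheme

end K920.KapFlat
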