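import Groth.Agent.SiteCmp.K578.Der
import Groth.Agent.Dcoh.MapDer
import Mathlib.Algebra.Homology.ShortComplex.ExactFunctor

/-!
# `Rf_*` for a morphism of ringed sites with exact direct image

* `isIso_rpushUnit`: the unit of `Rf_*` is an isomorphism on all complexes; `rpushIsoExact`;
* `hModPush`, `hModPull`: cohomology sheaves of `Rf_* G`, `f^* F`;
* `isIso_unitD_iff`, `isIso_counitD_iff`: unit and counit of `f^* ⊣ Rf_*` are tested on cohomology sheaves.
-/

set_option autoImplicit false

universe u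

open CategoryTheory CategoryTheory.Limits Opposite

attribute [local instance] HasDerivedCategory.standard

namespace K920.ExDer

open Groth.Agent.Dcoh.DerAbs Groth.Agent.Dcoh.DerHo Groth.Agent.Dcoh.DerAdj
  Groth.Agent.Dcoh.DerComp K578.Der

section NatTrans

variable {A B : Type*} [Category* A] [Abelian A] [Category* B] [Abelian B] {F G : A ⥤ B}
  [F.Additive] [G.Additive] [F.PreservesHomology] [G.PreservesHomology]

/-- A natural transformation of exact functors on complexes is a quasi-isomorphism iff it is an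
isomorphism on homology objects. -/
lemma quasiIso_natTrans_iff (τ : F ⟶ G) (K : CochainComplex A ℤ) :
    QuasiIso ((NatTrans.mapHomologicalComplex τ (ComplexShape.up ℤ)).app K) ↔
      ∀ i : ℤ, IsIso (τ.app (K.homology i)) := by
  rw [quasiIso_iff]
  refine forall_congr' fun i ↦ ?_
  rw [quasiIsoAt_iff_isIso_homologyMap]
  have h1 := NatTrans.app_homology τ (K.sc i)
  change IsIso (ShortComplex.homologyMap ((K.sc i).mapNatTrans τ)) ↔ IsIso (τ.app (K.sc i).homology)
  rw [h1]
  constructor
  · intro h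
    infer_instance
  · intro h
    have h3 := IsIso.of_isIso_comp_left ((K.sc i).mapHomologyIso F).inv
      (ShortComplex.homologyMap ((K.sc i).mapNatTrans τ) ≫ ((K.sc i).mapHomologyIso G).hom)
    exact IsIso.of_isIso_comp_right _ ((K.sc i).mapHomologyIso G).hom

end NatTrans

variable {C : Type u} [SmallCategory C] {J : GrothendieckTopology C}
  {D : Type u} [SmallCategory D] {K : GrothendieckTopology D}
  {O_C : Sheaf J CommRingCat.{u}} {O_D : Sheaf K CommRingCat.{u}} (f : ModSite.RMor O_C O_D)

instance preservesFiniteLimits_push : PreservesFiniteLimits f.push :=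
  have := f.adj.rightAdjoint_preservesLimits
  ⟨fun _ _ _ ↦ inferInstance⟩

variable [SiteCmp.HasRpushD f] [PreservesFiniteColimits f.push]

lemma isIso_rpushUnit_app (X : HomotopyCategory (ModSite.Mod O_C) (ComplexShape.up ℤ)) :
    IsIso ((rpushUnit f).app X) := by
  have h1 := isRightDerivedFunctor_mapDerivedCategory f.push
  have h2 := ((SiteCmp.RpushD f).isRightDerivedFunctor_iff_isIso_rightDerivedDesc (rpushUnit f)
    (qis (ModSite.Mod O_C)) f.push.mapDerivedCategory f.push.mapDerivedCategoryFactorsh.inv).1 h1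
  have h3 := (SiteCmp.RpushD f).rightDerived_fac_app (rpushUnit f) (qis (ModSite.Mod O_C))
    f.push.mapDerivedCategory f.push.mapDerivedCategoryFactorsh.inv X
  have h4 : IsIso ((rpushUnit f).app X ≫ ((SiteCmp.RpushD f).rightDerivedDesc (rpushUnit f)
      (qis (ModSite.Mod O_C)) f.push.mapDerivedCategory
      f.push.mapDerivedCategoryFactorsh.inv).app (DerivedCategory.Qh.obj X)) := by
    rw [h3]
    infer_instance
  exact IsIso.of_isIso_comp_right _ (((SiteCmp.RpushD f).rightDerivedDesc (rpushUnit f)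
      (qis (ModSite.Mod O_C)) f.push.mapDerivedCategory
      f.push.mapDerivedCategoryFactorsh.inv).app (DerivedCategory.Qh.obj X))

instance isIso_rpushUnit : IsIso (rpushUnit f) :=
  have := isIso_rpushUnit_app f
  NatIso.isIso_of_isIso_app _

/-- `Rf_*` is the functor induced by the exact functor `f_*`. -/
noncomputable def rpushIsoExact : SiteCmp.RpushD f ≅ f.push.mapDerivedCategory :=
  have := isRightDerivedFunctor_mapDerivedCategory f.push
  Functor.rightDerivedUnique (SiteCmp.RpushD f) f.push.mapDerivedCategory (rpushUnit f)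
    f.push.mapDerivedCategoryFactorsh.inv (qis (ModSite.Mod O_C))

/-- Cohomology sheaves of `Rf_* G` if `f_*` is exact. -/
noncomputable def hModPush (G : DerivedCategory (ModSite.Mod O_C)) (i : ℤ) :
    SiteCmp.HMod ((SiteCmp.RpushD f).obj G) i ≅ f.push.obj (SiteCmp.HMod G i) :=
  (DerivedCategory.homologyFunctor (ModSite.Mod O_D) i).mapIso ((rpushIsoExact f).app G) ≪≫
    Groth.Agent.Dcoh.MapDer.homologyMapDerApp f.push i G

omit [SiteCmp.HasRpushD f] [PreservesFiniteColimits f.push] in
/-- Cohomology sheaves of `f^* F` if `f^*` is exact. -/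
noncomputable def hModPull [PreservesFiniteLimits f.pull] (F : DerivedCategory (ModSite.Mod O_D))
    (i : ℤ) : SiteCmp.HMod ((SiteCmp.pullD f).obj F) i ≅ f.pull.obj (SiteCmp.HMod F i) :=
  Groth.Agent.Dcoh.MapDer.homologyMapDerApp f.pull i F

section Adj

variable [PreservesFiniteLimits f.pull]

lemma isIso_counitD_Qh_iff (X : HomotopyCategory (ModSite.Mod O_C) (ComplexShape.up ℤ)) :
    IsIso ((adjD f).counit.app (DerivedCategory.Qh.obj X)) ↔
      IsIso (DerivedCategory.Qh.map ((adjHo f.adj (ComplexShape.up ℤ)).counit.app X)) := by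
  have h1 := derivedAdj_counit_fac f.adj (hasKInj O_C) (leftDataExact _)
    (SiteCmp.pullD f) f.pull.mapDerivedCategoryFactorsh.hom
    (SiteCmp.RpushD f) (rpushUnit f) X
  have h2 : IsIso ((SiteCmp.pullD f).map ((rpushUnit f).app X)) := inferInstance
  have h3 : IsIso (f.pull.mapDerivedCategoryFactorsh.hom.app
    ((f.push.mapHomotopyCategory (ComplexShape.up ℤ)).obj X)) := inferInstance
  constructor
  · intro h
    have h5 : IsIso (f.pull.mapDerivedCategoryFactorsh.hom.app
        ((f.push.mapHomotopyCategory (ComplexShape.up ℤ)).obj X) ≫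
        DerivedCategory.Qh.map ((adjHo f.adj (ComplexShape.up ℤ)).counit.app X)) := by
      rw [← h1]
      exact IsIso.comp_isIso' h2 h
    exact @IsIso.of_isIso_comp_left _ _ _ _ _ _ _ h3 h5
  · intro h
    have h5 : IsIso ((SiteCmp.pullD f).map ((rpushUnit f).app X) ≫
        (adjD f).counit.app (DerivedCategory.Qh.obj X)) := by
      refine (congrArg (fun t ↦ IsIso t) h1).mpr ?_
      exact IsIso.comp_isIso' h3 h
    exact @IsIso.of_isIso_comp_left _ _ _ _ _ _ _ h2 h5

lemma isIso_unitD_Qh_iff (X : HomotopyCategory (ModSite.Mod O_D) (ComplexShape.up ℤ)) :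
    IsIso ((adjD f).unit.app (DerivedCategory.Qh.obj X)) ↔
      IsIso (DerivedCategory.Qh.map ((adjHo f.adj (ComplexShape.up ℤ)).unit.app X)) := by
  have h1 := derivedAdj_unit_fac f.adj (hasKInj O_C) (leftDataExact _)
    (SiteCmp.pullD f) f.pull.mapDerivedCategoryFactorsh.hom
    (SiteCmp.RpushD f) (rpushUnit f) X
  have h2 : IsIso ((rpushUnit f).app ((f.pull.mapHomotopyCategory (ComplexShape.up ℤ)).obj X)) :=
    inferInstance
  have h3 : IsIso ((SiteCmp.RpushD f).map (f.pull.mapDerivedCategoryFactorsh.hom.app X)) :=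
    inferInstance
  constructor
  · intro h
    have h5 : IsIso (DerivedCategory.Qh.map ((adjHo f.adj (ComplexShape.up ℤ)).unit.app X) ≫
        (rpushUnit f).app ((f.pull.mapHomotopyCategory (ComplexShape.up ℤ)).obj X)) := by
      rw [← h1]
      exact IsIso.comp_isIso' h h3
    exact @IsIso.of_isIso_comp_right _ _ _ _ _ _ _ h2 h5
  · intro h
    have h5 : IsIso ((adjD f).unit.app (DerivedCategory.Qh.obj X) ≫
        (SiteCmp.RpushD f).map (f.pull.mapDerivedCategoryFactorsh.hom.app X)) := by
      refine (congrArg (fun t ↦ IsIso t) h1).mpr ?_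
      exact IsIso.comp_isIso' h h2
    exact @IsIso.of_isIso_comp_right _ _ _ _ _ _ _ h3 h5

lemma isIso_Qh_map_iff {A : Type*} [Category* A] [Abelian A] {K L : CochainComplex A ℤ}
    (g : K ⟶ L) : IsIso (DerivedCategory.Qh.map
      ((HomotopyCategory.quotient A (ComplexShape.up ℤ)).map g)) ↔ QuasiIso g := by
  rw [← DerivedCategory.isIso_Q_map_iff_quasiIso]
  exact NatIso.isIso_map_iff (DerivedCategory.quotientCompQhIso A) _

/-- The counit of `f^* ⊣ Rf_*` is tested on cohomology sheaves, if `f_*` and `f^*` are exact. -/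
theorem isIso_counitD_iff (G : DerivedCategory (ModSite.Mod O_C)) :
    IsIso ((adjD f).counit.app G) ↔ ∀ i : ℤ, IsIso (f.adj.counit.app (SiteCmp.HMod G i)) := by
  obtain ⟨K, ⟨e⟩⟩ : ∃ K : CochainComplex (ModSite.Mod O_C) ℤ,
      Nonempty (G ≅ DerivedCategory.Q.obj K) :=
    ⟨_, ⟨(DerivedCategory.Q.objObjPreimageIso G).symm⟩⟩
  rw [NatTrans.isIso_app_iff_of_iso (adjD f).counit
    (e ≪≫ (DerivedCategory.quotientCompQhIso _).symm.app K)]
  refine (isIso_counitD_Qh_iff f _).trans ((isIso_Qh_map_iff
    ((adjCx f.adj (ComplexShape.up ℤ)).counit.app K)).trans ?_)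
  have h1 : PreservesFiniteLimits (f.push ⋙ f.pull) := comp_preservesFiniteLimits _ _
  have h2 : PreservesFiniteColimits (f.push ⋙ f.pull) := comp_preservesFiniteColimits _ _
  refine (quasiIso_natTrans_iff f.adj.counit K).trans (forall_congr' fun i ↦ ?_)
  exact NatTrans.isIso_app_iff_of_iso f.adj.counit
    ((DerivedCategory.homologyFunctor (ModSite.Mod O_C) i).mapIso e ≪≫
      (DerivedCategory.homologyFunctorFactors (ModSite.Mod O_C) i).app K).symm

/-- The unit of `f^* ⊣ Rf_*` is tested on cohomology sheaves, if `f_*` and `f^*` are exact. -/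
theorem isIso_unitD_iff (G : DerivedCategory (ModSite.Mod O_D)) :
    IsIso ((adjD f).unit.app G) ↔ ∀ i : ℤ, IsIso (f.adj.unit.app (SiteCmp.HMod G i)) := by
  obtain ⟨K, ⟨e⟩⟩ : ∃ K : CochainComplex (ModSite.Mod O_D) ℤ,
      Nonempty (G ≅ DerivedCategory.Q.obj K) :=
    ⟨_, ⟨(DerivedCategory.Q.objObjPreimageIso G).symm⟩⟩
  rw [NatTrans.isIso_app_iff_of_iso (adjD f).unit
    (e ≪≫ (DerivedCategory.quotientCompQhIso _).symm.app K)]
  refine (isIso_unitD_Qh_iff f _).trans ((isIso_Qh_map_iff
    ((adjCx f.adj (ComplexShape.up ℤ)).unit.app K)).trans ?_)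
  have h1 : PreservesFiniteLimits (f.pull ⋙ f.push) := comp_preservesFiniteLimits _ _
  have h2 : PreservesFiniteColimits (f.pull ⋙ f.push) := comp_preservesFiniteColimits _ _
  refine (quasiIso_natTrans_iff f.adj.unit K).trans (forall_congr' fun i ↦ ?_)
  exact NatTrans.isIso_app_iff_of_iso f.adj.unit
    ((DerivedCategory.homologyFunctor (ModSite.Mod O_D) i).mapIso e ≪≫
      (DerivedCategory.homologyFunctorFactors (ModSite.Mod O_D) i).app K).symm

end Adj

end K920.ExDer
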