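import Groth.Agent.Gaga.H976.TM0
import Groth.Prelude.Def_FTors

/-!
# Torsion modules on a small ringed site: closure properties
-/

set_option autoImplicit false

universe u

open CategoryTheory CategoryTheory.Limits Opposite

namespace K920.TorsMod

open FTors

variable {C : Type u} [SmallCategory C] {J : GrothendieckTopology C}
  {O : Sheaf J CommRingCat.{u}} {I : IdealFam O}

/-- `s` is a torsion section as soon as its image under an injective map is. -/
lemma isTorsSect_of_injective {M N : ModSite.Mod O} (f : M ⟶ N)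
    (hf : ∀ X, Function.Injective (f.val.app X)) {U : C} {s : ModSite.sect M U}
    (hs : IsTorsSect I N (f.val.app (op U) s)) : IsTorsSect I M s := by
  refine J.superset_covering ?_ hs
  rintro V g ⟨n, hn⟩
  refine ⟨n, fun W h a ha ↦ ?_⟩
  have h1 := hn h a ha
  rw [res_hom, res_hom, ← map_smul] at h1
  exact hf _ (h1.trans (map_zero (f.val.app (op W)).hom).symm)

lemma isTors_of_injective {M N : ModSite.Mod O} (f : M ⟶ N)
    (hf : ∀ X, Function.Injective (f.val.app X)) (hN : IsTors I N) : IsTors I M :=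
  fun _ _ ↦ isTorsSect_of_injective f hf (hN _ _)

lemma isTors_of_mono {M N : ModSite.Mod O} (f : M ⟶ N) [Mono f] (hN : IsTors I N) : IsTors I M :=
  isTors_of_injective f ((Groth.Agent.Gaga.H976.TM0.mono_iff f).1 inferInstance) hN

lemma isTors_of_epi {M N : ModSite.Mod O} (f : M ⟶ N) [Epi f] (hM : IsTors I M) : IsTors I N := by
  intro U s
  obtain ⟨S, hS, h⟩ := (Groth.Agent.Gaga.H976.TM0.epi_iff f).1 inferInstance U s
  refine IsTorsSect.of_cover hS fun V g hg ↦ ?_
  obtain ⟨m, hm⟩ := h g hg
  have h1 : FTors.res N g s = f.val.app (op V) m := hm.symm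
  rw [h1]
  exact IsTorsSect.hom f (hM V m)

lemma isTors_of_iso {M N : ModSite.Mod O} (e : M ≅ N) (hM : IsTors I M) : IsTors I N :=
  isTors_of_epi e.hom hM

instance : (IsTors I : ObjectProperty (ModSite.Mod O)).IsClosedUnderIsomorphisms where
  of_iso e h := isTors_of_iso e h

lemma gammaι_injective (M : ModSite.Mod O) (X : Cᵒᵖ) :
    Function.Injective (((gammaι I).app M).val.app X) := fun _ _ h ↦ Subtype.ext h

instance (M : ModSite.Mod O) : Mono ((gammaι I).app M) :=
  (Groth.Agent.Gaga.H976.TM0.mono_iff _).2 (gammaι_injective M)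

variable (I) in
lemma isTors_gamma (M : ModSite.Mod O) : IsTors I ((gamma O I).obj M) :=
  fun _ s ↦ isTorsSect_of_injective ((gammaι I).app M) (gammaι_injective M) s.2

lemma isIso_of_bijective {M N : ModSite.Mod O} (f : M ⟶ N)
    (hf : ∀ X, Function.Bijective (f.val.app X)) : IsIso f := by
  have h1 : Mono f := (Groth.Agent.Gaga.H976.TM0.mono_iff f).2 fun X ↦ (hf X).1
  have h2 : Epi f := by
    rw [Groth.Agent.Gaga.H976.TM0.epi_iff]
    intro X t
    refine ⟨⊤, J.top_mem X, fun Y g _ ↦ (hf (op Y)).2 _⟩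
  exact isIso_of_mono_of_epi f

lemma isIso_gammaι_iff (M : ModSite.Mod O) : IsIso ((gammaι I).app M) ↔ IsTors I M := by
  constructor
  · intro h
    exact isTors_of_iso (asIso ((gammaι I).app M)) (isTors_gamma I M)
  · intro h
    exact isIso_of_bijective _ fun X ↦ ⟨gammaι_injective M X, fun s ↦ ⟨⟨s, h _ s⟩, rfl⟩⟩

/-- The two maps `Γ_I Γ_I M ⟶ Γ_I M` agree. -/
lemma gamma_map_gammaι (M : ModSite.Mod O) :
    (gamma O I).map ((gammaι I).app M) = (gammaι I).app ((gamma O I).obj M) := by
  rw [← cancel_mono ((gammaι I).app M)]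
  exact (gammaι I).naturality _

instance isIso_gammaι_gamma (M : ModSite.Mod O) : IsIso ((gammaι I).app ((gamma O I).obj M)) :=
  (isIso_gammaι_iff _).2 (isTors_gamma I M)

instance isIso_gamma_map_gammaι (M : ModSite.Mod O) :
    IsIso ((gamma O I).map ((gammaι I).app M)) := by
  rw [gamma_map_gammaι]
  infer_instance

/-- Maps from torsion modules factor through `Γ_I`. -/
lemma exists_lift {M N : ModSite.Mod O} (hM : IsTors I M) (f : M ⟶ N) :
    ∃! g : M ⟶ (gamma O I).obj N, g ≫ (gammaι I).app N = f := by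
  have := (isIso_gammaι_iff M).2 hM
  refine ⟨inv ((gammaι I).app M) ≫ (gamma O I).map f, ?_, ?_⟩
  · have h1 := (gammaι I).naturality f
    dsimp at h1 ⊢
    rw [Category.assoc, h1, IsIso.inv_hom_id_assoc]
  · intro g hg
    rw [← cancel_mono ((gammaι I).app N), hg]
    have h1 := (gammaι I).naturality f
    dsimp at h1 ⊢
    rw [Category.assoc, h1, IsIso.inv_hom_id_assoc]

section Homology

/-- Homology of a complex whose terms are torsion is torsion. -/
lemma isTors_homology {ι : Type*} {c : ComplexShape ι} (K : HomologicalComplex (ModSite.Mod O) c)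
    (n : ι) (hK : IsTors I (K.X n)) : IsTors I (K.homology n) :=
  isTors_of_epi (K.homologyπ n) (isTors_of_mono (K.iCycles n) hK)

end Homology

end K920.TorsMod
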