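import Groth.Agent.FTors.K920.TorsDer
import Groth.Agent.FTors.K920.TorsMod

/-!
# Objects with torsion cohomology and `RΓ_I`

`GoodD I`: every K-injective complex `K` with injective terms and `I`-torsion cohomology satisfies
`Γ_I K ≅ K` (quasi-isomorphism).  Under `GoodD I`:
* `isDTors_iff_isIso`: `E` has torsion cohomology iff `RΓ_I E ⟶ E` is an isomorphism;
* `bijective_comp_ε`: `Hom(E, RΓ_I F) = Hom(E, F)` for `E` with torsion cohomology.
-/

set_option autoImplicit false

universe u

open CategoryTheory CategoryTheory.Limits Opposite Pretriangulated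

attribute [local instance] HasDerivedCategory.standard

namespace K920.TorsDer

open Groth.Agent.Dcoh.DerAbs Groth.Agent.Dcoh.DerHo Groth.Agent.Dcoh.DerAdj
  Groth.Agent.Dcoh.DerComp FTors K578.Der K920.TorsMod

variable {C : Type u} [SmallCategory C] {J : GrothendieckTopology C}
  {O : Sheaf J CommRingCat.{u}}

/-- Every object of the derived category is represented by a K-injective complex with injective
terms. -/
lemma exists_rep (E : DerivedCategory (ModSite.Mod O)) :
    ∃ K : CochainComplex (ModSite.Mod O) ℤ, K.IsKInjective ∧ (∀ n, Injective (K.X n)) ∧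
      Nonempty (E ≅ DerivedCategory.Q.obj K) := by
  have := isGrothendieckAbelian O
  obtain ⟨L, ⟨e⟩⟩ : ∃ L : CochainComplex (ModSite.Mod O) ℤ, Nonempty (DerivedCategory.Q.obj L ≅ E) :=
    ⟨_, ⟨DerivedCategory.Q.objObjPreimageIso E⟩⟩
  obtain ⟨K, f, h1, h2, -, h3⟩ := Groth.Agent.S0476.result L
  exact ⟨K, h1, h3, ⟨e.symm ≪≫ asIso (DerivedCategory.Q.map f)⟩⟩

variable (I : IdealFam O)

/-- The cohomology sheaves of `Q K`. -/
noncomputable def hModQ (K : CochainComplex (ModSite.Mod O) ℤ) (n : ℤ) :
    SiteCmp.HMod (DerivedCategory.Q.obj K) n ≅ K.homology n :=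
  (DerivedCategory.homologyFunctorFactors (ModSite.Mod O) n).app K

lemma isDTors_Q_iff (K : CochainComplex (ModSite.Mod O) ℤ) :
    IsDTors I (DerivedCategory.Q.obj K) ↔ ∀ n, IsTors I (K.homology n) :=
  forall_congr' fun n ↦ ⟨isTors_of_iso (hModQ K n), isTors_of_iso (hModQ K n).symm⟩

lemma isDTors_of_iso {E F : DerivedCategory (ModSite.Mod O)} (e : E ≅ F) (h : IsDTors I E) :
    IsDTors I F :=
  fun n ↦ isTors_of_iso ((DerivedCategory.homologyFunctor (ModSite.Mod O) n).mapIso e) (h n)

/-- Torsion cohomology complexes: closed under the formation of cones (first and third vertex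
torsion imply the second is an extension); here only shifts. -/
lemma isDTors_shift {E : DerivedCategory (ModSite.Mod O)} (h : IsDTors I E) (a : ℤ) :
    IsDTors I (E⟦a⟧) := by
  intro n
  have e : SiteCmp.HMod (E⟦a⟧) n ≅ SiteCmp.HMod E (a + n) :=
    ((DerivedCategory.homologyFunctor (ModSite.Mod O) 0).shiftIso a n (a + n) rfl).app E
  exact isTors_of_iso e.symm (h (a + n))

variable [HasRgamma I]

/-- `RΓ_I E` has torsion cohomology. -/
theorem isDTors_Rgamma (E : DerivedCategory (ModSite.Mod O)) : IsDTors I ((Rgamma I).obj E) := by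
  obtain ⟨K, h1, -, ⟨e⟩⟩ := exists_rep E
  have := isIso_rgUnitQ_app I K h1
  refine isDTors_of_iso I (asIso ((rgUnitQ I).app K) ≪≫ (Rgamma I).mapIso e.symm) ?_
  exact (isDTors_Q_iff I _).2 fun n ↦ isTors_homology _ _ (isTors_gamma I _)

/-- `RΓ_I (RΓ_I F ⟶ F)`, assuming `RΓ_I G ⟶ G` is an isomorphism for `G = RΓ_I F`. -/
theorem isIso_Rgamma_map_ε (F : DerivedCategory (ModSite.Mod O))
    (h : IsIso ((Rgammaε I).app ((Rgamma I).obj F))) :
    IsIso ((Rgamma I).map ((Rgammaε I).app F)) := by
  obtain ⟨K, h1, -, ⟨e⟩⟩ := exists_rep F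
  have hu := isIso_rgUnitQ_app I K h1
  -- the object `Q (Γ K)`
  have h2 : IsIso ((Rgammaε I).app (DerivedCategory.Q.obj
      (((gamma O I).mapHomologicalComplex (ComplexShape.up ℤ)).obj K))) :=
    (NatTrans.isIso_app_iff_of_iso (Rgammaε I)
      (asIso ((rgUnitQ I).app K) ≪≫ (Rgamma I).mapIso e.symm)).2 h
  -- the inclusion `Γ Γ K ⟶ Γ K` is an isomorphism
  have h3 : IsIso (incl I (((gamma O I).mapHomologicalComplex (ComplexShape.up ℤ)).obj K)) := by
    have : ∀ n, IsIso ((incl I (((gamma O I).mapHomologicalComplex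
        (ComplexShape.up ℤ)).obj K)).f n) := by
      intro n
      rw [incl_f]
      exact inferInstanceAs (IsIso ((gammaι I).app ((gamma O I).obj (K.X n))))
    exact HomologicalComplex.Hom.isIso_of_components _
  have h4 : IsIso (((gamma O I).mapHomologicalComplex (ComplexShape.up ℤ)).map (incl I K)) := by
    have : ∀ n, IsIso ((((gamma O I).mapHomologicalComplex
        (ComplexShape.up ℤ)).map (incl I K)).f n) := by
      intro n
      rw [Functor.mapHomologicalComplex_map_f, incl_f]
      exact isIso_gamma_map_gammaι (K.X n)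
    exact HomologicalComplex.Hom.isIso_of_components _
  have h5 : IsIso ((rgUnitQ I).app (((gamma O I).mapHomologicalComplex (ComplexShape.up ℤ)).obj K)) := by
    have h6 := rgUnitQ_ε I (((gamma O I).mapHomologicalComplex (ComplexShape.up ℤ)).obj K)
    have h7 : IsIso ((rgUnitQ I).app (((gamma O I).mapHomologicalComplex (ComplexShape.up ℤ)).obj K) ≫
        (Rgammaε I).app (DerivedCategory.Q.obj
          (((gamma O I).mapHomologicalComplex (ComplexShape.up ℤ)).obj K))) := by
      rw [h6]
      infer_instance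
    exact IsIso.of_isIso_comp_right _ ((Rgammaε I).app (DerivedCategory.Q.obj
      (((gamma O I).mapHomologicalComplex (ComplexShape.up ℤ)).obj K)))
  have h8 : IsIso ((Rgamma I).map (DerivedCategory.Q.map (incl I K))) := by
    have h9 := (rgUnitQ I).naturality (incl I K)
    dsimp only [Functor.comp_map] at h9
    have h10 : IsIso (DerivedCategory.Q.map
      (((gamma O I).mapHomologicalComplex (ComplexShape.up ℤ)).map (incl I K)) ≫
      (rgUnitQ I).app K) := IsIso.comp_isIso' inferInstance hu
    rw [h9] at h10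
    exact @IsIso.of_isIso_comp_left _ _ _ _ _ _ _ h5 h10
  have h11 : IsIso ((Rgamma I).map ((Rgammaε I).app (DerivedCategory.Q.obj K))) := by
    rw [← rgUnitQ_ε, Functor.map_comp] at h8
    exact IsIso.of_isIso_comp_left ((Rgamma I).map ((rgUnitQ I).app K)) _
  exact (NatTrans.isIso_app_iff_of_iso (Functor.whiskerRight (Rgammaε I) (Rgamma I)) e).2 h11

/-- Key hypothesis: K-injective complexes with injective terms and torsion cohomology are computed by
`Γ_I`. -/
def GoodD (I : IdealFam O) : Prop :=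
  ∀ K : CochainComplex (ModSite.Mod O) ℤ, K.IsKInjective → (∀ n, Injective (K.X n)) →
    (∀ n, IsTors I (K.homology n)) → QuasiIso (incl I K)

variable {I}

theorem isIso_ε (hI : GoodD I) {E : DerivedCategory (ModSite.Mod O)} (hE : IsDTors I E) :
    IsIso ((Rgammaε I).app E) := by
  obtain ⟨K, h1, h2, ⟨e⟩⟩ := exists_rep E
  have hK : ∀ n, IsTors I (K.homology n) := (isDTors_Q_iff I K).1 (isDTors_of_iso I e hE)
  have h3 := hI K h1 h2 hK
  have h4 : IsIso ((Rgammaε I).app (DerivedCategory.Q.obj K)) := by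
    have h5 := isIso_rgUnitQ_app I K h1
    have h6 : IsIso ((rgUnitQ I).app K ≫ (Rgammaε I).app (DerivedCategory.Q.obj K)) := by
      rw [rgUnitQ_ε]
      infer_instance
    exact IsIso.of_isIso_comp_left ((rgUnitQ I).app K) _
  exact (NatTrans.isIso_app_iff_of_iso (Rgammaε I) e).2 h4

theorem isDTors_iff_isIso (hI : GoodD I) (E : DerivedCategory (ModSite.Mod O)) :
    IsDTors I E ↔ IsIso ((Rgammaε I).app E) := by
  constructor
  · exact isIso_ε hI
  · intro h
    exact isDTors_of_iso I (asIso ((Rgammaε I).app E)) (isDTors_Rgamma I E)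

/-- `Hom(E, RΓ_I F) = Hom(E, F)` for `E` with torsion cohomology. -/
theorem bijective_comp_ε (hI : GoodD I) {E : DerivedCategory (ModSite.Mod O)} (hE : IsDTors I E)
    (F : DerivedCategory (ModSite.Mod O)) :
    Function.Bijective (fun φ : E ⟶ (Rgamma I).obj F => φ ≫ (Rgammaε I).app F) := by
  have hε := isIso_ε hI hE
  have hεF := isIso_Rgamma_map_ε I F (isIso_ε hI (isDTors_Rgamma I F))
  have hεF' := isIso_ε hI (isDTors_Rgamma I F)
  constructor
  · intro φ ψ h
    dsimp only at h
    have h1 := congrArg (fun t ↦ (Rgamma I).map t) h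
    rw [Functor.map_comp, Functor.map_comp, cancel_mono] at h1
    have h2 : (Rgamma I).map φ ≫ (Rgammaε I).app _ = (Rgammaε I).app _ ≫ φ :=
      (Rgammaε I).naturality φ
    have h3 : (Rgamma I).map ψ ≫ (Rgammaε I).app _ = (Rgammaε I).app _ ≫ ψ :=
      (Rgammaε I).naturality ψ
    rw [← cancel_epi ((Rgammaε I).app E), ← h2, ← h3, h1]
  · intro φ
    refine ⟨inv ((Rgammaε I).app E) ≫ (Rgamma I).map φ, ?_⟩
    have h2 : (Rgamma I).map φ ≫ (Rgammaε I).app F = (Rgammaε I).app E ≫ φ :=
      (Rgammaε I).naturality φ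
    dsimp only
    rw [Category.assoc, h2, IsIso.inv_hom_id_assoc]

end K920.TorsDer
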