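import Groth.Agent.FTors.K920.KapFlat
import Groth.Agent.FTors.K920.ExDer
import Groth.Agent.FTors.K920.TorsDer2

/-!
# The completion morphism on derived categories
-/

set_option autoImplicit false
set_option linter.style.haveILetI false
universe u

open CategoryTheory TopologicalSpace Opposite CategoryTheory.Limits AlgebraicGeometry

attribute [local instance] HasDerivedCategory.standard

noncomputable section

namespace K920.Kap

open K29.RSec K29.RStalk K29.RPull K29.RExact FTors K920.TorsMod K920.TorsDer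

section Push

variable {T T1 : TopCat.{u}} {f : T1 ⟶ T} {R : Sheaf (Opens.grothendieckTopology T) CommRingCat.{u}}
  {R1 : Sheaf (Opens.grothendieckTopology T1) CommRingCat.{u}}
  [(Opens.map f).IsContinuous (Opens.grothendieckTopology T) (Opens.grothendieckTopology T1)]
  {φ : ringSheaf R ⟶ ((Opens.map f).sheafPushforwardContinuous RingCat.{u}
    (Opens.grothendieckTopology T) (Opens.grothendieckTopology T1)).obj (ringSheaf R1)}

/-- The direct image along a closed embedding preserves epimorphisms. -/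
lemma epi_push (hf : Topology.IsClosedEmbedding f) {P Q : Mod R1} (g : P ⟶ Q) [Epi g] :
    Epi ((push φ).map g) := by
  rw [epi_iff_local]
  intro V t y hy
  by_cases hyf : y ∈ Set.range f
  · obtain ⟨x, rfl⟩ := hyf
    obtain ⟨W', hxW', hW', s, hs⟩ := (epi_iff_local g).1 inferInstance (pre f V) (ofPush φ t) x hy
    obtain ⟨U, hU, hUW⟩ := hf.isInducing.isOpen_iff.1 W'.isOpen
    have hxU : f x ∈ (⟨U, hU⟩ : Opens T) := by
      have : x ∈ f ⁻¹' U := by rw [hUW]; exact hxW'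
      exact this
    have hle : pre f ((⟨U, hU⟩ : Opens T) ⊓ V) ≤ W' := by
      intro z hz
      have h2 : z ∈ f ⁻¹' U := hz.1
      rw [hUW] at h2
      exact h2
    refine ⟨(⟨U, hU⟩ : Opens T) ⊓ V, ⟨hxU, hy⟩, inf_le_right, toPush φ (K29.RSec.res P hle s), ?_⟩
    have h3 : app g (pre f ((⟨U, hU⟩ : Opens T) ⊓ V)) (K29.RSec.res P hle s) =
        K29.RSec.res Q (pre_mono f inf_le_right) (ofPush φ t) := by
      rw [app_res, hs, res_res]
    exact h3
  · refine ⟨⟨(Set.range f)ᶜ, hf.isClosed_range.isOpen_compl⟩ ⊓ V, ⟨hyf, hy⟩, inf_le_right, 0, ?_⟩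
    exact sec_eq_of_empty Q
      (V := pre f (⟨(Set.range f)ᶜ, hf.isClosed_range.isOpen_compl⟩ ⊓ V))
      (fun x hx ↦ hx.1 ⟨x, rfl⟩) _ _

end Push

end K920.Kap

namespace K920.KapDer

open K29.RSec K29.RStalk K29.RPull K29.RExact FTors K920.TorsMod K920.TorsDer K920.Kap K920.KapSch
  K920.KapFlat K920.ExDer K578.Der

/-- An additive left exact functor which preserves epimorphisms is right exact. -/
lemma preservesFiniteColimits_of_epi {A B : Type*} [Category* A] [Abelian A] [Category* B]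
    [Abelian B] (F : A ⥤ B) [F.Additive] [PreservesFiniteLimits F]
    (h : ∀ {X Y : A} (g : X ⟶ Y) [Epi g], Epi (F.map g)) : PreservesFiniteColimits F := by
  rw [F.preservesFiniteColimits_iff_forall_exact_map_and_epi]
  intro S hS
  have := hS.mono_f
  have := hS.epi_g
  have h1 := (F.preservesFiniteLimits_iff_forall_exact_map_and_mono).1 inferInstance S hS
  exact ⟨h1.1, h S.g⟩

/-- Two universal arrows are isomorphic. -/
lemma existsUnique_iso {D : Type*} [Category* D] (P : ObjectProperty D) {A B Y : D} (a : A ⟶ Y)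
    (b : B ⟶ Y) (hA : P A) (hB : P B)
    (ha : ∀ T, P T → Function.Bijective (fun φ : T ⟶ A ↦ φ ≫ a))
    (hb : ∀ T, P T → Function.Bijective (fun φ : T ⟶ B ↦ φ ≫ b)) :
    ∃! e : A ≅ B, e.hom ≫ b = a := by
  obtain ⟨f, hf⟩ := (hb A hA).2 a
  obtain ⟨g, hg⟩ := (ha B hB).2 b
  dsimp only at hf hg
  refine ⟨⟨f, g, (ha A hA).1 ?_, (hb B hB).1 ?_⟩, hf, fun e he ↦ ?_⟩
  · dsimp only
    rw [Category.assoc, hg, hf, Category.id_comp]
  · dsimp only
    rw [Category.assoc, hf, hg, Category.id_comp]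
  · ext
    exact (hb A hA).1 (he.trans hf.symm)

variable (X : Scheme.{u}) [IsLocallyNoetherian X] (𝓘 : X.IdealSheafData)
  (hX : (FSch.completionAlong X 𝓘).IsFormal)

instance preservesFiniteColimits_push : PreservesFiniteColimits (kap X 𝓘 hX).push :=
  preservesFiniteColimits_of_epi _ (fun g _ ↦
    epi_push (φ := phi X 𝓘 hX) (kData (𝓘 := 𝓘) hX).emb g)

variable {X 𝓘}

section

variable [PreservesFiniteLimits (kap X 𝓘 hX).pull]

lemma isDTors_pull {F : DerivedCategory (ModSite.Mod X.sheaf)} (hF : IsDTorsZp X 𝓘 F) :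
    IsDTorsF (FSch.completionAlong X 𝓘) hX ((SiteCmp.pullD (kap X 𝓘 hX)).obj F) := fun i ↦
  isTors_of_iso (hModPull (kap X 𝓘 hX) F i).symm
    (isTors_pull (kData (𝓘 := 𝓘) hX) (kap X 𝓘 hX).adj (hF i))

end

lemma isDTors_push [SiteCmp.HasRpushD (kap X 𝓘 hX)]
    {G : DerivedCategory (FSch.ModF (FSch.completionAlong X 𝓘) hX)}
    (hG : IsDTorsF (FSch.completionAlong X 𝓘) hX G) :
    IsDTorsZp X 𝓘 ((SiteCmp.RpushD (kap X 𝓘 hX)).obj G) := fun i ↦
  isTors_of_iso (hModPush (kap X 𝓘 hX) G i).symm (isTors_push (kData (𝓘 := 𝓘) hX) (hG i))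

section

variable [PreservesFiniteLimits (kap X 𝓘 hX).pull] [SiteCmp.HasRpushD (kap X 𝓘 hX)]

lemma isIso_unitD {F : DerivedCategory (ModSite.Mod X.sheaf)} (hF : IsDTorsZp X 𝓘 F) :
    IsIso ((adjD (kap X 𝓘 hX)).unit.app F) :=
  (isIso_unitD_iff (kap X 𝓘 hX) F).2 fun i ↦
    isIso_unit (kData (𝓘 := 𝓘) hX) (kap X 𝓘 hX).adj (hF i)

lemma isIso_counitD {G : DerivedCategory (FSch.ModF (FSch.completionAlong X 𝓘) hX)}
    (hG : IsDTorsF (FSch.completionAlong X 𝓘) hX G) :
    IsIso ((adjD (kap X 𝓘 hX)).counit.app G) :=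
  (isIso_counitD_iff (kap X 𝓘 hX) G).2 fun i ↦
    isIso_counit (kData (𝓘 := 𝓘) hX) (kap X 𝓘 hX).adj (hG i)

/-- S19543. -/
theorem bijective_RpushD_map (G H : DerivedCategory (FSch.ModF (FSch.completionAlong X 𝓘) hX))
    (hG : IsDTorsF (FSch.completionAlong X 𝓘) hX G) :
    Function.Bijective (fun φ : G ⟶ H ↦ (SiteCmp.RpushD (kap X 𝓘 hX)).map φ) := by
  have h1 := isIso_counitD hX hG
  have h2 : (fun φ : G ⟶ H ↦ (SiteCmp.RpushD (kap X 𝓘 hX)).map φ) =
      ⇑((adjD (kap X 𝓘 hX)).homEquiv _ _) ∘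
        (fun φ : G ⟶ H ↦ (adjD (kap X 𝓘 hX)).counit.app G ≫ φ) := by
    funext φ
    rw [Function.comp_apply, Adjunction.homEquiv_unit, Functor.map_comp,
      Adjunction.right_triangle_components_assoc]
  rw [h2]
  refine (Equiv.bijective _).comp ⟨fun a b hab ↦ ?_, fun a ↦ ?_⟩
  · exact (cancel_epi ((adjD (kap X 𝓘 hX)).counit.app G)).1 hab
  · exact ⟨inv ((adjD (kap X 𝓘 hX)).counit.app G) ≫ a, IsIso.hom_inv_id_assoc _ _⟩

/-- S19536 for torsion `F`. -/
theorem bijective_pullD_map_of_tors (E F : DerivedCategory (ModSite.Mod X.sheaf))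
    (hF : IsDTorsZp X 𝓘 F) :
    Function.Bijective (fun φ : E ⟶ F ↦ (SiteCmp.pullD (kap X 𝓘 hX)).map φ) := by
  have h1 := isIso_unitD hX hF
  have h2 : (fun φ : E ⟶ F ↦ (SiteCmp.pullD (kap X 𝓘 hX)).map φ) =
      ⇑((adjD (kap X 𝓘 hX)).homEquiv _ _).symm ∘
        (fun φ : E ⟶ F ↦ φ ≫ (adjD (kap X 𝓘 hX)).unit.app F) := by
    funext φ
    rw [Function.comp_apply, Adjunction.homEquiv_counit, Functor.map_comp, Category.assoc,
      Adjunction.left_triangle_components, Category.comp_id]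
  rw [h2]
  refine (Equiv.bijective _).comp ⟨fun a b hab ↦ ?_, fun a ↦ ?_⟩
  · exact (cancel_mono ((adjD (kap X 𝓘 hX)).unit.app F)).1 hab
  · refine ⟨a ≫ inv ((adjD (kap X 𝓘 hX)).unit.app F), ?_⟩
    dsimp only
    rw [Category.assoc, IsIso.inv_hom_id, Category.comp_id]

end

/-- S17071. -/
theorem existsUnique_iso_rgammaT [SiteCmp.HasRpushD (kap X 𝓘 hX)]
    [HasRgammaT (FSch.completionAlong X 𝓘) hX] [HasRgammaZp X 𝓘]
    (E : DerivedCategory (FSch.ModF (FSch.completionAlong X 𝓘) hX)) :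
    ∃! e : (RgammaZp X 𝓘).obj ((SiteCmp.RpushD (kap X 𝓘 hX)).obj E) ≅
        (SiteCmp.RpushD (kap X 𝓘 hX)).obj ((RgammaT (FSch.completionAlong X 𝓘) hX).obj E),
      e.hom ≫ (SiteCmp.RpushD (kap X 𝓘 hX)).map ((RgammaTε (FSch.completionAlong X 𝓘) hX).app E) =
        (RgammaZpε X 𝓘).app ((SiteCmp.RpushD (kap X 𝓘 hX)).obj E) := by
  have hfl := preservesFiniteLimits_pull (𝓘 := 𝓘) hX
  have h𝔛 : (FSch.completionAlong X 𝓘).IsLocNoethFormal := Groth.Agent.S3854.result X 𝓘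
  have hI : GoodD (powIdealFam X 𝓘) := Good.goodD_of_goodFam (Good.goodFam_powIdealFam X 𝓘)
  have hI' : GoodD (openIdealFam (FSch.completionAlong X 𝓘) hX) := Good.goodD_openIdealFam h𝔛
  refine existsUnique_iso (IsDTorsZp X 𝓘) _ _ (isDTors_Rgamma _ _)
    (isDTors_push hX (isDTors_Rgamma _ E)) (fun T hT ↦ bijective_comp_ε hI hT _) (fun T hT ↦ ?_)
  have h1 := bijective_comp_ε hI' (isDTors_pull hX hT) E
  have h2 : (fun φ : T ⟶ (SiteCmp.RpushD (kap X 𝓘 hX)).obj
      ((RgammaT (FSch.completionAlong X 𝓘) hX).obj E) ↦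
      φ ≫ (SiteCmp.RpushD (kap X 𝓘 hX)).map ((RgammaTε (FSch.completionAlong X 𝓘) hX).app E)) =
      ⇑((adjD (kap X 𝓘 hX)).homEquiv T E) ∘
        (fun φ ↦ φ ≫ (RgammaTε (FSch.completionAlong X 𝓘) hX).app E) ∘
          ⇑((adjD (kap X 𝓘 hX)).homEquiv T
            ((RgammaT (FSch.completionAlong X 𝓘) hX).obj E)).symm := by
    funext φ
    rw [Function.comp_apply, Function.comp_apply, Adjunction.homEquiv_naturality_right,
      Equiv.apply_symm_apply]
  rw [h2]
  exact (Equiv.bijective _).comp (h1.comp (Equiv.bijective _))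

end K920.KapDer
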