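import Groth.Agent.FTors.K920.Kap

/-!
# Torsion modules along a comparison morphism: unit and counit
-/

set_option autoImplicit false
set_option linter.style.haveILetI false
universe u

open CategoryTheory TopologicalSpace Opposite CategoryTheory.Limits

noncomputable section

namespace K920.Kap

open K29.RSec K29.RStalk K29.RPull K29.RExact FTors K920.TorsMod

variable {T T1 : TopCat.{u}} {f : T1 ⟶ T} {R : Sheaf (Opens.grothendieckTopology T) CommRingCat.{u}}
  {R1 : Sheaf (Opens.grothendieckTopology T1) CommRingCat.{u}}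
  [(Opens.map f).IsContinuous (Opens.grothendieckTopology T) (Opens.grothendieckTopology T1)]
  {φ : ringSheaf R ⟶ ((Opens.map f).sheafPushforwardContinuous RingCat.{u}
    (Opens.grothendieckTopology T) (Opens.grothendieckTopology T1)).obj (ringSheaf R1)}
  {I : IdealFam R} {I1 : IdealFam R1}

section Stalk

variable (I) in
/-- The ideal of the stalk generated by (in fact consisting of) the germs of the sections of `I n`. -/
def stIdl (n : ℕ) (y : T) : Ideal (StO R y) where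
  carrier := {a | ∃ (V : Opens T) (hy : y ∈ V) (r : O R V), r ∈ idl I n V ∧ gmO R y V hy r = a}
  zero_mem' := ⟨⊤, trivial, 0, zero_mem _, map_zero _⟩
  add_mem' := by
    rintro a b ⟨V, hV, r, hr, rfl⟩ ⟨W, hW, s, hs, rfl⟩
    refine ⟨V ⊓ W, ⟨hV, hW⟩, resO inf_le_left r + resO inf_le_right s,
      add_mem (resO_mem I _ hr) (resO_mem I _ hs), ?_⟩
    rw [map_add, gmO_resO, gmO_resO]
  smul_mem' := by
    rintro c a ⟨V, hV, r, hr, rfl⟩
    obtain ⟨W, hW, s, rfl⟩ := exists_gmO y c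
    refine ⟨V ⊓ W, ⟨hV, hW⟩, resO inf_le_right s * resO inf_le_left r,
      Ideal.mul_mem_left _ _ (resO_mem I _ hr), ?_⟩
    rw [map_mul, gmO_resO, gmO_resO]
    rfl

lemma mem_stIdl {n : ℕ} {y : T} {V : Opens T} (hy : y ∈ V) {r : O R V} (hr : r ∈ idl I n V) :
    gmO R y V hy r ∈ stIdl I n y := ⟨V, hy, r, hr, rfl⟩

variable {B : Set (Opens T)} (h : KData φ I I1 B)

include h

lemma stR_mem {n : ℕ} {x : T1} {a : StO R (f x)} (ha : a ∈ stIdl I (n + 1) (f x)) :
    stR φ x a ∈ stIdl I1 n x := by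
  obtain ⟨V, hV, r, hr, rfl⟩ := ha
  rw [stR_gmO]
  exact mem_stIdl _ (h.cm_mem n V r hr)

lemma stIdl_le {n : ℕ} (x : T1) : stIdl I1 n x ≤ (stIdl I (n + 1) (f x)).map (stR φ x) := by
  rintro b ⟨W', hx, r, hr, rfl⟩
  obtain ⟨V', hV', hxV', -, hle⟩ := exists_pre h hx (V := ⊤) trivial
  rw [← gmO_resO x hle hxV']
  have h1 := Ideal.mem_map_of_mem (gmO R1 x (pre f V') hxV') (h.gen n V' hV' (resO_mem I1 hle hr))
  refine (Ideal.map_le_iff_le_comap.2 ?_ : Ideal.map _ _ ≤ _) h1
  refine Ideal.map_le_iff_le_comap.2 fun c hc ↦ ?_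
  have h2 : stR φ x (gmO R (f x) V' hxV' c) ∈ (stIdl I (n + 1) (f x)).map (stR φ x) :=
    Ideal.mem_map_of_mem _ (mem_stIdl _ hc)
  rw [stR_gmO] at h2
  exact h2

/-- The comparison of stalks. -/
lemma cmp (x : T1) :
    letI := stAlg φ x
    AlgBC.Cmp (A := StO R (f x)) (B := StO R1 x) (fun n ↦ stIdl I (n + 1) (f x)) := by
  letI := stAlg φ x
  refine ⟨fun n ↦ ?_, fun n b ↦ ?_, fun n a ha ↦ ?_⟩
  · rintro a ⟨V, hV, r, hr, rfl⟩
    exact mem_stIdl _ (I.antitone' _ V hr)
  · obtain ⟨W', hx, b, rfl⟩ := exists_gmO x b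
    obtain ⟨V', hV', hxV', -, hle⟩ := exists_pre h hx (V := ⊤) trivial
    obtain ⟨a, ha⟩ := h.surj n V' hV' (resO hle b)
    refine ⟨gmO R (f x) V' hxV' a, ?_⟩
    change gmO R1 x W' hx b - stR φ x (gmO R (f x) V' hxV' a) ∈ _
    rw [← gmO_resO x hle hxV', stR_gmO, ← map_sub]
    exact stIdl_le h x (mem_stIdl _ ha)
  · have h1 : stR φ x a ∈ stIdl I1 n x := by
      refine (Ideal.map_le_iff_le_comap.2 (fun c hc ↦ ?_) : Ideal.map _ _ ≤ _) ha
      exact stR_mem h hc
    obtain ⟨W', hxW', b, hb, hab⟩ := h1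
    obtain ⟨V, hV, a, rfl⟩ := exists_gmO (f x) a
    rw [stR_gmO] at hab
    obtain ⟨V₀, hV₀, hxV₀, hle₀, hle₀'⟩ := exists_pre h hxW' hV
    rw [← gmO_resO x hle₀' hxV₀, ← gmO_resO x (pre_mono f hle₀) hxV₀] at hab
    obtain ⟨W₁, hxW₁, hW₁, e⟩ := exists_resO_eq _ hab
    obtain ⟨V₁, hV₁, hxV₁, hle₁, hle₁'⟩ := exists_pre h hxW₁ hxV₀
    have e2 := congrArg (resO hle₁') e
    rw [resO_resO, resO_resO, resO_resO, resO_resO, ← cm_resO φ (hle₁.trans hle₀)] at e2
    have h2 := h.inj n V₁ hV₁ (resO (hle₁.trans hle₀) a) (by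
      rw [← e2]
      exact resO_mem I1 _ hb)
    have h3 := mem_stIdl (n := n + 1) hxV₁ h2
    rwa [gmO_resO] at h3

variable {L : Mod R ⥤ Mod R1} (adj : L ⊣ push φ)

omit h in
lemma exists_kill {N : Mod R} (hN : IsTors I N) (y : T) (t : St N y) :
    ∃ n, ∀ c ∈ stIdl I (n + 1) y, c • t = 0 := by
  obtain ⟨V, hV, s, rfl⟩ := exists_gm N y t
  obtain ⟨W, hW, hyW, n, hn⟩ := (isTorsSect_iff (I := I) s).1 (hN V s) y hV
  refine ⟨n, ?_⟩
  rintro c ⟨V', hV', r, hr, rfl⟩
  rw [killedBy_iff] at hn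
  have h1 := hn (W ⊓ V') inf_le_left (resO inf_le_right r)
    (I.antitone' n _ (resO_mem I inf_le_right hr))
  rw [res_res] at h1
  rw [← gm_res N y (inf_le_left.trans hW : W ⊓ V' ≤ V) ⟨hyW, hV'⟩,
    ← gmO_resO y (inf_le_right : W ⊓ V' ≤ V') ⟨hyW, hV'⟩, ← gm_smul]
  exact (congrArg _ h1).trans (map_zero _)

/-- The stalk of `f^* N` at `x` is the stalk of `N` at `f x`, for `N` torsion. -/
theorem can_bijective {N : Mod R} (hN : IsTors I N) (x : T1) :
    Function.Bijective (can adj N x) := by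
  letI := stAlg φ x
  letI := modOver φ (L.obj N) x
  haveI := isScalarTower φ (L.obj N) x
  exact AlgBC.bijective (cmp h x) (exists_kill hN (f x)) (canₗ adj N x) (isBaseChange_can adj N x)

end Stalk

section Push

/-- The stalk of `f_* P` at `f x` maps to the stalk of `P` at `x`. -/
def psh (P : Mod R1) (x : T1) : St ((push φ).obj P) (f x) →+ St P x :=
  descAdd ((push φ).obj P) (f x) (St P x) (fun V hx ↦ (gm P x (pre f V) hx).comp (ofPush φ))
    (fun V W hle hx s ↦ by
      change gm P x (pre f W) hx (ofPush φ (K29.RSec.res _ hle s)) = gm P x (pre f V) _ (ofPush φ s)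
      rw [ofPush_res, gm_res])

lemma psh_gm (P : Mod R1) (x : T1) (V : Opens T) (hx : f x ∈ V) (s : Sec ((push φ).obj P) V) :
    psh P x (gm ((push φ).obj P) (f x) V hx s) = gm P x (pre f V) hx (ofPush φ s) :=
  descAdd_gm _ _ _ _ _ V hx s

lemma psh_bijective (hf : Topology.IsInducing f) (P : Mod R1) (x : T1) :
    Function.Bijective (psh (φ := φ) P x) := by
  constructor
  · rw [injective_iff_map_eq_zero]
    intro t ht
    obtain ⟨V, hV, s, rfl⟩ := exists_gm ((push φ).obj P) (f x) t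
    rw [psh_gm] at ht
    obtain ⟨W', hxW', hW', e⟩ := exists_res_eq_zero P _ ht
    obtain ⟨U, hU, hUW⟩ := hf.isOpen_iff.1 W'.isOpen
    have hxU : f x ∈ (⟨U, hU⟩ : Opens T) := by
      have : x ∈ f ⁻¹' U := by rw [hUW]; exact hxW'
      exact this
    have hle : pre f ((⟨U, hU⟩ : Opens T) ⊓ V) ≤ W' := by
      intro z hz
      have h2 : z ∈ f ⁻¹' U := hz.1
      rw [hUW] at h2
      exact h2
    rw [← gm_res ((push φ).obj P) (f x) (inf_le_right : (⟨U, hU⟩ : Opens T) ⊓ V ≤ V) ⟨hxU, hV⟩]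
    have e2 : K29.RSec.res ((push φ).obj P) (inf_le_right : (⟨U, hU⟩ : Opens T) ⊓ V ≤ V) s = 0 := by
      have e3 := congrArg (K29.RSec.res P hle) e
      rw [res_res, map_zero] at e3
      exact e3
    rw [e2, map_zero]
  · intro t
    obtain ⟨W', hxW', s, rfl⟩ := exists_gm P x t
    obtain ⟨U, hU, hUW⟩ := hf.isOpen_iff.1 W'.isOpen
    have hxU : f x ∈ (⟨U, hU⟩ : Opens T) := by
      have : x ∈ f ⁻¹' U := by rw [hUW]; exact hxW'
      exact this
    have hle : pre f (⟨U, hU⟩ : Opens T) ≤ W' := by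
      intro z hz
      have h2 : z ∈ f ⁻¹' U := hz
      rw [hUW] at h2
      exact h2
    refine ⟨gm ((push φ).obj P) (f x) ⟨U, hU⟩ hxU (toPush φ (K29.RSec.res P hle s)), ?_⟩
    rw [psh_gm, ofPush_toPush, gm_res]

variable {L : Mod R ⥤ Mod R1} (adj : L ⊣ push φ)

lemma psh_unit (N : Mod R) (x : T1) (t : St N (f x)) :
    psh (L.obj N) x (stMap (adj.unit.app N) (f x) t) = can adj N x t := by
  obtain ⟨V, hV, s, rfl⟩ := exists_gm N (f x) t
  have e := stMap_gm (M := N) (N := (push φ).obj (L.obj N)) (adj.unit.app N) (f x) V hV s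
  have e2 := psh_gm (L.obj N) x V hV (app (adj.unit.app N) V s)
  rw [can_gm, us_apply, ← e2]
  exact congrArg _ e

lemma counit_can (P : Mod R1) (x : T1) (t : St ((push φ).obj P) (f x)) :
    stMap (adj.counit.app P) x (can adj ((push φ).obj P) x t) = psh P x t := by
  obtain ⟨V, hV, s, rfl⟩ := exists_gm ((push φ).obj P) (f x) t
  rw [can_gm, psh_gm]
  have h1 := app_lft_us adj (𝟙 ((push φ).obj P)) V s
  have h2 : lft adj (𝟙 ((push φ).obj P)) = adj.counit.app P := by
    rw [lft, Adjunction.homEquiv_counit, CategoryTheory.Functor.map_id]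
    exact Category.id_comp _
  rw [h2] at h1
  have e := stMap_gm (M := L.obj ((push φ).obj P)) (N := P) (adj.counit.app P) x (pre f V) hV
    (us adj V s)
  refine e.trans ?_
  exact congrArg _ h1

end Push

section Iso

variable {B : Set (Opens T)} (h : KData φ I I1 B) {L : Mod R ⥤ Mod R1} (adj : L ⊣ push φ)

include h

lemma st_eq_zero_of_off {N : Mod R} (hN : IsTors I N) {y : T} (hy : y ∉ Set.range f)
    (t : St N y) : t = 0 := by
  obtain ⟨V, hV, s, rfl⟩ := exists_gm N y t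
  obtain ⟨W, hW, hyW, n, hn⟩ := (isTorsSect_iff (I := I) s).1 (hN V s) y hV
  obtain ⟨V', hyV', h1⟩ := h.off y hy
  rw [killedBy_iff] at hn
  have h2 := hn (W ⊓ V') inf_le_left (resO inf_le_right (1 : O R V'))
    (resO_mem I inf_le_right (h1 n))
  rw [map_one, one_smul, res_res] at h2
  rw [← gm_res N y (inf_le_left.trans hW : W ⊓ V' ≤ V) ⟨hyW, hyV'⟩]
  exact (congrArg _ h2).trans (map_zero _)

/-- The unit is an isomorphism on torsion modules. -/
theorem isIso_unit {N : Mod R} (hN : IsTors I N) : IsIso (adj.unit.app N) := by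
  rw [isIso_iff_stMap]
  intro y
  by_cases hy : y ∈ Set.range f
  · obtain ⟨x, rfl⟩ := hy
    have h1 := can_bijective h adj hN x
    have h2 := psh_bijective (φ := φ) h.emb.isInducing (L.obj N) x
    have h3 : ⇑(can adj N x) = ⇑(psh (φ := φ) (L.obj N) x) ∘ ⇑(stMap (adj.unit.app N) (f x)) :=
      funext fun t ↦ (psh_unit adj N x t).symm
    rw [h3] at h1
    exact (Function.Bijective.of_comp_iff' h2 _).1 h1
  · have h1 := isTors_push h (isTors_pull h adj hN)
    constructor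
    · intro s t _
      rw [st_eq_zero_of_off h hN hy s, st_eq_zero_of_off h hN hy t]
    · intro t
      exact ⟨0, by rw [map_zero, st_eq_zero_of_off h h1 hy t]⟩

/-- The counit is an isomorphism on torsion modules. -/
theorem isIso_counit {P : Mod R1} (hP : IsTors I1 P) : IsIso (adj.counit.app P) := by
  rw [isIso_iff_stMap]
  intro x
  have h1 := can_bijective h adj (isTors_push h hP) x
  have h2 := psh_bijective (φ := φ) h.emb.isInducing P x
  have h3 : ⇑(psh (φ := φ) P x) = ⇑(stMap (adj.counit.app P) x) ∘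
      ⇑(can adj ((push φ).obj P) x) :=
    funext fun t ↦ (counit_can adj P x t).symm
  rw [h3] at h2
  exact (Function.Bijective.of_comp_iff _ h1).1 h2

end Iso

end K920.Kap
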