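import Mathlib.RingTheory.IsTensorProduct
import Mathlib.RingTheory.Ideal.Maps

/-!
# Base change of torsion modules along a ring map which is an isomorphism modulo the ideals
-/

set_option autoImplicit false

namespace K920.AlgBC

variable {A B M M' : Type*} [CommRing A] [CommRing B] [Algebra A B] [AddCommGroup M] [Module A M]
  [AddCommGroup M'] [Module A M'] [Module B M'] [IsScalarTower A B M'] (𝔠 : ℕ → Ideal A)

/-- `B` is isomorphic to `A` modulo all the ideals `𝔠 n`. -/
structure Cmp (𝔠 : ℕ → Ideal A) : Prop where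
  anti : ∀ n, 𝔠 (n + 1) ≤ 𝔠 n
  surj : ∀ (n : ℕ) (b : B), ∃ a : A, b - algebraMap A B a ∈ (𝔠 n).map (algebraMap A B)
  inj : ∀ (n : ℕ) (a : A), algebraMap A B a ∈ (𝔠 n).map (algebraMap A B) → a ∈ 𝔠 n

variable {𝔠}

omit [Module A M'] [IsScalarTower A B M'] in
lemma smul_eq_zero_of_map {g : M → M'} (hg : ∀ (a : A) (m : M), g (a • m) = algebraMap A B a • g m)
    (hg0 : g 0 = 0) {𝔟 : Ideal A} {m : M} (hm : ∀ c ∈ 𝔟, c • m = 0) (b : B)
    (hb : b ∈ 𝔟.map (algebraMap A B)) : b • g m = 0 := by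
  induction hb using Submodule.span_induction with
  | mem x hx =>
    obtain ⟨c, hc, rfl⟩ := hx
    rw [← hg, hm c hc, hg0]
  | zero => rw [zero_smul]
  | add x y _ _ hx hy => rw [add_smul, hx, hy, add_zero]
  | smul a _ _ hx => rw [smul_eq_mul, mul_smul, hx, smul_zero]

lemma surjective (h : Cmp (B := B) 𝔠) (hM : ∀ m : M, ∃ n, ∀ c ∈ 𝔠 n, c • m = 0) (g : M →ₗ[A] M')
    (hg : IsBaseChange B g) : Function.Surjective g := by
  intro x
  have h0 : x ∈ LinearMap.range g := by
    induction x using hg.inductionOn with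
    | zero => exact zero_mem _
    | tmul m => exact ⟨m, rfl⟩
    | smul b x hx =>
      obtain ⟨m, rfl⟩ := hx
      obtain ⟨n, hn⟩ := hM m
      obtain ⟨a, ha⟩ := h.surj n b
      refine ⟨a • m, ?_⟩
      have h1 := smul_eq_zero_of_map (g := g) (fun a m ↦ by rw [map_smul, algebraMap_smul])
        (map_zero g) hn _ ha
      rw [sub_smul, sub_eq_zero] at h1
      rw [h1, map_smul, algebraMap_smul]
    | add x y hx hy => exact add_mem hx hy
  exact h0

section

variable (h : Cmp (B := B) 𝔠) (hM : ∀ m : M, ∃ n, ∀ c ∈ 𝔠 n, c • m = 0)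

include h in
lemma anti' {n m : ℕ} (hnm : n ≤ m) : 𝔠 m ≤ 𝔠 n := antitone_nat_of_succ_le h.anti hnm

include h in
lemma unique {b : B} {m : M} {n n' : ℕ} {a a' : A} (hn : ∀ c ∈ 𝔠 n, c • m = 0)
    (hn' : ∀ c ∈ 𝔠 n', c • m = 0) (ha : b - algebraMap A B a ∈ (𝔠 n).map (algebraMap A B))
    (ha' : b - algebraMap A B a' ∈ (𝔠 n').map (algebraMap A B)) : a • m = a' • m := by
  obtain ⟨a'', ha''⟩ := h.surj (max n n') b
  have h1 : ∀ (k : ℕ) (a₁ : A), k ≤ max n n' → (∀ c ∈ 𝔠 k, c • m = 0) →
      b - algebraMap A B a₁ ∈ (𝔠 k).map (algebraMap A B) → a₁ • m = a'' • m := by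
    intro k a₁ hk hkm ha₁
    have h2 := Ideal.map_mono (f := algebraMap A B) (anti' h hk) ha''
    have h3 := Ideal.sub_mem _ h2 ha₁
    have h4 : b - algebraMap A B a'' - (b - algebraMap A B a₁) = algebraMap A B (a₁ - a'') := by
      rw [map_sub]
      ring
    rw [h4] at h3
    have h5 := hkm _ (h.inj k _ h3)
    rwa [sub_smul, sub_eq_zero] at h5
  rw [h1 n a (le_max_left _ _) hn ha, h1 n' a' (le_max_right _ _) hn' ha']

/-- The action of `B` on `M`. -/
noncomputable def act (b : B) (m : M) : M := (h.surj (hM m).choose b).choose • m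

lemma act_eq {b : B} {m : M} {n : ℕ} {a : A} (hn : ∀ c ∈ 𝔠 n, c • m = 0)
    (ha : b - algebraMap A B a ∈ (𝔠 n).map (algebraMap A B)) : act h hM b m = a • m :=
  unique h (hM m).choose_spec hn (h.surj (hM m).choose b).choose_spec ha

lemma act_algebraMap (a : A) (m : M) : act h hM (algebraMap A B a) m = a • m := by
  obtain ⟨n, hn⟩ := hM m
  refine act_eq h hM hn ?_
  rw [sub_self]
  exact zero_mem _

/-- `M` as a `B`-module. -/
@[instance_reducible]
noncomputable def module : Module B M where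
  smul := act h hM
  one_smul m := by
    change act h hM 1 m = m
    rw [← map_one (algebraMap A B), act_algebraMap, one_smul]
  mul_smul b b' m := by
    change act h hM (b * b') m = act h hM b (act h hM b' m)
    obtain ⟨n, hn⟩ := hM m
    obtain ⟨a, ha⟩ := h.surj n b
    obtain ⟨a', ha'⟩ := h.surj n b'
    have hn' : ∀ c ∈ 𝔠 n, c • (a' • m) = 0 := fun c hc ↦ by
      rw [smul_comm, hn c hc, smul_zero]
    rw [act_eq h hM hn ha', act_eq h hM hn' ha, ← mul_smul]
    refine act_eq h hM hn ?_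
    have e : b * b' - algebraMap A B (a * a') =
        b * (b' - algebraMap A B a') + algebraMap A B a' * (b - algebraMap A B a) := by
      rw [map_mul]
      ring
    rw [e]
    exact add_mem (Ideal.mul_mem_left _ _ ha') (Ideal.mul_mem_left _ _ ha)
  smul_zero b := by
    change act h hM b 0 = 0
    rw [act, smul_zero]
  smul_add b m m' := by
    change act h hM b (m + m') = act h hM b m + act h hM b m'
    obtain ⟨n, hn⟩ := hM m
    obtain ⟨n', hn'⟩ := hM m'
    have k1 : ∀ c ∈ 𝔠 (max n n'), c • m = 0 := fun c hc ↦ hn c (anti' h (le_max_left _ _) hc)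
    have k2 : ∀ c ∈ 𝔠 (max n n'), c • m' = 0 := fun c hc ↦ hn' c (anti' h (le_max_right _ _) hc)
    have k3 : ∀ c ∈ 𝔠 (max n n'), c • (m + m') = 0 := fun c hc ↦ by
      rw [smul_add, k1 c hc, k2 c hc, add_zero]
    obtain ⟨a, ha⟩ := h.surj (max n n') b
    rw [act_eq h hM k1 ha, act_eq h hM k2 ha, act_eq h hM k3 ha, smul_add]
  add_smul b b' m := by
    change act h hM (b + b') m = act h hM b m + act h hM b' m
    obtain ⟨n, hn⟩ := hM m
    obtain ⟨a, ha⟩ := h.surj n b
    obtain ⟨a', ha'⟩ := h.surj n b'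
    rw [act_eq h hM hn ha, act_eq h hM hn ha', ← add_smul]
    refine act_eq h hM hn ?_
    have e : b + b' - algebraMap A B (a + a') =
        (b - algebraMap A B a) + (b' - algebraMap A B a') := by
      rw [map_add]
      ring
    rw [e]
    exact add_mem ha ha'
  zero_smul m := by
    change act h hM 0 m = 0
    rw [← map_zero (algebraMap A B), act_algebraMap, zero_smul]

end

lemma injective (h : Cmp (B := B) 𝔠) (hM : ∀ m : M, ∃ n, ∀ c ∈ 𝔠 n, c • m = 0) (g : M →ₗ[A] M')
    (hg : IsBaseChange B g) : Function.Injective g := by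
  letI := module h hM
  haveI : IsScalarTower A B M := ⟨fun a b m ↦ by
    change act h hM (a • b) m = a • act h hM b m
    rw [Algebra.smul_def]
    have h1 := mul_smul (algebraMap A B a) b m
    change act h hM (algebraMap A B a * b) m = act h hM (algebraMap A B a) (act h hM b m) at h1
    rw [h1, act_algebraMap]⟩
  intro m m' hmm
  have h1 := hg.lift_eq (LinearMap.id : M →ₗ[A] M) m
  have h2 := hg.lift_eq (LinearMap.id : M →ₗ[A] M) m'
  rw [hmm] at h1
  exact h1.symm.trans h2

theorem bijective (h : Cmp (B := B) 𝔠) (hM : ∀ m : M, ∃ n, ∀ c ∈ 𝔠 n, c • m = 0)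
    (g : M →ₗ[A] M') (hg : IsBaseChange B g) : Function.Bijective g :=
  ⟨injective h hM g hg, surjective h hM g hg⟩

end K920.AlgBC
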