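import Groth.Agent.FTors.K920.Sec

/-!
# Cohomology sheaves and quasi-isomorphisms in terms of sections
-/

set_option autoImplicit false

universe u

open CategoryTheory CategoryTheory.Limits Opposite TopologicalSpace

namespace K920.Qis

open FTors Groth.Agent.Gaga.H976 K920.Sec

variable {T : TopCat.{u}} {O : Sheaf (Opens.grothendieckTopology T) CommRingCat.{u}}

variable (K L : CochainComplex (ModSite.Mod O) ℤ)

/-- The differential on sections. -/
noncomputable abbrev dd (i j : ℤ) (U : Opens T) :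
    ModSite.sect (K.X i) U →ₗ[Rg O U] ModSite.sect (K.X j) U := ap (K.d i j) U

variable {K L}

lemma exists_cycle {i j : ℤ} (hij : i + 1 = j) {U : Opens T} (s : ModSite.sect (K.X i) U)
    (hs : dd K i j U s = 0) : ∃ c : ModSite.sect (K.cycles i) U, ap (K.iCycles i) U c = s := by
  obtain ⟨k, hk⟩ := TM0.exists_kernel (K.d i j) (op U) s hs
  refine ⟨ap (K.liftCycles (kernel.ι (K.d i j)) j (by simp [hij]) (kernel.condition _)) U k, ?_⟩
  rw [← ap_comp, K.liftCycles_i]
  exact hk

lemma dd_iCycles {i j : ℤ} {U : Opens T} (c : ModSite.sect (K.cycles i) U) :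
    dd K i j U (ap (K.iCycles i) U c) = 0 := by
  rw [dd, ← ap_comp, K.iCycles_d, ap_zero]

lemma iCycles_injective (i : ℤ) (U : Opens T) : Function.Injective (ap (K.iCycles i) U) :=
  (Sec.mono_iff_injective _).1 inferInstance U

/-- The class of a cocycle over `U`, vanishing locally iff the cocycle is locally a coboundary. -/
lemma exists_of_homologyπ_eq_zero {i j : ℤ} (hij : i + 1 = j) {U : Opens T}
    (c : ModSite.sect (K.cycles j) U) (hc : ap (K.homologyπ j) U c = 0) (x : T) (hx : x ∈ U) :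
    ∃ (V : Opens T) (hV : V ≤ U), x ∈ V ∧ ∃ t : ModSite.sect (K.X i) V,
      dd K i j V t = rm _ hV (ap (K.iCycles j) U c) := by
  have hex : (ShortComplex.mk (K.toCycles i j) (K.homologyπ j) (by simp)).Exact :=
    ShortComplex.exact_of_g_is_cokernel _
      (K.homologyIsCokernel i j (by rw [← hij]; simp))
  obtain ⟨V, hV, hxV, t, ht⟩ := exact_locally hex c hc x hx
  refine ⟨V, hV, hxV, t, ?_⟩
  have h1 := congrArg (ap (K.iCycles j) V) ht
  dsimp only at h1
  rw [← ap_comp, K.toCycles_i, ap_rm] at h1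
  exact h1

lemma homologyπ_eq_zero {i j : ℤ} {U : Opens T} (c : ModSite.sect (K.cycles j) U)
    (t : ModSite.sect (K.X i) U) (h : dd K i j U t = ap (K.iCycles j) U c) :
    ap (K.homologyπ j) U c = 0 := by
  have h1 : ap (K.toCycles i j) U t = c := by
    apply iCycles_injective
    rw [← ap_comp, K.toCycles_i, h]
  rw [← h1, ← ap_comp, K.toCycles_comp_homologyπ, ap_zero]

lemma homologyπ_locally {j : ℤ} {U : Opens T} (h : ModSite.sect (K.homology j) U) (x : T)
    (hx : x ∈ U) : ∃ (V : Opens T) (hV : V ≤ U), x ∈ V ∧ ∃ c : ModSite.sect (K.cycles j) V,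
      ap (K.homologyπ j) V c = rm _ hV h :=
  (epi_iff_locally (K.homologyπ j)).1 inferInstance U h x hx

/-- A morphism of complexes is a quasi-isomorphism if it is so on sections, locally. -/
theorem quasiIso_of_locally (f : K ⟶ L)
    (hsurj : ∀ (i j : ℤ), i + 1 = j → ∀ (U : Opens T) (s : ModSite.sect (L.X j) U),
      dd L j (j + 1) U s = 0 → ∀ x ∈ U, ∃ (V : Opens T) (hV : V ≤ U), x ∈ V ∧
        ∃ (s' : ModSite.sect (K.X j) V) (z : ModSite.sect (L.X i) V), dd K j (j + 1) V s' = 0 ∧
          rm _ hV s = ap (f.f j) V s' + dd L i j V z)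
    (hinj : ∀ (i j : ℤ), i + 1 = j → ∀ (U : Opens T) (s : ModSite.sect (K.X j) U)
      (z : ModSite.sect (L.X i) U), dd K j (j + 1) U s = 0 → ap (f.f j) U s = dd L i j U z →
      ∀ x ∈ U, ∃ (V : Opens T) (hV : V ≤ U), x ∈ V ∧ ∃ w : ModSite.sect (K.X i) V,
        rm _ hV s = dd K i j V w) : QuasiIso f := by
  rw [quasiIso_iff]
  intro j
  rw [quasiIsoAt_iff_isIso_homologyMap]
  have hepi : Epi (HomologicalComplex.homologyMap f j) := by
    rw [epi_iff_locally]
    intro U h x hx
    obtain ⟨V, hV, hxV, c, hc⟩ := homologyπ_locally h x hx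
    obtain ⟨W, hW, hxW, s', z, hs', e⟩ := hsurj (j - 1) j (by simp) V (ap (L.iCycles j) V c)
      (dd_iCycles c) x hxV
    obtain ⟨c', hc'⟩ := exists_cycle rfl s' hs'
    refine ⟨W, hW.trans hV, hxW, ap (K.homologyπ j) W c', ?_⟩
    have h1 : ap (HomologicalComplex.cyclesMap f j) W c' + ap (L.toCycles (j - 1) j) W z =
        rm _ hW c := by
      apply iCycles_injective
      rw [map_add, ← ap_comp, ← ap_comp, HomologicalComplex.cyclesMap_i, L.toCycles_i, ap_comp, hc',
        ap_rm, e]
    have h2 : ap (L.homologyπ j) W (ap (L.toCycles (j - 1) j) W z) = 0 := by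
      rw [← ap_comp, L.toCycles_comp_homologyπ, ap_zero]
    rw [← ap_comp, HomologicalComplex.homologyπ_naturality, ap_comp, ← rm_rm _ hV hW, ← hc, ← ap_rm,
      ← h1, map_add, h2, add_zero]
  have hmono : Mono (HomologicalComplex.homologyMap f j) := by
    rw [Sec.mono_iff_injective]
    intro U
    rw [injective_iff_map_eq_zero]
    intro h hh
    refine eq_zero_of_locally _ fun x hx ↦ ?_
    obtain ⟨V, hV, hxV, c, hc⟩ := homologyπ_locally h x hx
    have h1 : ap (L.homologyπ j) V (ap (HomologicalComplex.cyclesMap f j) V c) = 0 := by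
      rw [← ap_comp, ← HomologicalComplex.homologyπ_naturality, ap_comp, hc, ap_rm, hh, map_zero]
    obtain ⟨W, hW, hxW, z, hz⟩ := exists_of_homologyπ_eq_zero (i := j - 1) (by simp) _ h1 x hxV
    rw [← ap_comp, HomologicalComplex.cyclesMap_i, ap_comp] at hz
    obtain ⟨W', hW', hxW', w, hw⟩ := hinj (j - 1) j (by simp) W
      (rm _ hW (ap (K.iCycles j) V c)) z (by rw [dd, ap_rm, dd_iCycles, map_zero])
      (by rw [ap_rm, hz]) x hxW
    refine ⟨W', hW'.trans (hW.trans hV), hxW', ?_⟩
    rw [← rm_rm _ (hW.trans hV) hW', ← rm_rm _ hV hW, ← hc, ← ap_rm, ← ap_rm]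
    refine homologyπ_eq_zero (i := j - 1) _ w ?_
    rw [← hw, ap_rm, ap_rm]
  exact isIso_of_mono_of_epi _

end K920.Qis
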