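import Groth.Agent.FTors.K920.Div
import Groth.Agent.FTors.K920.Qis
import Groth.Agent.FTors.K920.TorsDer2

/-!
# Torsion complexes of injectives are computed by `Γ_I` for locally adic-noetherian families
-/

set_option autoImplicit false

universe u

open CategoryTheory CategoryTheory.Limits Opposite TopologicalSpace

namespace K920.Good

open FTors K920.Sec K920.Qis K920.TorsDer K920.TorsMod

variable {T : TopCat.{u}} {O : Sheaf (Opens.grothendieckTopology T) CommRingCat.{u}}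

variable {I : IdealFam O} {U : Opens T} {𝔞 : Ideal (Rg O U)} {B : Set (Opens T)}
  (hU : IsGoodOpen I U 𝔞 B)

include hU

/-- In a complex with torsion cohomology, for `t ∈ 𝔞`, a cocycle multiplied by a power of `t` is locally a
coboundary. -/
theorem pow_smul_boundary (K : CochainComplex (ModSite.Mod O) ℤ)
    (hT : ∀ n, IsTors I (K.homology n)) {i j : ℤ} (hij : i + 1 = j) {V : Opens T} (h : V ≤ U)
    {t : Rg O U} (ht : t ∈ 𝔞) (s : ModSite.sect (K.X j) V) (hs : dd K j (j + 1) V s = 0)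
    (x : T) (hx : x ∈ V) :
    ∃ (W : Opens T) (hW : W ≤ V), x ∈ W ∧ ∃ (k : ℕ) (z : ModSite.sect (K.X i) W),
      dd K i j W z = ro (O := O) (hW.trans h) (t ^ k) • rm _ hW s := by
  obtain ⟨c, hc⟩ := exists_cycle rfl s hs
  have h1 : LT (K.homology j) h 𝔞 (ap (K.homologyπ j) V c) := (isTorsSect_iff hU h _).1 (hT j V _)
  obtain ⟨W, hW, hxW, k, hk⟩ := h1 x hx
  have h2 := hk _ (Ideal.pow_mem_pow ht k)
  rw [← ap_rm, ← map_smul] at h2
  obtain ⟨W', hW', hxW', z, hz⟩ := exists_of_homologyπ_eq_zero hij _ h2 x hxW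
  refine ⟨W', hW'.trans hW, hxW', k, z, ?_⟩
  rw [hz, map_smul, ap_rm, rm_smul, hc, rm_rm, ro_ro]

/-- The key claim. -/
theorem claim (K : CochainComplex (ModSite.Mod O) ℤ) (hinj : ∀ n, Injective (K.X n))
    (hT : ∀ n, IsTors I (K.homology n)) (F : Finset (Rg O U)) (hF : ∀ t ∈ F, t ∈ 𝔞) :
    ∀ (i j : ℤ), i + 1 = j → ∀ (V : Opens T) (h : V ≤ U) (s : ModSite.sect (K.X j) V),
      LT _ h (Ideal.span (F : Set (Rg O U))) (dd K j (j + 1) V s) → ∀ x ∈ V,
      ∃ (W : Opens T) (hW : W ≤ V), x ∈ W ∧ ∃ z : ModSite.sect (K.X i) W,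
        LT _ (hW.trans h) (Ideal.span (F : Set (Rg O U))) (rm _ hW s - dd K i j W z) := by
  classical
  induction F using Finset.induction_on with
  | empty =>
    intro i j hij V h s _ x hx
    refine ⟨V, le_rfl, hx, 0, ?_⟩
    have : Ideal.span ((∅ : Finset (Rg O U)) : Set (Rg O U)) = ⊥ := by simp
    rw [this]
    exact LT.bot
  | insert t F htF ih =>
    have ih' := ih (fun t' ht' ↦ hF t' (Finset.mem_insert_of_mem ht'))
    clear ih
    have ht : t ∈ 𝔞 := hF t (Finset.mem_insert_self _ _)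
    have hspan : Ideal.span ((insert t F : Finset (Rg O U)) : Set (Rg O U)) =
        Ideal.span {t} ⊔ Ideal.span (F : Set (Rg O U)) := by
      rw [Finset.coe_insert, Ideal.span_insert]
    rw [hspan]
    set 𝔟 := Ideal.span (F : Set (Rg O U)) with h𝔟
    intro i j hij V h s hs x hx
    -- first step: make `s` locally `𝔟`-torsion
    obtain ⟨W₁, hW₁, hx₁, z₀, hz₀⟩ := ih' i j hij V h s (hs.mono le_sup_right) x hx
    set s' := rm _ hW₁ s - dd K i j W₁ z₀ with hs'
    have hds' : dd K j (j + 1) W₁ s' = rm _ hW₁ (dd K j (j + 1) V s) := by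
      rw [hs', map_sub, dd, dd, ap_rm, ← ap_comp, K.d_comp_d, ap_zero, sub_zero]
    -- `t^k d s' = 0` near `x`
    have h1 : LT _ (hW₁.trans h) (Ideal.span {t}) (dd K j (j + 1) W₁ s') := by
      rw [hds']
      exact (hs.mono le_sup_left).rm hW₁
    obtain ⟨W₂, hW₂, hx₂, k, hk⟩ := h1 x hx₁
    have h2 : dd K j (j + 1) W₂ (ro (O := O) (hW₂.trans (hW₁.trans h)) (t ^ k) • rm _ hW₂ s') = 0 := by
      rw [map_smul, dd, ap_rm]
      exact hk _ (Ideal.pow_mem_pow (Ideal.mem_span_singleton_self t) k)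
    -- a multiple is a coboundary
    obtain ⟨W₃, hW₃, hx₃, l, z, hz⟩ := pow_smul_boundary hU K hT hij
      (hW₂.trans (hW₁.trans h)) ht _ h2 x hx₂
    have hz' : dd K i j W₃ z =
        ro (O := O) (hW₃.trans (hW₂.trans (hW₁.trans h))) (t ^ (l + k)) •
          rm _ (hW₃.trans hW₂) s' := by
      rw [hz, rm_smul, ro_ro, rm_rm, ← mul_smul, ← map_mul, ← pow_add]
    -- make `z` locally `𝔟`-torsion
    have h3 : LT _ (hW₃.trans (hW₂.trans (hW₁.trans h))) 𝔟 (dd K i (i + 1) W₃ z) := by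
      subst hij
      rw [hz']
      exact (hz₀.rm (hW₃.trans hW₂)).smul _
    obtain ⟨W₄, hW₄, hx₄, w, hw⟩ := ih' (i - 1) i (by simp) W₃
      (hW₃.trans (hW₂.trans (hW₁.trans h))) z h3 x hx₃
    set z₁ := rm _ hW₄ z - dd K (i - 1) i W₄ w with hz₁
    have hdz₁ : dd K i j W₄ z₁ =
        ro (O := O) (hW₄.trans (hW₃.trans (hW₂.trans (hW₁.trans h)))) (t ^ (l + k)) •
          rm _ (hW₄.trans (hW₃.trans hW₂)) s' := by
      rw [hz₁, map_sub, dd, dd, ap_rm, ← ap_comp, K.d_comp_d, ap_zero, sub_zero]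
      change rm _ hW₄ (dd K i j W₃ z) = _
      rw [hz', rm_smul, ro_ro, rm_rm]
    -- divide
    have := hinj i
    obtain ⟨W₅, hW₅, hx₅, m, y, hy, hty⟩ := divis hU (K.X i)
      (hW₄.trans (hW₃.trans (hW₂.trans (hW₁.trans h)))) 𝔟 t z₁ hw (l + k) x hx₄
    refine ⟨W₅, hW₅.trans (hW₄.trans (hW₃.trans (hW₂.trans hW₁))), hx₅,
      rm _ (hW₅.trans (hW₄.trans (hW₃.trans hW₂))) z₀ + y, ?_⟩
    have e1 : rm _ (hW₅.trans (hW₄.trans (hW₃.trans (hW₂.trans hW₁)))) s -
        dd K i j W₅ (rm _ (hW₅.trans (hW₄.trans (hW₃.trans hW₂))) z₀ + y) =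
        rm _ (hW₅.trans (hW₄.trans (hW₃.trans hW₂))) s' - dd K i j W₅ y := by
      rw [hs', map_sub, map_add, rm_rm, dd, ap_rm]
      abel
    rw [e1]
    refine LT.sup ?_ ?_
    · refine LT.of_kill (k := m + (l + k)) (kill_span_singleton_pow ?_)
      have e2 : ro (O := O) (hW₅.trans (hW₄.trans (hW₃.trans (hW₂.trans (hW₁.trans h)))))
          (t ^ (m + (l + k))) • dd K i j W₅ y =
          ro (O := O) (hW₅.trans (hW₄.trans (hW₃.trans (hW₂.trans (hW₁.trans h)))))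
            (t ^ m) • rm _ hW₅ (dd K i j W₄ z₁) := by
        rw [← (dd K i j W₅).map_smul, hty, (dd K i j W₅).map_smul]
        congr 1
        exact ap_rm _ hW₅ z₁
      rw [smul_sub, sub_eq_zero]
      refine Eq.trans ?_ e2.symm
      rw [hdz₁, rm_smul, ro_ro, rm_rm, ← mul_smul, ← map_mul, ← pow_add]
    · exact (hz₀.rm _).sub (hy.ap _)

/-- The key claim for `𝔞` itself. -/
theorem claim_top (K : CochainComplex (ModSite.Mod O) ℤ) (hinj : ∀ n, Injective (K.X n))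
    (hT : ∀ n, IsTors I (K.homology n)) (i j : ℤ) (hij : i + 1 = j) (V : Opens T) (h : V ≤ U)
    (s : ModSite.sect (K.X j) V) (hs : LT _ h 𝔞 (dd K j (j + 1) V s)) (x : T) (hx : x ∈ V) :
      ∃ (W : Opens T) (hW : W ≤ V), x ∈ W ∧ ∃ z : ModSite.sect (K.X i) W,
        LT _ (hW.trans h) 𝔞 (rm _ hW s - dd K i j W z) := by
  have := hU.noeth
  obtain ⟨F, hF⟩ := (IsNoetherian.noetherian 𝔞 : 𝔞.FG)
  have hF' : Ideal.span (F : Set (Rg O U)) = 𝔞 := hF
  have h1 := claim hU K hinj hT F (fun t ht ↦ by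
    rw [← hF']
    exact Ideal.subset_span ht) i j hij V h s
  rw [hF'] at h1
  exact h1 hs x hx

omit hU in
lemma dd_rm (K : CochainComplex (ModSite.Mod O) ℤ) (i j : ℤ) {V W : Opens T} (h : W ≤ V)
    (s : ModSite.sect (K.X i) V) : dd K i j W (rm _ h s) = rm _ h (dd K i j V s) :=
  ap_rm _ h s

omit hU in
/-- Torsion complexes of injectives are computed by `Γ_I`. -/
theorem quasiIso_incl (hI : GoodFam I) (K : CochainComplex (ModSite.Mod O) ℤ)
    (hinj : ∀ n, Injective (K.X n)) (hT : ∀ n, IsTors I (K.homology n)) : QuasiIso (incl I K) := by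
  let ΓK := ((gamma O I).mapHomologicalComplex (ComplexShape.up ℤ)).obj K
  have hd : ∀ (i j : ℤ) (V : Opens T) (s : ModSite.sect (ΓK.X i) V),
      ap ((incl I K).f j) V (dd ΓK i j V s) = dd K i j V (ap ((incl I K).f i) V s) := by
    intro i j V s
    rw [dd, dd, ← ap_comp, ← ap_comp, (incl I K).comm i j]
  have hinj' : ∀ (i : ℤ) (V : Opens T), Function.Injective (ap ((incl I K).f i) V) := by
    intro i V
    rw [incl_f]
    exact gammaι_injective (K.X i) (op V)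
  have hlift : ∀ (i : ℤ) (V : Opens T) (s : ModSite.sect (K.X i) V), IsTorsSect I (K.X i) s →
      ∃ s' : ModSite.sect (ΓK.X i) V, ap ((incl I K).f i) V s' = s := by
    intro i V s hs
    rw [incl_f]
    exact ⟨(⟨s, hs⟩ : torsSub I (K.X i) V), rfl⟩
  have htors : ∀ (i : ℤ) (V : Opens T) (s : ModSite.sect (ΓK.X i) V),
      IsTorsSect I (K.X i) (ap ((incl I K).f i) V s) := by
    intro i V s
    rw [incl_f]
    exact s.2
  refine quasiIso_of_locally (incl I K) ?_ ?_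
  · intro i j hij V s hs x hx
    obtain ⟨U, hxU, 𝔞, B, hU⟩ := hI x
    have h1 : LT _ (inf_le_right : V ⊓ U ≤ U) 𝔞
        (dd K j (j + 1) (V ⊓ U) (rm _ inf_le_left s)) := by
      rw [dd_rm, hs, map_zero]
      exact (isTorsSect_iff hU _ _).1 (IsTorsSect.zero I _ _)
    obtain ⟨W, hW, hxW, z, hz⟩ := claim_top hU K hinj hT i j hij (V ⊓ U) inf_le_right _ h1 x
      ⟨hx, hxU⟩
    obtain ⟨s', hs'⟩ := hlift j W _ ((isTorsSect_iff hU _ _).2 hz)
    refine ⟨W, hW.trans inf_le_left, hxW, s', z, ?_, ?_⟩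
    · apply hinj'
      rw [hd, hs', map_sub, map_zero, dd_rm, dd_rm, hs, map_zero, map_zero, zero_sub, neg_eq_zero,
        dd, dd, ← ap_comp, K.d_comp_d, ap_zero]
    · rw [hs', rm_rm, sub_add_cancel]
  · intro i j hij V s z _ hz x hx
    obtain ⟨U, hxU, 𝔞, B, hU⟩ := hI x
    have h1 : LT _ (inf_le_right : V ⊓ U ≤ U) 𝔞
        (dd K i (i + 1) (V ⊓ U) (rm _ inf_le_left z)) := by
      subst hij
      rw [dd_rm, ← hz]
      exact (isTorsSect_iff hU _ _).1 ((htors _ V s).res (homOfLE inf_le_left))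
    obtain ⟨W, hW, hxW, w, hw⟩ := claim_top hU K hinj hT (i - 1) i (by simp) (V ⊓ U) inf_le_right _
      h1 x ⟨hx, hxU⟩
    obtain ⟨w', hw'⟩ := hlift i W _ ((isTorsSect_iff hU _ _).2 hw)
    refine ⟨W, hW.trans inf_le_left, hxW, w', ?_⟩
    apply hinj'
    rw [hd, hw', map_sub, dd_rm, dd_rm, ap_rm, hz, rm_rm, dd, dd, dd, ← ap_comp (K.d (i - 1) i),
      K.d_comp_d, ap_zero, sub_zero]

omit hU in
theorem goodD_of_goodFam (hI : GoodFam I) : GoodD I :=
  fun K _ hinj hT ↦ quasiIso_incl hI K hinj hT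

end K920.Good
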