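import Groth.Agent.FTors.K919.AffFlat
import Groth.Agent.FTors.K920.GoodDer

/-!
# The open ideals of a locally noetherian formal scheme form a good family
-/

set_option autoImplicit false

universe u

open CategoryTheory CategoryTheory.Limits Opposite TopologicalSpace AlgebraicGeometry

namespace K920.Good

open FTors K920.Sec K919.AffBasic K919.AffFlat

variable {𝔛 : FSch.Sys.{u}} (h𝔛 : 𝔛.IsLocNoethFormal)

lemma openIdealFam_eq {V : (𝔛.X 0).Opens} (hV : IsAffineOpen (𝔛.lvU h𝔛.1 0 V)) (n : ℕ) :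
    (openIdealFam 𝔛 h𝔛.1).ideal n V = II 𝔛 h𝔛.1 V ^ (n + 1) := ker_pr h𝔛 hV n

lemma isGoodOpen_openIdealFam {U : (𝔛.X 0).Opens} (hU : IsAffineOpen (𝔛.lvU h𝔛.1 0 U)) :
    IsGoodOpen (T := (𝔛.X 0).carrier) (openIdealFam 𝔛 h𝔛.1) U (II 𝔛 h𝔛.1 U)
      {V | IsAffineOpen (𝔛.lvU h𝔛.1 0 V) ∧ V ≤ U} where
  noeth := isNoetherianRing_OU h𝔛 hU
  le V hV := hV.2
  flat V hV := flat_rs h𝔛 hU hV.1 hV.2
  basis W hW x hx := by
    obtain ⟨V, hV, hxV, hVW⟩ := Opens.isBasis_iff_nbhd.mp (𝔛.X 0).isBasis_affineOpens hx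
    refine ⟨V, ⟨?_, hVW.trans hW⟩, hxV, hVW⟩
    rw [lvU_zero]
    exact hV
  pow_le n := ⟨n + 1, fun V hV ↦ by
    rw [openIdealFam_eq h𝔛 hV.1, ← map_II h𝔛 hU hV.1 hV.2, Ideal.map_pow]
    exact le_rfl⟩
  le_pow m := ⟨m, fun V hV ↦ by
    rw [openIdealFam_eq h𝔛 hV.1, ← map_II h𝔛 hU hV.1 hV.2, Ideal.map_pow]
    exact Ideal.pow_le_pow_right (Nat.le_succ m)⟩

/-- On a locally noetherian formal scheme the open ideals form a good family. -/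
theorem goodFam_openIdealFam : GoodFam (T := (𝔛.X 0).carrier) (openIdealFam 𝔛 h𝔛.1) := by
  intro x
  obtain ⟨U, hU, hxU, -⟩ := Opens.isBasis_iff_nbhd.mp (𝔛.X 0).isBasis_affineOpens
    (show x ∈ (⊤ : (𝔛.X 0).Opens) from trivial)
  have hU' : IsAffineOpen (𝔛.lvU h𝔛.1 0 U) := by
    rw [lvU_zero]
    exact hU
  exact ⟨U, hxU, _, _, isGoodOpen_openIdealFam h𝔛 hU'⟩

theorem goodD_openIdealFam : TorsDer.GoodD (openIdealFam 𝔛 h𝔛.1) :=
  goodD_of_goodFam (goodFam_openIdealFam h𝔛)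

end K920.Good
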