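import Groth.Agent.DerComp.K779.Local
import Groth.Prelude.Def_FTors

/-!
# Free modules on the members of a basis generate the derived category of a ringed site

Versions of `K779.Gen` and `K779.Local.cpl_of_hc` for a class of objects `B` such that the sieve generated by the arrows from
members of `B` is covering (instead of requiring that `B` contains a covering sieve).
-/

set_option autoImplicit false

universe u

open CategoryTheory CategoryTheory.Limits Opposite Pretriangulated

attribute [local instance] HasDerivedCategory.standard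

namespace K920.GenB

open K779.Sec Groth.Agent.PerfA.PostAbs Groth.Agent.PerfA.TildeAbs K779.Gen

variable {C : Type u} [SmallCategory C] {J : GrothendieckTopology C} (O : Sheaf J CommRingCat.{u})

/-- every object is covered by arrows from members of `B`. -/
def Cov (J : GrothendieckTopology C) (B : C → Prop) : Prop :=
  ∀ U : C, Sieve.generate (fun (V : C) (_ : V ⟶ U) => B V) ∈ J U

variable {O} in
theorem eq_zero_of_cov {B : C → Prop} (hB : Cov J B) {F : ModSite.Mod O} {U : C} (x : F.val.obj (op U))
    (h : ∀ ⦃V : C⦄ (g : V ⟶ U), B V → F.val.map g.op x = 0) : x = 0 := by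
  refine eq_zero_of_locally x _ (hB U) ?_
  rintro V _ ⟨W, g, k, hk, rfl⟩
  have h1 := FTors.res_comp F k g x
  refine h1.trans ?_
  have h2 : FTors.res F k x = 0 := h k hk
  rw [h2, FTors.res_zero]
  rfl

theorem detects (B : C → Prop) (hB : Cov J B) : Detects (freeP O B) := by
  intro F G f hf
  by_contra hcon
  push Not at hcon
  apply hf
  ext X x
  refine eq_zero_of_cov (F := G) hB (U := X.unop) _ fun V g hg => ?_
  let y : F.val.obj (op V) := F.val.map g.op x
  have h1 : (sec O V F).symm y ≫ f = 0 := hcon (ModSite.freeOn O V) ⟨V, hg, rfl⟩ ((sec O V F).symm y)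
  have h2 := sec_comp O V ((sec O V F).symm y) f
  rw [h1, map_zero, AddEquiv.apply_symm_apply] at h2
  refine Eq.trans ?_ h2.symm
  exact (PresheafOfModules.naturality_apply f.val g.op x).symm

/-- An object of `D(O)` is zero if `H^n(V, K) = 0` for all `n` and all `V` in `B`. -/
theorem isZero_of_subsingleton (B : C → Prop) (hB : Cov J B) (K : DerivedCategory (ModSite.Mod O))
    (h : ∀ V, B V → ∀ n : ℤ, Subsingleton (SiteCmp.inD O (ModSite.freeOn O V) ⟶ K⟦n⟧)) : IsZero K := by
  refine isZero_of_hom_single (detects O B hB) K ?_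
  rintro m _ ⟨V, hV, rfl⟩ φ
  let e := ((DerivedCategory.singleFunctors (ModSite.Mod O)).shiftIso m 0 m (by simp)).app (ModSite.freeOn O V)
  apply (shiftFunctor (DerivedCategory (ModSite.Mod O)) m).map_injective
  rw [Functor.map_zero, ← cancel_epi e.inv, comp_zero]
  exact (h V hV m).elim _ _

open K779.HU K779.Tri K779.Tri3 K779.Local K230.DCSeq
open _root_.K779.Trans

theorem detects_freeP (B : C → Prop) (hB : Cov J B) (Z : DerivedCategory (ModSite.Mod O))
    (h : ∀ Y, FreeP O B Y → ∀ n : ℤ, Subsingleton (Y ⟶ Z⟦n⟧)) : IsZero Z :=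
  isZero_of_subsingleton O B hB Z fun V hV n => h _ ⟨V, hV, rfl⟩ n

/-- completeness is detected by the cohomology groups over the members of `B` -/
theorem cpl_of_hc {B : C → Prop} (hB : Cov J B) (s : DerComp.GSec O) (K : DerivedCategory (ModSite.Mod O))
    (h : ∀ V, B V → ∀ n : ℤ, HC O K V (s.1 V) n) : Cpl s K := by
  refine cpl_of_detect s K (FreeP O B) (detects_freeP O B hB) ?_
  rintro Y ⟨V, hV, rfl⟩ n
  exact (hc_iff_dc_smul K V s n).1 (h V hV n)

/-- the induced class on a localised site. -/
theorem cov_over {B : C → Prop} (hB : Cov J B) (U : C) : Cov (J.over U) (fun W : Over U => B W.left) := by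
  intro W
  rw [GrothendieckTopology.mem_over_iff]
  refine J.superset_covering ?_ (hB W.left)
  rintro V _ ⟨V', g, k, hk, rfl⟩
  rw [Sieve.overEquiv_iff]
  exact ⟨Over.mk (k ≫ W.hom), Over.homMk g, Over.homMk k, hk, rfl⟩

/-- completeness of the restriction to `U` with respect to a section over `U`. -/
theorem cpl_restr {B : C → Prop} (hB : Cov J B) (K : DerivedCategory (ModSite.Mod O)) {U : C} (f : O.obj.obj (op U))
    (h : ∀ ⦃V : C⦄ (g : V ⟶ U), B V → ∀ n : ℤ, HC O K V ((O.obj.map g.op).hom f) n) :
    Cpl (DerComp.GSec.ofSect O U f) ((restrD O U).obj K) :=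
  cpl_of_hc (O.over U) (cov_over hB U) _ _ (fun W hW n => by
      rw [ofSect_apply]
      exact (hc_restr_iff O K U W _ n).2 (h W.hom hW n))

end K920.GenB
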