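import Groth.Agent.AlgSp.K646.DSec
import Groth.Agent.FSch.K182.TopRlim
import Groth.Agent.FTors.K920.GenB
import Groth.Agent.DRing.K230.DCMore

/-!
# Completeness of the cohomology of a complex from completeness of the sections of its cohomology sheaves

Let `A` be a class of modules which are acyclic on the members of a basis `B`.  For `K` with cohomology sheaves in `A` and
`W ∈ B`, `H^n(W, K) = Γ(W, H^n K)`; hence `HC O K W f n` if `Γ(W, M)` is `f`-complete for all `M` in `A`.
-/

set_option autoImplicit false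

universe u

open CategoryTheory CategoryTheory.Limits Opposite TopologicalSpace DerivedCategory

attribute [local instance] HasDerivedCategory.standard

namespace K920.HCSec

open Groth.Agent.PerfA.PostHom _root_.K646.DSec K779.Sec K779.HU K230.DCSeq _root_.K578.ModTest

variable {T : TopCat.{u}} (O : Sheaf (Opens.grothendieckTopology T) CommRingCat.{u})

theorem cov {B : Set (Opens T)} (hB : Opens.IsBasis B) :
    GenB.Cov (Opens.grothendieckTopology T) (fun V => V ∈ B) := by
  intro U x hx
  obtain ⟨W, hW, hxW, hWU⟩ := (Opens.isBasis_iff_nbhd.1 hB) hx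
  exact ⟨W, homOfLE hWU, ⟨W, 𝟙 _, homOfLE hWU, hW, rfl⟩, hxW⟩

/-- The two models of the free module on `U`. -/
noncomputable def freeIso (U : Opens T) : ModSite.freeOn O U ≅ (PM (ModSite.ringSh O)).obj U :=
  K779.Trans.isoOfEquiv (fun F => (homEq (ModSite.ringSh O) U F).trans (sec O U F).toEquiv.symm)
    (fun {F G} φ ψ => by
      apply (sec O U G).injective
      refine ((sec O U G).apply_symm_apply (homEq (ModSite.ringSh O) U G (φ ≫ ψ))).trans ?_
      rw [homEq_comp, sec_comp]
      exact congrArg _ ((sec O U F).apply_symm_apply (homEq (ModSite.ringSh O) U F φ)).symm)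

variable {O}

theorem van {A : ObjectProperty (ModSite.Mod O)} {B : Set (Opens T)} (hA : K182.TopRlim.AcycOn O A B)
    {U : Opens T} (hU : U ∈ B) {M : ModSite.Mod O} (hM : A M) (m n : ℤ) (h : n < m)
    (φ : (singleFunctor _ m).obj (ModSite.freeOn O U) ⟶ (singleFunctor _ n).obj M) : φ = 0 := by
  have : HasExt.{u + 1} (ModSite.Mod O) := HasExt.standard _
  obtain ⟨k, hk⟩ : ∃ k : ℕ, m - n = k := ⟨(m - n).toNat, by omega⟩
  have h1 := (K578.ModExtPM.subsingleton_ext_iff O M k U).2 (hA M hM U hU k (by omega))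
  let e : (singleFunctor _ 0).obj ((PM (ModSite.ringSh O)).obj U) ≅ ((singleFunctor _ m).obj (ModSite.freeOn O U))⟦m⟧ :=
    (singleFunctor _ 0).mapIso (freeIso O U).symm ≪≫
      (((singleFunctors (ModSite.Mod O)).shiftIso m 0 m (by simp)).app (ModSite.freeOn O U)).symm
  have h2 := Groth.Agent.CohtopB.DTrunc.single_hom_eq_zero _ M n m k hk h1 (e.hom ≫ φ⟦m⟧')
  apply (shiftFunctor (DerivedCategory (ModSite.Mod O)) m).map_injective
  rw [Functor.map_zero, ← cancel_epi e.hom, comp_zero]
  exact h2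

theorem acyc {A : ObjectProperty (ModSite.Mod O)} {B : Set (Opens T)} (hB : Opens.IsBasis B)
    (hA : K182.TopRlim.AcycOn O A B) (hiso : ∀ ⦃M N : ModSite.Mod O⦄, (M ≅ N) → A M → A N)
    (hzero : ∀ ⦃Z : ModSite.Mod O⦄, IsZero Z → A Z) :
    Acyc (K779.Gen.freeP O (fun V => V ∈ B)) A where
  detects := GenB.detects O _ (cov hB)
  iso := hiso
  zero := hzero
  van := by
    rintro _ ⟨U, hU, rfl⟩ M hM m n h φ
    exact van hA hU hM m n h φ

variable {A : ObjectProperty (ModSite.Mod O)} {B : Set (Opens T)}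
  (hac : Acyc (K779.Gen.freeP O (fun V => V ∈ B)) A)

include hac

theorem cohIn_shift {K : DerivedCategory (ModSite.Mod O)} (hK : CohIn A K) (n : ℤ) : CohIn A (K⟦n⟧) := fun q =>
  hac.iso (((homologyFunctor (ModSite.Mod O) 0).shiftIso n q (n + q) rfl).app K).symm (hK (n + q))

/-- `H^n(W, K) = Γ(W, H^0 (K[n]))`. -/
theorem hc {K : DerivedCategory (ModSite.Mod O)} (hK : CohIn A K) {W : Opens T} (hW : W ∈ B) (f : O.obj.obj (op W))
    (hf : ∀ M : ModSite.Mod O, A M → DC f (ModSite.sect M W)) (n : ℤ) : HC O K W f n := by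
  have hKn := cohIn_shift hac hK n
  have hb := bijective_hm hac hKn (G := ModSite.freeOn O W) ⟨W, hW, rfl⟩ 0
  let e : (SiteCmp.inD O (ModSite.freeOn O W) ⟶ K⟦n⟧) ≃+
      ModSite.sect ((homologyFunctor (ModSite.Mod O) 0).obj (K⟦n⟧)) W :=
    AddEquiv.ofBijective (AddMonoidHom.mk' (fun x => sec O W _ (hm x)) (fun x y => by
      rw [← map_add]
      congr 1
      rw [hm, hm, hm, Functor.map_add, Preadditive.comp_add])) ((sec O W _).bijective.comp hb)
  refine (bijective_congr e (opr O W f _) (fun x => f • x) (fun x => ?_)).2 (hf _ (hKn 0))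
  change sec O W _ (hm ((singleFunctor (ModSite.Mod O) 0).map (mul O W f) ≫ x)) = f • sec O W _ (hm x)
  rw [hm_precomp, sec_mul]
  rfl

end K920.HCSec
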