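import Groth.Agent.FTors.K920.PreComp
import Groth.Agent.FTors.K920.HCSec
import Groth.Agent.FTors.K920.GoodF
import Groth.Agent.FSch.K180.WSer
import Groth.Agent.FSch.K181.IndCoh
import Groth.Agent.FormalA.AdicFin

/-!
# Complexes with coherent cohomology on a locally noetherian formal scheme are complete
-/

set_option autoImplicit false

universe u

open CategoryTheory CategoryTheory.Limits Opposite TopologicalSpace AlgebraicGeometry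

attribute [local instance] HasDerivedCategory.standard

namespace K920.CohCpl

open FTors K920.Sec K920.Good K919.AffBasic K919.AffFlat K779.Tri K779.HU K230.DCSeq

variable {𝔛 : FSch.Sys.{u}} (h𝔛 : 𝔛.IsLocNoethFormal)

/-- The affine opens. -/
abbrev affs (𝔛 : FSch.Sys.{u}) : Set (Opens (𝔛.X 0).carrier) := {V | IsAffineOpen (X := 𝔛.X 0) V}

theorem acyc : Groth.Agent.PerfA.PostHom.Acyc (K779.Gen.freeP (𝔛.Osh h𝔛.1) (fun V => V ∈ affs 𝔛))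
    (fun 𝔊 : FSch.ModF 𝔛 h𝔛.1 => FSch.IsCohF 𝔛 h𝔛.1 𝔊) := by
  have hw := K180.WSer.isWeakSerre_isCohF h𝔛
  refine HCSec.acyc (T := (𝔛.X 0).carrier) (𝔛.X 0).isBasis_affineOpens (fun F hF V hV q hq => ?_)
    (fun M N e hM => K180.FSchCls.isCohF_of_iso h𝔛.1 e hM) (fun Z hZ => ?_)
  · obtain ⟨q, rfl⟩ := Nat.exists_eq_succ_of_ne_zero hq.ne'
    exact K181.Formal.subsingleton_HU_of_indCoh h𝔛 (K181.Formal.indCoh_of_coh h𝔛 hF) hV q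
  · obtain ⟨Z', hZ', h⟩ := ObjectProperty.exists_prop_of_containsZero
      (fun 𝔊 : FSch.ModF 𝔛 h𝔛.1 => FSch.IsCohF 𝔛 h𝔛.1 𝔊)
    exact K180.FSchCls.isCohF_of_iso h𝔛.1 (hZ'.iso hZ) h

theorem dc {M : FSch.ModF 𝔛 h𝔛.1} (hM : FSch.IsCohF 𝔛 h𝔛.1 M) {W : Opens (𝔛.X 0).carrier} (hW : W ∈ affs 𝔛)
    (f : Rg (𝔛.Osh h𝔛.1) W) (hf : f ∈ II 𝔛 h𝔛.1 W) : DC f (ModSite.sect M W) := by
  have hW' : IsAffineOpen (𝔛.lvU h𝔛.1 0 W) := by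
    rw [lvU_zero]
    exact hW
  have h1 := (K181.Formal.cartF_of_coh h𝔛 hM hW).2
  have h2 : IsAdicComplete (II 𝔛 h𝔛.1 W) (OU 𝔛 h𝔛.1 W) := isAdicComplete h𝔛 hW'
  have h3 : IsNoetherianRing (OU 𝔛 h𝔛.1 W) := isNoetherianRing_OU h𝔛 hW'
  have h4 : Module.Finite (OU 𝔛 h𝔛.1 W) (ModSite.sect M W) := h1
  have h5 : IsAdicComplete (II 𝔛 h𝔛.1 W) (ModSite.sect M W) := Groth.Agent.FormalA.AdicFin.isAdicComplete_of_finite _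
  exact K230.DCMore.dc_of_isAdicComplete hf

theorem hc {F : DerivedCategory (FSch.ModF 𝔛 h𝔛.1)}
    (hF : ∀ i : ℤ, FSch.IsCohF 𝔛 h𝔛.1 (SiteCmp.HMod F i)) {W : Opens (𝔛.X 0).carrier} (hW : W ∈ affs 𝔛)
    (f : Rg (𝔛.Osh h𝔛.1) W) (hf : f ∈ II 𝔛 h𝔛.1 W) (n : ℤ) : HC (𝔛.Osh h𝔛.1) F W f n :=
  HCSec.hc (T := (𝔛.X 0).carrier) (acyc h𝔛) hF hW f (fun _ hM => dc h𝔛 hM hW f hf) n

theorem cpl {F : DerivedCategory (FSch.ModF 𝔛 h𝔛.1)}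
    (hF : ∀ i : ℤ, FSch.IsCohF 𝔛 h𝔛.1 (SiteCmp.HMod F i)) {U : Opens (𝔛.X 0).carrier}
    (f : Rg (𝔛.Osh h𝔛.1) U) (hf : f ∈ II 𝔛 h𝔛.1 U) :
    Cpl (DerComp.GSec.ofSect (𝔛.Osh h𝔛.1) U f) ((restrD (𝔛.Osh h𝔛.1) U).obj F) :=
  GenB.cpl_restr (𝔛.Osh h𝔛.1) (HCSec.cov (T := (𝔛.X 0).carrier) (𝔛.X 0).isBasis_affineOpens) F f
    (fun _ g hV n => hc h𝔛 hF hV _ ((openIdealFam 𝔛 h𝔛.1).map_mem 0 g hf) n)

theorem main [FTors.HasRgammaT 𝔛 h𝔛.1] (E F : DerivedCategory (FSch.ModF 𝔛 h𝔛.1))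
    (hF : ∀ i : ℤ, FSch.IsCohF 𝔛 h𝔛.1 (SiteCmp.HMod F i)) :
    Function.Bijective (fun φ : E ⟶ F => (FTors.RgammaTε 𝔛 h𝔛.1).app E ≫ φ) := by
  refine PreComp.bijective_precomp (T := (𝔛.X 0).carrier) (goodD_openIdealFam h𝔛) (affs 𝔛)
    (HCSec.cov (T := (𝔛.X 0).carrier) (𝔛.X 0).isBasis_affineOpens) E F fun U hU => ?_
  have hU' : IsAffineOpen (𝔛.lvU h𝔛.1 0 U) := by
    rw [lvU_zero]
    exact hU
  have h3 : IsNoetherianRing (OU 𝔛 h𝔛.1 U) := isNoetherianRing_OU h𝔛 hU'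
  obtain ⟨s, hs⟩ := (isNoetherianRing_iff_ideal_fg _).1 h3 (II 𝔛 h𝔛.1 U)
  refine ⟨_, _, s.toList, isGoodOpen_openIdealFam h𝔛 hU', ?_, fun t ht => cpl h𝔛 hF t ?_⟩
  · rw [← hs]
    congr 1
    ext t
    simp
  · rw [← hs]
    exact Ideal.subset_span (by simpa using ht)

end K920.CohCpl
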