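import Mathlib.CategoryTheory.Abelian.Basic
import Mathlib.CategoryTheory.Limits.Types.Filtered
import Mathlib.CategoryTheory.Limits.FullSubcategory
import Mathlib.CategoryTheory.ObjectProperty.FullSubcategory
import Mathlib.CategoryTheory.ObjectProperty.ColimitsOfShape
import Mathlib.CategoryTheory.Adjunction.Limits
import Mathlib.CategoryTheory.Presentable.Directed

/-!
# Right adjoints of inclusions preserve filtered colimits if there are enough finitely presentable objects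
-/

set_option autoImplicit false

universe w v u

open CategoryTheory CategoryTheory.Limits Opposite

namespace K920.ColimQ

variable {A : Type u} [Category.{v} A]

section Fac

variable {J : Type w} [Category.{w} J] {C : A} (D : J ⥤ A) {c : Cocone D} (hc : IsColimit c)
  [PreservesColimit D (coyoneda.obj (op C))]

include hc

lemma exists_fac (f : C ⟶ c.pt) : ∃ (j : J) (g : C ⟶ D.obj j), g ≫ c.ι.app j = f := by
  obtain ⟨j, g, hg⟩ := Types.jointly_surjective_of_isColimit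
    (isColimitOfPreserves (coyoneda.obj (op C)) hc) f
  exact ⟨j, g, hg⟩

lemma exists_eq [IsFiltered J] {j : J} (g g' : C ⟶ D.obj j) (h : g ≫ c.ι.app j = g' ≫ c.ι.app j) :
    ∃ (k : J) (u : j ⟶ k), g ≫ D.map u = g' ≫ D.map u := by
  obtain ⟨k, u, u', e⟩ := (Types.FilteredColimit.isColimit_eq_iff _
    (isColimitOfPreserves (coyoneda.obj (op C)) hc) (xi := g) (xj := g')).1 h
  have e' : g ≫ D.map u = g' ≫ D.map u' := e
  refine ⟨IsFiltered.coeq u u', u ≫ IsFiltered.coeqHom u u', ?_⟩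
  have h2 : D.map (u ≫ IsFiltered.coeqHom u u') = D.map (u' ≫ IsFiltered.coeqHom u u') := by
    rw [IsFiltered.coeq_condition]
  rw [h2, D.map_comp, reassoc_of% (show g' ≫ D.map u' = g ≫ D.map u from e'.symm)]
  rw [← D.map_comp, ← h2, D.map_comp]

end Fac

section Main

variable [Abelian A] (P : ObjectProperty A) (Q : A ⥤ P.FullSubcategory) (adj : P.ι ⊣ Q)
  {J : Type w} [Category.{w} J] [IsFiltered J]
  (K : J ⥤ A) [HasColimit (K ⋙ Q)] (𝒞 : ObjectProperty A) (h𝒞 : 𝒞 ≤ P)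
  (hfp : ∀ (C : A), 𝒞 C → ∀ D : J ⥤ A, PreservesColimit D (coyoneda.obj (op C)))
  (hgen : ∀ (X : A), P X → ∀ {Z : A} (h : X ⟶ Z), (∀ (C : A), 𝒞 C → ∀ f : C ⟶ X, f ≫ h = 0) → h = 0)
  (hker : ∀ {X Y : A} (g : X ⟶ Y), P X → P Y → P (kernel g))

include adj h𝒞 hfp hgen hker

theorem isIso_desc {c : Cocone K} (hc : IsColimit c) :
    IsIso (colimit.desc (K ⋙ Q) (Q.mapCocone c)) := by
  have hleft : PreservesColimitsOfSize.{w, w} P.ι := adj.leftAdjoint_preservesColimits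
  let g := colimit.desc (K ⋙ Q) (Q.mapCocone c)
  have hc' : IsColimit (P.ι.mapCocone (colimit.cocone (K ⋙ Q))) :=
    isColimitOfPreserves P.ι (colimit.isColimit _)
  have hι : ∀ j, colimit.ι (K ⋙ Q) j ≫ g = Q.map (c.ι.app j) := fun j ↦ colimit.ι_desc _ _
  have hι' : ∀ j, P.ι.map (colimit.ι (K ⋙ Q) j) ≫ P.ι.map g = P.ι.map (Q.map (c.ι.app j)) :=
    fun j ↦ by rw [← P.ι.map_comp, hι]
  -- the correspondence
  have hcounit : ∀ {Y Y' : A} (a : Y ⟶ Y'), P.ι.map (Q.map a) ≫ adj.counit.app Y' =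
      adj.counit.app Y ≫ a := fun a ↦ adj.counit.naturality a
  have hinj' : ∀ (C : P.FullSubcategory) (Y : A) (a b : P.ι.obj C ⟶ P.ι.obj (Q.obj Y)),
      a ≫ adj.counit.app Y = b ≫ adj.counit.app Y → a = b := by
    intro C Y a b hab
    obtain ⟨a', rfl⟩ := P.ι.map_surjective a
    obtain ⟨b', rfl⟩ := P.ι.map_surjective b
    have h1 : (adj.homEquiv C Y).symm a' = (adj.homEquiv C Y).symm b' := by
      rw [Adjunction.homEquiv_counit, Adjunction.homEquiv_counit]
      exact hab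
    rw [(adj.homEquiv C Y).symm.injective h1]
  have hinj : ∀ (C : A) (hC : P C) (Y : A) (a b : C ⟶ P.ι.obj (Q.obj Y)),
      a ≫ adj.counit.app Y = b ≫ adj.counit.app Y → a = b := fun C hC ↦ hinj' ⟨C, hC⟩
  have hlift : ∀ (C : A) (hC : P C) (Y : A) (a : C ⟶ Y), ∃ b : C ⟶ P.ι.obj (Q.obj Y),
      b ≫ adj.counit.app Y = a := by
    intro C hC Y a
    refine ⟨P.ι.map (adj.homEquiv ⟨C, hC⟩ Y a), ?_⟩
    have h1 := (adj.homEquiv ⟨C, hC⟩ Y).symm_apply_apply a
    rw [Adjunction.homEquiv_counit] at h1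
    exact h1
  -- injectivity
  have hmono : ∀ (C : A), 𝒞 C → ∀ f : C ⟶ P.ι.obj (colimit (K ⋙ Q)), f ≫ P.ι.map g = 0 → f = 0 := by
    intro C hC f hf
    have := hfp C hC ((K ⋙ Q) ⋙ P.ι)
    obtain ⟨j, f₁, hf₁⟩ := exists_fac ((K ⋙ Q) ⋙ P.ι) hc' f
    have e1 : f₁ ≫ P.ι.map (colimit.ι (K ⋙ Q) j) = f := hf₁
    have e2 : (f₁ ≫ adj.counit.app (K.obj j)) ≫ c.ι.app j = 0 ≫ c.ι.app j := by
      rw [zero_comp, Category.assoc, ← hcounit, ← hι', ← Category.assoc, ← Category.assoc, e1, hf,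
        zero_comp]
    have := hfp C hC K
    obtain ⟨k, u, hu⟩ := exists_eq K hc (f₁ ≫ adj.counit.app (K.obj j)) 0 e2
    have e3 : f₁ ≫ P.ι.map (Q.map (K.map u)) = 0 := by
      refine hinj C (h𝒞 C hC) _ _ _ ?_
      rw [zero_comp, Category.assoc, hcounit, ← Category.assoc]
      rw [hu, zero_comp]
    have e4 : P.ι.map (Q.map (K.map u)) ≫ P.ι.map (colimit.ι (K ⋙ Q) k) =
        P.ι.map (colimit.ι (K ⋙ Q) j) := by
      rw [← P.ι.map_comp]
      exact congrArg P.ι.map (colimit.w (K ⋙ Q) u)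
    rw [← e1, ← e4, ← Category.assoc, e3, zero_comp]
  -- surjectivity
  have hepi : ∀ (C : A), 𝒞 C → ∀ f : C ⟶ P.ι.obj (Q.obj c.pt),
      ∃ f' : C ⟶ P.ι.obj (colimit (K ⋙ Q)), f' ≫ P.ι.map g = f := by
    intro C hC f
    have := hfp C hC K
    obtain ⟨j, f₁, hf₁⟩ := exists_fac K hc (f ≫ adj.counit.app c.pt)
    obtain ⟨f₂, hf₂⟩ := hlift C (h𝒞 C hC) _ f₁
    refine ⟨f₂ ≫ P.ι.map (colimit.ι (K ⋙ Q) j), ?_⟩
    rw [Category.assoc, hι']
    refine hinj C (h𝒞 C hC) _ _ _ ?_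
    rw [Category.assoc]
    refine (congrArg (fun t ↦ f₂ ≫ t) (hcounit (c.ι.app j))).trans ?_
    refine (Category.assoc _ _ _).symm.trans ?_
    exact (congrArg (fun t ↦ t ≫ c.ι.app j) hf₂).trans hf₁
  have h1 : Mono (P.ι.map g) := by
    refine Preadditive.mono_of_kernel_zero ?_
    have hP : P (kernel (P.ι.map g)) := hker _ (colimit (K ⋙ Q)).2 (Q.obj c.pt).2
    refine hgen _ hP _ fun C hC f ↦ ?_
    refine hmono C hC (f ≫ kernel.ι (P.ι.map g)) ?_
    rw [Category.assoc, kernel.condition, comp_zero]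
  have h2 : Epi (P.ι.map g) := by
    refine Preadditive.epi_of_cokernel_zero ?_
    refine hgen _ (Q.obj c.pt).2 _ fun C hC f ↦ ?_
    obtain ⟨f', hf'⟩ := hepi C hC f
    rw [← hf', Category.assoc, cokernel.condition, comp_zero]
  have h3 : IsIso (P.ι.map g) := isIso_of_mono_of_epi _
  exact isIso_of_reflects_iso g P.ι

/-- The right adjoint of the inclusion preserves the filtered colimit. -/
theorem preservesColimit : PreservesColimit K Q where
  preserves {c} hc := by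
    have := isIso_desc P Q adj K 𝒞 h𝒞 hfp hgen hker hc
    have h1 : IsIso ((colimit.isColimit (K ⋙ Q)).desc (Q.mapCocone c)) := this
    exact ⟨IsColimit.ofPointIso (colimit.isColimit (K ⋙ Q))⟩

end Main

end K920.ColimQ
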