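import Groth.Agent.FTors.K920.RHomEx
import Groth.Agent.DerComp.K302.RHomCompl
import Groth.Agent.FTors.K920.GenB

/-!
# Vanishing of morphisms in the derived category of a ringed site is local

`hom_eq_zero`: if all `Hom(K|_U, G|_U⟦n⟧)` vanish for `U` in a class of objects covering every object then `Hom(K, G) = 0`.
-/

set_option autoImplicit false

universe u

open CategoryTheory CategoryTheory.Limits Opposite MonoidalCategory

attribute [local instance] HasDerivedCategory.standard

namespace K920.LocGlob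

open K780.Res K302.LT K302.RHomCompl

variable {C : Type u} [SmallCategory C] {J : GrothendieckTopology C} (O : Sheaf J CommRingCat.{u})

attribute [local instance] K780.Away.preservesFiniteLimits_extZero K780.Away.preservesFiniteColimits_extZero

section Unit

open scoped K291.Mon

/-- `O ⊗ - = id`. -/
noncomputable def unitIso : (ModSite.tensorBi O).obj (ModSite.unit O) ≅ 𝟭 (ModSite.Mod O) :=
  K291.Mon.objIso O (𝟙_ (ModSite.Mod O)) ≪≫ leftUnitorNatIso (ModSite.Mod O)

/-- `O[0] ⊗ P = P`. -/
noncomputable def unitCx (P : CochainComplex (ModSite.Mod O) ℤ) :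
    (((ModSite.tensorBi O).obj (ModSite.unit O)).mapHomologicalComplex (ComplexShape.up ℤ)).obj P ≅ P :=
  (NatIso.mapHomologicalComplex (unitIso O) (ComplexShape.up ℤ)).app P ≪≫
    HomologicalComplex.Hom.isoOfComponents (fun _ => Iso.refl _)
      (fun _ _ _ => (Category.id_comp _).trans (Category.comp_id _).symm)

end Unit

variable (P : CochainComplex (ModSite.Mod O) ℤ)

/-- `(O|_U ⊗ P|_U) = (Q P)|_U` in the derived category. -/
noncomputable def zuIso (U : C) : DerivedCategory.Q.obj (ZU O U (ModSite.unit (O.over U)) P) ≅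
    (resD O U).obj (DerivedCategory.Q.obj P) :=
  DerivedCategory.Q.mapIso (unitCx (O.over U) _) ≪≫ ((ModSite.restr O U).mapDerivedCategoryFactors.app P).symm

/-- `O[0] ⊗^L P = P` in the derived category. -/
noncomputable def unitQ [ModSite.HasLTensorCx P] : (ModSite.LTensorCx P).obj (DerivedCategory.Q.obj
      ((CochainComplex.singleFunctor (ModSite.Mod O) 0).obj (ModSite.unit O))) ≅ DerivedCategory.Q.obj P :=
  isoQ P _ (K294.KFlat2.isKFlat_single _ (K291.Flat.isFlat_unit O) 0) ≪≫
    DerivedCategory.Q.mapIso ((Groth.Agent.Dcoh.TensSingle.singleLeftIsoApp (ModSite.tensorBi O) (ModSite.unit O) P).symm ≪≫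
      unitCx O P)

theorem isZero_rhom [ModSite.HasLTensorCx P] [DerComp.HasRHom P] (B : C → Prop) (hB : GenB.Cov J B)
    (G : DerivedCategory (ModSite.Mod O))
    (h : ∀ U, B U → ∀ n : ℤ, Subsingleton (((resD O U).obj (DerivedCategory.Q.obj P))⟦n⟧ ⟶ (resD O U).obj G)) :
    IsZero ((DerComp.RHom P).obj G) := by
  refine GenB.isZero_of_subsingleton O B hB _ fun U hU n => ?_
  have hA : ModSite.IsFlat (ModSite.unit (O.over U)) := K291.Flat.isFlat_unit _
  have h0 : Subsingleton ((DerivedCategory.Q.obj (ZU O U (ModSite.unit (O.over U)) P))⟦-n⟧ ⟶ (resD O U).obj G) :=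
    K779.Bous.subsingleton_of_iso ((shiftFunctor _ (-n)).mapIso (zuIso O P U).symm) (Iso.refl _) (h U hU (-n))
  have h1 : Subsingleton ((ModSite.extZero O U).mapDerivedCategory.obj
      ((DerivedCategory.Q.obj (ZU O U (ModSite.unit (O.over U)) P))⟦-n⟧) ⟶ G) :=
    ((Groth.Agent.CohtopB.ExactDerAdj.derivedAdj (ModSite.extZeroAdj O U)).homEquiv _ _).subsingleton
  have h2 := K779.Bous.subsingleton_of_iso (ltIso O U (ModSite.unit (O.over U)) P hA (-n)).symm (Iso.refl G) h1
  have h3 : Subsingleton (DerivedCategory.Q.obj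
      (((CochainComplex.singleFunctor (ModSite.Mod O) 0).obj ((ModSite.extZero O U).obj (ModSite.unit (O.over U))))⟦-n⟧) ⟶
        (DerComp.RHom P).obj G) := ((DerComp.RHomAdj P).homEquiv _ _).symm.subsingleton
  have h4 := K779.Bous.subsingleton_of_iso ((DerivedCategory.Q.commShiftIso (-n)).app _) (Iso.refl _) h3
  have h5 : Subsingleton ((shiftEquiv (DerivedCategory (ModSite.Mod O)) n).symm.functor.obj
      (SiteCmp.inD O ((ModSite.extZero O U).obj (ModSite.unit (O.over U)))) ⟶ (DerComp.RHom P).obj G) := h4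
  exact ((shiftEquiv (DerivedCategory (ModSite.Mod O)) n).symm.toAdjunction.homEquiv _ _).symm.subsingleton

/-- **Vanishing of morphisms is local**. -/
theorem hom_eq_zero (B : C → Prop) (hB : GenB.Cov J B) (K G : DerivedCategory (ModSite.Mod O))
    (h : ∀ U, B U → ∀ n : ℤ, Subsingleton (((resD O U).obj K)⟦n⟧ ⟶ (resD O U).obj G)) (φ : K ⟶ G) : φ = 0 := by
  let P := DerivedCategory.Q.objPreimage K
  let e : DerivedCategory.Q.obj P ≅ K := DerivedCategory.Q.objObjPreimageIso K
  have := K242.SiteBif.hasLTensorCx P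
  have := RHomEx.hasRHom P
  have h1 : IsZero ((DerComp.RHom P).obj G) := isZero_rhom O P B hB G fun U hU n =>
    K779.Bous.subsingleton_of_iso ((shiftFunctor _ n).mapIso ((resD O U).mapIso e.symm)) (Iso.refl _) (h U hU n)
  let ψ : (ModSite.LTensorCx P).obj (DerivedCategory.Q.obj
      ((CochainComplex.singleFunctor (ModSite.Mod O) 0).obj (ModSite.unit O))) ⟶ G := (unitQ O P).hom ≫ e.hom ≫ φ
  have h2 : ψ = 0 := by
    apply ((DerComp.RHomAdj P).homEquiv _ _).injective
    exact h1.eq_of_tgt _ _
  rw [← cancel_epi e.hom, ← cancel_epi (unitQ O P).hom, comp_zero, comp_zero]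
  exact h2

end K920.LocGlob
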