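import Groth.Agent.FTors.K920.LocOrth
import Groth.Agent.FTors.K920.LocGlob
import Groth.Agent.FTors.K920.TorsDer2

/-!
# `Hom(E, F) = Hom(RΓ_I E, F)` for locally complete `F`
-/

set_option autoImplicit false

universe u

open CategoryTheory CategoryTheory.Limits Opposite TopologicalSpace Pretriangulated

attribute [local instance] HasDerivedCategory.standard

namespace K920.PreComp

open FTors K920.Sec K920.Good K920.TorsDer K779.Tri K779.HU

section Abs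

variable {D : Type*} [Category* D] [HasZeroObject D] [HasShift D ℤ] [Preadditive D]
  [∀ n : ℤ, (shiftFunctor D n).Additive] [Pretriangulated D]

/-- Precomposition with `a` in a triangle `A → B → C` is bijective when `Hom(C, F⟦n⟧) = 0`. -/
theorem bijective_of_triangle {A B C F : D} {a : A ⟶ B} {b : B ⟶ C} {c : C ⟶ A⟦(1 : ℤ)⟧}
    (hT : Triangle.mk a b c ∈ distTriang D) (h0 : ∀ φ : C ⟶ F, φ = 0) (h1 : ∀ φ : C⟦(-1 : ℤ)⟧ ⟶ F, φ = 0) :
    Function.Bijective (fun φ : B ⟶ F => a ≫ φ) := by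
  constructor
  · intro φ ψ h
    have h2 : a ≫ (φ - ψ) = 0 := by
      rw [Preadditive.comp_sub, sub_eq_zero]
      exact h
    obtain ⟨g, hg⟩ : ∃ g : C ⟶ F, φ - ψ = b ≫ g := Triangle.yoneda_exact₂ _ hT _ h2
    rw [h0 g, comp_zero] at hg
    exact sub_eq_zero.1 hg
  · intro ψ
    obtain ⟨g, hg⟩ := Triangle.yoneda_exact₂ _ (inv_rot_of_distTriang _ hT) (show A ⟶ F from ψ) (h1 _)
    exact ⟨g, hg.symm⟩

variable (D) in
/-- the shift adjunction -/
noncomputable def sadj (n : ℤ) : shiftFunctor D (-n) ⊣ shiftFunctor D n :=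
  (shiftEquiv' D (-n) n (by simp)).toAdjunction

/-- `Hom(X, Y⟦n⟧) = 0` if `Hom(X⟦-n⟧, Y) = 0`. -/
theorem eq_zero_of_shift {X Y : D} {n : ℤ} (f : X ⟶ Y⟦n⟧) (h : ((sadj D n).homEquiv X Y).symm f = 0) : f = 0 := by
  rw [Equiv.symm_apply_eq, Adjunction.homEquiv_unit, Functor.map_zero, comp_zero] at h
  exact h

/-- An object right orthogonal to a class, in a triangle `A → B → C` such that `Hom(X, A) → Hom(X, B)` is bijective. -/
theorem eq_zero_of_triangle {A B C : D} {a : A ⟶ B} {b : B ⟶ C} {c : C ⟶ A⟦(1 : ℤ)⟧}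
    (hT : Triangle.mk a b c ∈ distTriang D) {X : D}
    (h0 : Function.Surjective (fun φ : X ⟶ A => φ ≫ a))
    (h1 : Function.Injective (fun φ : X⟦(-1 : ℤ)⟧ ⟶ A => φ ≫ a)) (f : X ⟶ C) : f = 0 := by
  have h2 : f ≫ c = 0 := by
    have h3 : (f ≫ c) ≫ a⟦(1 : ℤ)⟧' = 0 := by
      have h4 : c ≫ a⟦(1 : ℤ)⟧' = 0 := comp_distTriang_mor_zero₃₁ _ hT
      rw [Category.assoc, h4, comp_zero]
    have h5 : ((sadj D 1).homEquiv X B).symm ((f ≫ c) ≫ a⟦(1 : ℤ)⟧') =
        ((sadj D 1).homEquiv X A).symm (f ≫ c) ≫ a :=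
      Adjunction.homEquiv_naturality_right_symm (sadj D 1) (f ≫ c) a
    rw [h3] at h5
    have h6 : ((sadj D 1).homEquiv X B).symm (0 : X ⟶ B⟦(1 : ℤ)⟧) = 0 := by
      rw [Equiv.symm_apply_eq, Adjunction.homEquiv_unit, Functor.map_zero, comp_zero]
    refine eq_zero_of_shift _ (h1 ?_)
    change ((sadj D 1).homEquiv X A).symm (f ≫ c) ≫ a = 0 ≫ a
    rw [zero_comp, ← h6]
    exact h5.symm
  obtain ⟨g, hg⟩ : ∃ g : X ⟶ B, f = g ≫ b := Triangle.coyoneda_exact₃ _ hT f h2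
  obtain ⟨g', hg'⟩ := h0 g
  have h8 : a ≫ b = 0 := comp_distTriang_mor_zero₁₂ _ hT
  rw [hg, ← hg']
  change (g' ≫ a) ≫ b = 0
  rw [Category.assoc, h8, comp_zero]

end Abs

variable {T : TopCat.{u}} {O : Sheaf (Opens.grothendieckTopology T) CommRingCat.{u}}
  {I : IdealFam O} [HasRgamma I]

theorem bijective_precomp (hI : GoodD I) (B : Set (Opens T)) (hB : GenB.Cov (Opens.grothendieckTopology T) (· ∈ B))
    (E F : DerivedCategory (ModSite.Mod O))
    (h : ∀ U ∈ B, ∃ (𝔞 : Ideal (Rg O U)) (B' : Set (Opens T)) (l : List (Rg O U)), IsGoodOpen I U 𝔞 B' ∧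
      𝔞 = Ideal.span {t | t ∈ l} ∧ ∀ t ∈ l, Cpl (DerComp.GSec.ofSect O U t) ((restrD O U).obj F)) :
    Function.Bijective (fun φ : E ⟶ F => (Rgammaε I).app E ≫ φ) := by
  obtain ⟨C, b, c, hT⟩ := distinguished_cocone_triangle ((Rgammaε I).app E)
  have hC : ∀ X, IsDTors I X → ∀ f : X ⟶ C, f = 0 := fun X hX f =>
    eq_zero_of_triangle hT (bijective_comp_ε hI hX E).2 (bijective_comp_ε hI (isDTors_shift I hX (-1)) E).1 f
  have hCn : ∀ (n : ℤ) (X), IsDTors I X → ∀ f : X ⟶ C⟦n⟧, f = 0 := fun n X hX f =>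
    eq_zero_of_shift f (hC _ (isDTors_shift I hX (-n)) _)
  have key : ∀ (n : ℤ) (φ : C⟦n⟧ ⟶ F), φ = 0 := fun n φ => by
    refine LocGlob.hom_eq_zero O (· ∈ B) hB (C⟦n⟧) F (fun U hU m => ?_) φ
    obtain ⟨𝔞, B', l, h1, h2, h3⟩ := h U hU
    have h4 : Subsingleton ((restrD O U).obj ((C⟦n⟧)⟦m⟧) ⟶ (restrD O U).obj F) :=
      ⟨fun x y => by
        have hC' : ∀ X, IsDTors I X → ∀ f : X ⟶ (C⟦n⟧)⟦m⟧, f = 0 := fun X hX f => by
          have e := (shiftFunctorAdd' (DerivedCategory (ModSite.Mod O)) n m (n + m) rfl).app C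
          have h5 := hCn (n + m) X hX (f ≫ e.inv)
          rw [← cancel_mono e.inv, h5, zero_comp]
        rw [LocOrth.eq_zero_of_good h1 l h2 _ F hC' h3 x, LocOrth.eq_zero_of_good h1 l h2 _ F hC' h3 y]⟩
    exact K779.Bous.subsingleton_of_iso (((restrD O U).commShiftIso m).app _) (Iso.refl _) h4
  refine bijective_of_triangle hT (fun φ => ?_) (fun φ => key (-1) φ)
  have e := (shiftFunctorZero (DerivedCategory (ModSite.Mod O)) ℤ).app C
  have h5 := key 0 (e.hom ≫ φ)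
  rw [← cancel_epi e.hom, h5, comp_zero]

end K920.PreComp
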