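import Groth.Agent.FTors.K920.TorPT
import Groth.Agent.FTors.K920.PreComp
import Groth.Agent.CohtopB.CoprodTriangle
import Groth.Agent.CohtopA.ExactDer
import Groth.Agent.CohtopA.DerProd
import Groth.Agent.PerfA.HomologyCoprod
import Groth.Agent.SiteCmp.K578.Der

/-!
# `RΓ_I` preserves coproducts
-/

set_option autoImplicit false

universe u

open CategoryTheory CategoryTheory.Limits Opposite TopologicalSpace Pretriangulated

attribute [local instance] HasDerivedCategory.standard

namespace K920.CoprodTors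

open FTors K920.Sec K920.Good K920.TorsMod K920.TorsDer K920.PhiTor K920.PK K920.OrthTri K779.HU K920.TorPT

section Site

variable {C : Type u} [SmallCategory C] {J : GrothendieckTopology C} {O : Sheaf J CommRingCat.{u}}
  {I : IdealFam O}

instance isGrothendieckAbelian : IsGrothendieckAbelian.{u} (ModSite.Mod O) := K578.Der.isGrothendieckAbelian O

instance hasCoproduct {ι : Type u} (X : ι → DerivedCategory (ModSite.Mod O)) : HasCoproduct X := by
  have : HasColimitsOfShape (Discrete ι) (DerivedCategory (ModSite.Mod O)) :=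
    Groth.Agent.CohtopA.DerProd.hasColimitsOfShape_discrete (ModSite.Mod O) ι
  infer_instance

theorem isTors_sigma {ι : Type u} (M : ι → ModSite.Mod O) (hM : ∀ i, IsTors I (M i)) : IsTors I (∐ M) := by
  rw [← isIso_gammaι_iff]
  choose g hg using fun i => (exists_lift (hM i) (Limits.Sigma.ι M i)).exists
  have h1 : Limits.Sigma.desc g ≫ (gammaι I).app (∐ M) = 𝟙 _ := by
    refine Limits.Sigma.hom_ext _ _ fun i => ?_
    rw [Limits.Sigma.ι_desc_assoc, Category.comp_id]
    exact hg i
  have h2 : IsSplitEpi ((gammaι I).app (∐ M)) := ⟨⟨⟨_, h1⟩⟩⟩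
  exact isIso_of_mono_of_isSplitEpi _

theorem isDTors_sigma {ι : Type u} (X : ι → DerivedCategory (ModSite.Mod O)) (hX : ∀ i, IsDTors I (X i)) :
    IsDTors I (∐ X) := fun n => by
  have h1 : PreservesColimitsOfShape (Discrete ι) (DerivedCategory.homologyFunctor (ModSite.Mod O) n) := by
    have h1 : HasExactColimitsOfShape (Discrete ι) (ModSite.Mod O) := inferInstance
    infer_instance
  exact isTors_of_iso (PreservesCoproduct.iso (DerivedCategory.homologyFunctor (ModSite.Mod O) n) X).symm
    (isTors_sigma _ fun i => hX i n)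

instance preservesCoproducts_restrD (ι : Type u) (U : C) :
    PreservesColimitsOfShape (Discrete ι) (restrD O U) := by
  have h1 : HasExactColimitsOfShape (Discrete ι) (ModSite.Mod O) := inferInstance
  have h2 : HasExactColimitsOfShape (Discrete ι) (ModSite.Mod (O.over U)) := inferInstance
  have h3 : PreservesColimitsOfShape (Discrete ι) (ModSite.restr O U) := inferInstance
  exact Groth.Agent.CohtopA.ExactDer.preservesCoproducts_mapDerivedCategory (ModSite.restr O U) ι

end Site

section Top

variable {T : TopCat.{u}} {O : Sheaf (Opens.grothendieckTopology T) CommRingCat.{u}} {I : IdealFam O}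

section Good

variable {U : Opens T} {𝔞 : Ideal (Rg O U)} {B : Set (Opens T)}

attribute [local instance] K780.Away.preservesFiniteLimits_extZero K780.Away.preservesFiniteColimits_extZero

theorem perp_restr (hU : IsGoodOpen I U 𝔞 B) (l : List (Rg O U)) (hl : 𝔞 = Ideal.span {t | t ∈ l})
    (C : DerivedCategory (ModSite.Mod O)) (hC : ∀ X, IsDTors I X → ∀ f : X ⟶ C, f = 0) :
    Perp {s | s ∈ l.map (DerComp.GSec.ofSect O U)} ((restrD O U).obj C) := fun X hX f => by
  have h1 := hC _ (KillTors.isDTors_extZero hU l hl X hX)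
      (((Groth.Agent.CohtopB.ExactDerAdj.derivedAdj (ModSite.extZeroAdj O U)).homEquiv X C).symm f)
  rw [Equiv.symm_apply_eq] at h1
  rw [h1, Adjunction.homEquiv_unit, Functor.map_zero, comp_zero]

theorem isZero_restr (hU : IsGoodOpen I U 𝔞 B) (l : List (Rg O U)) (hl : 𝔞 = Ideal.span {t | t ∈ l})
    {X : DerivedCategory (ModSite.Mod O)} (hX : IsDTors I X)
    (hp : Perp {s | s ∈ l.map (DerComp.GSec.ofSect O U)} ((restrD O U).obj X)) : IsZero ((restrD O U).obj X) :=
  isZero_of_perp _ hp fun s hs => by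
    obtain ⟨t, ht, rfl⟩ := List.mem_map.1 hs
    exact pt_restr hU hX (by rw [hl]; exact Ideal.subset_span ht)

end Good

/-- A basis of good opens whose ideals are finitely generated. -/
structure GoodCov (I : IdealFam O) (B : Set (Opens T)) : Prop where
  cov : GenB.Cov (Opens.grothendieckTopology T) (· ∈ B)
  good : ∀ U ∈ B, ∃ (𝔞 : Ideal (Rg O U)) (B' : Set (Opens T)) (l : List (Rg O U)), IsGoodOpen I U 𝔞 B' ∧
      𝔞 = Ideal.span {t | t ∈ l}

variable {B : Set (Opens T)}

theorem isZero_of_restr (hB : GenB.Cov (Opens.grothendieckTopology T) (· ∈ B)) {X : DerivedCategory (ModSite.Mod O)}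
    (h : ∀ U ∈ B, IsZero ((restrD O U).obj X)) : IsZero X := by
  rw [IsZero.iff_id_eq_zero]
  refine LocGlob.hom_eq_zero O (· ∈ B) hB X X (fun U hU n => ⟨fun f g => (h U hU).eq_of_tgt f g⟩) _

variable [HasRgamma I]

theorem orth_of_triangle (hI : GoodD I) {E Z : DerivedCategory (ModSite.Mod O)} {b : E ⟶ Z}
    {c : Z ⟶ ((Rgamma I).obj E)⟦(1 : ℤ)⟧} (hT : Triangle.mk ((Rgammaε I).app E) b c ∈ distTriang _) :
    ∀ X, IsDTors I X → ∀ f : X ⟶ Z, f = 0 := fun _ hX f =>
  PreComp.eq_zero_of_triangle hT (bijective_comp_ε hI hX E).2 (bijective_comp_ε hI (isDTors_shift I hX (-1)) E).1 f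

/-- The orthogonal of torsion complexes is closed under coproducts. -/
theorem orth_sigma (hI : GoodD I) (hB : GoodCov I B) {ι : Type u} (C : ι → DerivedCategory (ModSite.Mod O))
    (hC : ∀ i, ∀ X, IsDTors I X → ∀ f : X ⟶ C i, f = 0) : IsZero ((Rgamma I).obj (∐ C)) := by
  refine isZero_of_restr hB.cov fun U hU => ?_
  obtain ⟨𝔞, B', l, h1, h2⟩ := hB.good U hU
  obtain ⟨Z, b, c, hT⟩ := distinguished_cocone_triangle ((Rgammaε I).app (∐ C))
  refine isZero_restr h1 l h2 (isDTors_Rgamma I _) ?_
  have h3 : Perp {s | s ∈ l.map (DerComp.GSec.ofSect O U)} ((restrD O U).obj Z) :=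
    perp_restr h1 l h2 Z (orth_of_triangle hI hT)
  have h4 : Perp {s | s ∈ l.map (DerComp.GSec.ofSect O U)} ((restrD O U).obj (∐ C)) :=
    Perp.of_iso (Perp.sigma _ _ fun i => perp_restr h1 l h2 (C i) (hC i)) (PreservesCoproduct.iso (restrD O U) C).symm
  exact Perp.ext₁ ((restrD O U).map_distinguished _ hT) h4 h3

theorem isIso_comparison (hI : GoodD I) (hB : GoodCov I B) {ι : Type u}
    (E : ι → DerivedCategory (ModSite.Mod O)) : IsIso (sigmaComparison (Rgamma I) E) := by
  letI := rgCommShift I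
  haveI := rg_isTriangulated I
  choose Z b c hT using fun i => distinguished_cocone_triangle ((Rgammaε I).app (E i))
  have h1 := Groth.Agent.CohtopB.CoprodTriangle.coproductTriangle_distinguished
    (fun i => Triangle.mk ((Rgammaε I).app (E i)) (b i) (c i)) hT
  have h2 : IsZero ((Rgamma I).obj (∐ Z)) := orth_sigma hI hB Z fun i => orth_of_triangle hI (hT i)
  let a : (∐ fun i => (Rgamma I).obj (E i)) ⟶ ∐ E := Limits.Sigma.map fun i => (Rgammaε I).app (E i)
  have h3 : IsIso ((Rgamma I).map a) :=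
    (Triangle.isZero₃_iff_isIso₁ _ ((Rgamma I).map_distinguished _ h1)).1 h2
  let cm := sigmaComparison (Rgamma I) E
  have h4 : cm ≫ (Rgammaε I).app (∐ E) = a := by
    refine Limits.Sigma.hom_ext _ _ fun i => ?_
    rw [ι_comp_sigmaComparison_assoc, Limits.Sigma.ι_map]
    exact (Rgammaε I).naturality _
  have h5 : IsIso ((Rgamma I).map cm) := by
    have h6 := isIso_Rgamma_map_ε I (∐ E) (isIso_ε hI (isDTors_Rgamma I _))
    rw [← h4, Functor.map_comp] at h3
    exact IsIso.of_isIso_comp_right _ ((Rgamma I).map ((Rgammaε I).app (∐ E)))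
  have h6 : IsIso ((Rgammaε I).app (∐ fun i => (Rgamma I).obj (E i))) :=
    isIso_ε hI (isDTors_sigma _ fun i => isDTors_Rgamma I _)
  have h7 : IsIso ((Rgammaε I).app ((Rgamma I).obj (∐ E))) := isIso_ε hI (isDTors_Rgamma I _)
  have h8 : (Rgamma I).map cm ≫ (Rgammaε I).app ((Rgamma I).obj (∐ E)) =
      (Rgammaε I).app (∐ fun i => (Rgamma I).obj (E i)) ≫ cm := (Rgammaε I).naturality cm
  have h9 : IsIso ((Rgammaε I).app (∐ fun i => (Rgamma I).obj (E i)) ≫ cm) := by
    rw [← h8]
    infer_instance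
  exact IsIso.of_isIso_comp_left ((Rgammaε I).app (∐ fun i => (Rgamma I).obj (E i))) cm

theorem preservesCoproducts (hI : GoodD I) (hB : GoodCov I B) (ι : Type u) :
    PreservesColimitsOfShape (Discrete ι) (Rgamma I) := by
  constructor
  intro K
  have h1 := isIso_comparison hI hB (fun j => K.obj ⟨j⟩)
  have h2 : PreservesColimit (Discrete.functor fun j => K.obj ⟨j⟩) (Rgamma I) :=
    PreservesCoproduct.of_iso_comparison (Rgamma I) _
  exact preservesColimit_of_iso_diagram (K₁ := Discrete.functor (fun j => K.obj ⟨j⟩)) _ Discrete.natIsoFunctor.symm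

end Top

end K920.CoprodTors
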