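import Groth.Agent.Dcoh.DerComp
import Groth.Agent.Dcoh.MapDer

/-!
# Full faithfulness on derived categories of an exact functor with a right adjoint

`F : A ⥤ B` exact with right adjoint `G`, `B` with enough K-injective complexes, `RG` the right derived
functor of `G` (`β` its unit), `dadj : F.mapDerivedCategory ⊣ RG`.
* `isIso_counit_Q_iff`: on a K-injective complex the derived counit is an isomorphism iff the counit of
  complexes is a quasi-isomorphism.
* `full_faithful_essImage`: the derived functor is fully faithful with essential image the objects with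
  cohomology in `T`, if the counit is a quasi-isomorphism for K-injective complexes with injective terms
  and cohomology in `T`.
-/

set_option autoImplicit false

universe w w' v v' u u'

open CategoryTheory CategoryTheory.Limits

namespace K920.DerFF

open Groth.Agent.Dcoh.DerAbs Groth.Agent.Dcoh.DerHo Groth.Agent.Dcoh.DerAdj
  Groth.Agent.Dcoh.DerComp

variable {A : Type u} [Category.{v} A] [Abelian A] [HasDerivedCategory.{w} A]
  {B : Type u'} [Category.{v'} B] [Abelian B] [HasDerivedCategory.{w'} B]
  {F : A ⥤ B} {G : B ⥤ A} [F.Additive] [G.Additive] [PreservesFiniteLimits F]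
  [PreservesFiniteColimits F] (adj : F ⊣ G) (hB : HasKInj B)
  (RG : DerivedCategory B ⥤ DerivedCategory A) (β : mapQh G ⟶ DerivedCategory.Qh ⋙ RG)
  [RG.IsRightDerivedFunctor β (qis B)]

/-- The derived adjunction of an exact functor and its right adjoint. -/
noncomputable def dadj : F.mapDerivedCategory ⊣ RG :=
  haveI := isLeftDerivedFunctor_mapDerivedCategory F
  derivedAdj adj hB (leftDataExact F) F.mapDerivedCategory F.mapDerivedCategoryFactorsh.hom RG β

lemma dadj_counit_fac (K : HomotopyCategory B (ComplexShape.up ℤ)) :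
    F.mapDerivedCategory.map (β.app K) ≫ (dadj adj hB RG β).counit.app (DerivedCategory.Qh.obj K) =
      F.mapDerivedCategoryFactorsh.hom.app ((G.mapHomotopyCategory (ComplexShape.up ℤ)).obj K) ≫
        DerivedCategory.Qh.map ((adjHo adj (ComplexShape.up ℤ)).counit.app K) :=
  haveI := isLeftDerivedFunctor_mapDerivedCategory F
  derivedAdj_counit_fac adj hB (leftDataExact F) F.mapDerivedCategory
    F.mapDerivedCategoryFactorsh.hom RG β K

lemma dadj_unit_fac (K : HomotopyCategory A (ComplexShape.up ℤ)) :
    (dadj adj hB RG β).unit.app (DerivedCategory.Qh.obj K) ≫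
        RG.map (F.mapDerivedCategoryFactorsh.hom.app K) =
      DerivedCategory.Qh.map ((adjHo adj (ComplexShape.up ℤ)).unit.app K) ≫
        β.app ((F.mapHomotopyCategory (ComplexShape.up ℤ)).obj K) :=
  haveI := isLeftDerivedFunctor_mapDerivedCategory F
  derivedAdj_unit_fac adj hB (leftDataExact F) F.mapDerivedCategory
    F.mapDerivedCategoryFactorsh.hom RG β K

lemma isIso_counit_Q_iff (K : CochainComplex B ℤ) (hK : K.IsKInjective) :
    IsIso ((dadj adj hB RG β).counit.app (DerivedCategory.Q.obj K)) ↔
      QuasiIso ((adjCx adj (ComplexShape.up ℤ)).counit.app K) := by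
  have h1 := dadj_counit_fac adj hB RG β ((HomotopyCategory.quotient B (ComplexShape.up ℤ)).obj K)
  have h2 := isIso_unit_app' hB RG β K hK
  have h3 : IsIso ((dadj adj hB RG β).counit.app (DerivedCategory.Q.obj K)) ↔
      IsIso ((dadj adj hB RG β).counit.app (DerivedCategory.Qh.obj
        ((HomotopyCategory.quotient B (ComplexShape.up ℤ)).obj K))) :=
    NatTrans.isIso_app_iff_of_iso _ ((DerivedCategory.quotientCompQhIso B).symm.app K)
  rw [h3]
  have h4 : IsIso (DerivedCategory.Qh.map ((adjHo adj (ComplexShape.up ℤ)).counit.app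
      ((HomotopyCategory.quotient B (ComplexShape.up ℤ)).obj K))) ↔
      QuasiIso ((adjCx adj (ComplexShape.up ℤ)).counit.app K) := by
    rw [← DerivedCategory.isIso_Q_map_iff_quasiIso]
    exact NatIso.isIso_map_iff (DerivedCategory.quotientCompQhIso B) _
  rw [← h4]
  constructor
  · intro h
    have h5 : IsIso (F.mapDerivedCategoryFactorsh.hom.app
        ((G.mapHomotopyCategory (ComplexShape.up ℤ)).obj
          ((HomotopyCategory.quotient B (ComplexShape.up ℤ)).obj K)) ≫
        DerivedCategory.Qh.map ((adjHo adj (ComplexShape.up ℤ)).counit.app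
          ((HomotopyCategory.quotient B (ComplexShape.up ℤ)).obj K))) := by
      rw [← h1]
      infer_instance
    exact IsIso.of_isIso_comp_left (F.mapDerivedCategoryFactorsh.hom.app _) _
  · intro h
    have h5 : IsIso (F.mapDerivedCategory.map (β.app
        ((HomotopyCategory.quotient B (ComplexShape.up ℤ)).obj K)) ≫
        (dadj adj hB RG β).counit.app (DerivedCategory.Qh.obj
        ((HomotopyCategory.quotient B (ComplexShape.up ℤ)).obj K))) := by
      rw [h1]
      exact IsIso.comp_isIso' inferInstance h
    exact IsIso.of_isIso_comp_left (F.mapDerivedCategory.map (β.app _)) _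

variable (T : ObjectProperty B) [T.IsClosedUnderIsomorphisms]

/-- The derived functor of an exact functor whose right adjoint computes the complexes with cohomology
in `T`. -/
theorem full_faithful_essImage [F.Full] [F.Faithful] (adj : F ⊣ G) (hB : HasKInj B)
    (hT : ∀ X : A, T (F.obj X)) (hrep : ∀ E : DerivedCategory B, ∃ K : CochainComplex B ℤ,
      K.IsKInjective ∧ (∀ n, Injective (K.X n)) ∧ Nonempty (E ≅ DerivedCategory.Q.obj K))
    (hgood : ∀ K : CochainComplex B ℤ, K.IsKInjective → (∀ n, Injective (K.X n)) →
      (∀ n, T (K.homology n)) → QuasiIso ((adjCx adj (ComplexShape.up ℤ)).counit.app K)) :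
    F.mapDerivedCategory.Full ∧ F.mapDerivedCategory.Faithful ∧
      ∀ E : DerivedCategory B, F.mapDerivedCategory.essImage E ↔
        ∀ n : ℤ, T ((DerivedCategory.homologyFunctor B n).obj E) := by
  have hR : (mapQh G).HasRightDerivedFunctor (qis B) := hasRightDerivedFunctor hB _
  let RG := (mapQh G).totalRightDerived DerivedCategory.Qh (qis B)
  let β : mapQh G ⟶ DerivedCategory.Qh ⋙ RG :=
    (mapQh G).totalRightDerivedUnit DerivedCategory.Qh (qis B)
  have hRβ : RG.IsRightDerivedFunctor β (qis B) := by
    dsimp [RG, β]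
    infer_instance
  let a := dadj adj hB RG β
  have h1 : ∀ E : DerivedCategory B, (∀ n : ℤ, T ((DerivedCategory.homologyFunctor B n).obj E)) →
      IsIso (a.counit.app E) := by
    intro E hE
    obtain ⟨K, hK, hK', ⟨e⟩⟩ := hrep E
    refine (NatTrans.isIso_app_iff_of_iso a.counit e).2 ?_
    refine (isIso_counit_Q_iff adj hB RG β K hK).2 (hgood K hK hK' fun n ↦ ?_)
    exact T.prop_of_iso ((DerivedCategory.homologyFunctor B n).mapIso e ≪≫
      (DerivedCategory.homologyFunctorFactors B n).app K) (hE n)
  have h2 : ∀ (X : DerivedCategory A) (n : ℤ),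
      T ((DerivedCategory.homologyFunctor B n).obj (F.mapDerivedCategory.obj X)) := fun X n ↦
    T.prop_of_iso (Groth.Agent.Dcoh.MapDer.homologyMapDerApp F n X).symm (hT _)
  have h3 : ∀ X : DerivedCategory A, IsIso (a.unit.app X) := by
    intro X
    have h4 := h1 _ (h2 X)
    have h5 := a.left_triangle_components X
    have h6 : IsIso (F.mapDerivedCategory.map (a.unit.app X)) := by
      have h7 : IsIso (F.mapDerivedCategory.map (a.unit.app X) ≫
          a.counit.app (F.mapDerivedCategory.obj X)) := by
        rw [h5]
        exact inferInstanceAs (IsIso (𝟙 _))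
      exact IsIso.of_isIso_comp_right _ (a.counit.app (F.mapDerivedCategory.obj X))
    rw [DerivedCategory.isIso_iff]
    intro n
    have h8 : IsIso ((DerivedCategory.homologyFunctor B n).map
      (F.mapDerivedCategory.map (a.unit.app X))) := inferInstance
    rw [Groth.Agent.Dcoh.MapDer.isIso_homology_map_iff] at h8
    exact isIso_of_reflects_iso _ F
  have h4 : IsIso a.unit := NatIso.isIso_of_isIso_app _
  have h5 : F.mapDerivedCategory.FullyFaithful := a.fullyFaithfulLOfIsIsoUnit
  refine ⟨h5.full, h5.faithful, fun E ↦ ⟨?_, fun hE ↦ ?_⟩⟩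
  · rintro ⟨X, ⟨e⟩⟩ n
    exact T.prop_of_iso ((DerivedCategory.homologyFunctor B n).mapIso e) (h2 X n)
  · have := h1 E hE
    exact ⟨_, ⟨asIso (a.counit.app E)⟩⟩

end K920.DerFF
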