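import Groth.Agent.FTors.K920.DerFF
import Groth.Agent.FTors.K920.TorsDer2
import Mathlib.CategoryTheory.Abelian.SerreClass.Basic

/-!
# The derived category of torsion modules
-/

set_option autoImplicit false

universe u

open CategoryTheory CategoryTheory.Limits Opposite

attribute [local instance] HasDerivedCategory.standard

namespace K920.DerTors

open Groth.Agent.Dcoh.DerAbs Groth.Agent.Dcoh.DerHo Groth.Agent.Dcoh.DerAdj
  Groth.Agent.Dcoh.DerComp FTors K920.TorsMod K920.TorsDer K578.Der

variable {C : Type u} [SmallCategory C] {J : GrothendieckTopology C}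
  {O : Sheaf J CommRingCat.{u}} (I : IdealFam O)

/-- `Γ_I` with values in torsion modules. -/
noncomputable def gammaTo : ModSite.Mod O ⥤ (IsTors I).FullSubcategory where
  obj M := ⟨(gamma O I).obj M, isTors_gamma I M⟩
  map f := ObjectProperty.homMk ((gamma O I).map f)
  map_id M := by
    ext : 1
    exact (gamma O I).map_id M
  map_comp f g := by
    ext : 1
    exact (gamma O I).map_comp f g

instance : (gammaTo I).Additive where
  map_add {X Y f g} := by
    ext : 1
    exact (gamma O I).map_add

/-- The inclusion of torsion modules is left adjoint to `Γ_I`. -/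
noncomputable def adjTo : (IsTors I).ι ⊣ gammaTo I :=
  Adjunction.mkOfUnitCounit
    { unit :=
        { app := fun M ↦ ObjectProperty.homMk
            (haveI := (isIso_gammaι_iff M.obj).2 M.property
             (inv ((gammaι I).app M.obj) : M.obj ⟶ (gamma O I).obj M.obj))
          naturality := fun M N f ↦ by
            have h1 := (isIso_gammaι_iff M.obj).2 M.property
            have h2 := (isIso_gammaι_iff N.obj).2 N.property
            ext : 1
            change f.hom ≫ inv ((gammaι I).app N.obj) =
              inv ((gammaι I).app M.obj) ≫ (gamma O I).map f.hom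
            rw [IsIso.comp_inv_eq, Category.assoc, IsIso.eq_inv_comp]
            exact ((gammaι I).naturality f.hom).symm }
      counit := gammaι I
      left_triangle := by
        ext M : 2
        have h1 := (isIso_gammaι_iff M.obj).2 M.property
        change inv ((gammaι I).app M.obj) ≫ 𝟙 _ ≫ (gammaι I).app M.obj = 𝟙 _
        rw [Category.id_comp, IsIso.inv_hom_id]
      right_triangle := by
        ext M : 3
        change inv ((gammaι I).app ((gamma O I).obj M)) ≫ 𝟙 _ ≫
          (gamma O I).map ((gammaι I).app M) = 𝟙 _
        rw [Category.id_comp, gamma_map_gammaι, IsIso.inv_hom_id] }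

lemma adjTo_counit_app (M : ModSite.Mod O) : (adjTo I).counit.app M = (gammaι I).app M := rfl

lemma adjCx_counit (K : CochainComplex (ModSite.Mod O) ℤ) :
    (adjCx (adjTo I) (ComplexShape.up ℤ)).counit.app K = incl I K := by
  ext n : 1
  refine Eq.trans ?_ (incl_f I K n).symm
  rfl

/-- `D(A_t) ⥤ D(O)` is fully faithful with essential image the complexes with torsion cohomology. -/
theorem main (hI : GoodD I) [(IsTors I).ContainsZero] [(IsTors I).IsClosedUnderKernels]
    [(IsTors I).IsClosedUnderCokernels] [(IsTors I).IsClosedUnderFiniteProducts]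
    [PreservesFiniteLimits (IsTors I).ι] [PreservesFiniteColimits (IsTors I).ι] :
    (IsTors I).ι.mapDerivedCategory.Full ∧ (IsTors I).ι.mapDerivedCategory.Faithful ∧
      ∀ G : DerivedCategory (ModSite.Mod O),
        (IsTors I).ι.mapDerivedCategory.essImage G ↔ IsDTors I G :=
  DerFF.full_faithful_essImage (IsTors I) (adjTo I) (hasKInj O) (fun X ↦ X.property)
    exists_rep (fun K h1 h2 h3 ↦ by
      rw [adjCx_counit]
      exact hI K h1 h2 h3)

end K920.DerTors
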