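import Groth.Agent.FTors.K920.Good

/-!
# Divisibility up to torsion in injective modules
-/

set_option autoImplicit false

universe u

open CategoryTheory CategoryTheory.Limits Opposite TopologicalSpace

namespace K920.Good

open FTors K920.Sec K920.InjExt

/-- In a noetherian ring the ideals `(𝔠 : t^m)` stabilise. -/
lemma exists_stable {A : Type*} [CommRing A] [IsNoetherianRing A] (𝔠 : Ideal A) (t : A) :
    ∃ m : ℕ, ∀ (N : ℕ) (a : A), t ^ (m + N) * a ∈ 𝔠 → t ^ m * a ∈ 𝔠 := by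
  let F : ℕ →o Ideal A :=
    { toFun := fun m ↦ Submodule.comap (LinearMap.mulLeft A (t ^ m)) 𝔠
      monotone' := by
        intro m n hmn a ha
        obtain ⟨k, rfl⟩ := Nat.exists_eq_add_of_le hmn
        have ha' : t ^ m * a ∈ 𝔠 := ha
        change t ^ (m + k) * a ∈ 𝔠
        have e : t ^ (m + k) * a = t ^ k * (t ^ m * a) := by ring
        rw [e]
        exact Ideal.mul_mem_left _ _ ha' }
  obtain ⟨m, hm⟩ := monotone_stabilizes_iff_noetherian.2 (inferInstanceAs (IsNoetherian A A)) F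
  refine ⟨m, fun N a ha ↦ ?_⟩
  have h1 : a ∈ F (m + N) := ha
  rw [← hm (m + N) (Nat.le_add_right _ _)] at h1
  exact h1

variable {T : TopCat.{u}} {O : Sheaf (Opens.grothendieckTopology T) CommRingCat.{u}}

variable {I : IdealFam O} {U : Opens T} {𝔞 : Ideal (Rg O U)} {B : Set (Opens T)}
  (hU : IsGoodOpen I U 𝔞 B)

include hU

/-- Divisibility by a power of `t` up to `t`-power torsion, in an injective module and in its submodule
of `𝔟`-power torsion sections. -/
theorem divis (M : ModSite.Mod O) [hM : Injective M] {V : Opens T} (h : V ≤ U)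
    (𝔟 : Ideal (Rg O U)) (t : Rg O U) (z : ModSite.sect M V) (hz : LT M h 𝔟 z) (N : ℕ) (x : T)
    (hx : x ∈ V) :
    ∃ (W : Opens T) (hW : W ≤ V), x ∈ W ∧ ∃ (m : ℕ) (z' : ModSite.sect M W),
      LT M (hW.trans h) 𝔟 z' ∧
        ro (O := O) (hW.trans h) (t ^ (m + N)) • z' = ro (O := O) (hW.trans h) (t ^ m) • rm M hW z := by
  have hN := hU.noeth
  obtain ⟨W, hW, hxW, k, hk⟩ := hz x hx
  obtain ⟨m, hm⟩ := exists_stable (𝔟 ^ k) t
  obtain ⟨q, c, hc⟩ : ∃ (q : ℕ) (c : Fin q → Rg O U), Ideal.span (Set.range c) = 𝔟 ^ k := by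
    obtain ⟨q, c, hc⟩ := (Submodule.fg_iff_exists_fin_generating_family).1
      (IsNoetherian.noetherian (𝔟 ^ k))
    exact ⟨q, c, hc⟩
  let a : Fin (q + 1) → Rg O U := Fin.cons (t ^ (m + N)) c
  let mm : Fin (q + 1) → ModSite.sect M W :=
    Fin.cons (ro (O := O) (hW.trans h) (t ^ m) • rm M hW z) (fun _ ↦ 0)
  obtain ⟨z', hz'⟩ := exists_solution M W (fun i ↦ ro (O := O) (hW.trans h) (a i)) mm (by
    intro V' hV' r hr
    rw [Fin.sum_univ_succ]
    have e1 : ∑ i : Fin q, r i.succ • rm M hV' (mm i.succ) = 0 := by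
      refine Finset.sum_eq_zero fun i _ ↦ ?_
      change r i.succ • rm M hV' 0 = 0
      rw [map_zero, smul_zero]
    rw [e1, add_zero]
    change r 0 • rm M hV' (ro (O := O) (hW.trans h) (t ^ m) • rm M hW z) = 0
    refine eq_zero_of_locally _ fun y hy ↦ ?_
    obtain ⟨V'', hV'', hyV'', hle⟩ := hU.basis V' (hV'.trans (hW.trans h)) y hy
    refine ⟨V'', hle, hyV'', ?_⟩
    let _ : Algebra (Rg O U) (Rg O V'') := (ro (O := O) (hU.le V'' hV'')).toAlgebra
    have hflat : Module.Flat (Rg O U) (Rg O V'') := hU.flat V'' hV''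
    have hrel : ∑ i, a i • ro (O := O) hle (r i) = 0 := by
      have h1 := congrArg (ro (O := O) hle) hr
      rw [map_zero, map_sum] at h1
      rw [← h1]
      refine Finset.sum_congr rfl fun i _ ↦ ?_
      rw [map_mul, ro_ro, ro_ro, Algebra.smul_def, mul_comm]
      rfl
    obtain ⟨κ, α, y, h1, h2⟩ := Module.Flat.isTrivialRelation_of_sum_smul_eq_zero
      (R := Rg O U) (M := Rg O V'') (f := a) (x := fun i ↦ ro (O := O) hle (r i)) hrel
    have h3 : ∀ j, t ^ m * α 0 j ∈ 𝔟 ^ k := by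
      intro j
      refine hm N _ ?_
      have h4 := h2 j
      rw [Fin.sum_univ_succ] at h4
      have h5 : t ^ (m + N) * α 0 j = -∑ i : Fin q, c i * α i.succ j :=
        eq_neg_of_add_eq_zero_left h4
      rw [h5]
      refine neg_mem (Ideal.sum_mem _ fun i _ ↦ Ideal.mul_mem_right _ _ ?_)
      rw [← hc]
      exact Ideal.subset_span ⟨i, rfl⟩
    have h6 : ro (O := O) hle (r 0) = ∑ j, ro (O := O) (hU.le V'' hV'') (α 0 j) * y j := h1 0
    have h7 := hk.rm (hle.trans hV')
    rw [rm_smul, rm_smul, rm_smul, ro_ro, ro_ro, ← mul_smul, h6, Finset.sum_mul, Finset.sum_smul]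
    refine Finset.sum_eq_zero fun j _ ↦ ?_
    have h8 : ro (O := O) (hU.le V'' hV'') (α 0 j) * y j *
        ro (O := O) (hU.le V'' hV'') (t ^ m) =
        y j * ro (O := O) (hU.le V'' hV'') (t ^ m * α 0 j) := by
      rw [map_mul]
      ring
    have h9 := h7 _ (h3 j)
    rw [rm_rm] at h9
    refine (congrArg (fun t ↦ t • _) h8).trans ?_
    rw [mul_smul]
    refine (congrArg (fun t ↦ y j • t) ?_).trans (smul_zero _)
    rw [rm_rm, rm_rm]
    exact h9)
  refine ⟨W, hW, hxW, m, z', ?_, hz' 0⟩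
  refine LT.of_kill (k := k) fun b hb ↦ ?_
  rw [← hc] at hb
  induction hb using Submodule.span_induction with
  | mem x hx =>
    obtain ⟨i, rfl⟩ := hx
    exact hz' i.succ
  | zero => rw [map_zero, zero_smul]
  | add x y _ _ hx hy => rw [map_add, add_smul, hx, hy, add_zero]
  | smul a _ _ hx => rw [smul_eq_mul, map_mul, mul_smul, hx, smul_zero]

end K920.Good
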