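import Groth.Agent.FTors.K920.Sec
import Groth.Agent.FCompl.K29.RStalk

/-!
# Germs of sections (bridge between `K920.Sec` and `K29.RStalk`)
-/

set_option autoImplicit false

universe u

open CategoryTheory CategoryTheory.Limits Opposite TopologicalSpace

namespace K920.Grm

open FTors K920.Sec K29.RSec K29.RStalk

variable {T : TopCat.{u}} {O : Sheaf (Opens.grothendieckTopology T) CommRingCat.{u}}

/-- Germs of sections of the structure sheaf. -/
noncomputable def go (x : T) (V : Opens T) (hx : x ∈ V) : Rg O V →+* StO O x := gmO O x V hx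

/-- Germs of sections. -/
noncomputable def gr (M : ModSite.Mod O) (x : T) (V : Opens T) (hx : x ∈ V) :
    ModSite.sect M V →+ St M x := gm M x V hx

variable (M : ModSite.Mod O) {N : ModSite.Mod O} (x : T) {V W : Opens T}

lemma gr_smul (hx : x ∈ V) (r : Rg O V) (m : ModSite.sect M V) :
    gr M x V hx (r • m) = go x V hx r • gr M x V hx m := gm_smul M x V hx r m

lemma gr_rm (h : W ≤ V) (hx : x ∈ W) (m : ModSite.sect M V) :
    gr M x W hx (rm M h m) = gr M x V (h hx) m := gm_res M x h hx m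

lemma go_ro (h : W ≤ V) (hx : x ∈ W) (r : Rg O V) :
    go x W hx (ro (O := O) h r) = go x V (h hx) r := gmO_resO x h hx r

lemma exists_gr (t : St M x) : ∃ (V : Opens T) (hx : x ∈ V) (s : ModSite.sect M V),
    gr M x V hx s = t := by
  obtain ⟨V, hx, s, h⟩ := exists_gm M x t
  exact ⟨V, hx, s, h⟩

lemma exists_go (t : StO O x) : ∃ (V : Opens T) (hx : x ∈ V) (s : Rg O V), go x V hx s = t := by
  obtain ⟨V, hx, s, h⟩ := exists_gmO x t
  exact ⟨V, hx, s, h⟩

variable {x}

lemma exists_rm_eq (hx : x ∈ V) {s t : ModSite.sect M V} (h : gr M x V hx s = gr M x V hx t) :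
    ∃ (W : Opens T) (hW : W ≤ V), x ∈ W ∧ rm M hW s = rm M hW t := by
  obtain ⟨W, hxW, hW, e⟩ := exists_res_eq M hx h
  exact ⟨W, hW, hxW, e⟩

lemma exists_rm_eq_zero (hx : x ∈ V) {s : ModSite.sect M V} (h : gr M x V hx s = 0) :
    ∃ (W : Opens T) (hW : W ≤ V), x ∈ W ∧ rm M hW s = 0 := by
  obtain ⟨W, hxW, hW, e⟩ := exists_res_eq_zero M hx h
  exact ⟨W, hW, hxW, e⟩

lemma exists_ro_eq (hx : x ∈ V) {s t : Rg O V} (h : go (O := O) x V hx s = go x V hx t) :
    ∃ (W : Opens T) (hW : W ≤ V), x ∈ W ∧ ro (O := O) hW s = ro (O := O) hW t := by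
  obtain ⟨W, hxW, hW, e⟩ := exists_resO_eq hx h
  exact ⟨W, hW, hxW, e⟩

variable (x) {M}

lemma stMap_gr (φ : M ⟶ N) (hx : x ∈ V) (s : ModSite.sect M V) :
    stMap φ x (gr M x V hx s) = gr N x V hx (ap φ V s) := stMap_gm φ x V hx s

end K920.Grm
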