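import Mathlib.RingTheory.Ideal.Operations
import Mathlib.RingTheory.Ideal.Span
import Mathlib.Algebra.Module.LinearMap.Basic
import Mathlib.Tactic.Ring
import Mathlib.Tactic.Abel
import Mathlib.Tactic.Module

/-!
# Torsion parts of quasi-isomorphic complexes of divisible modules

Elementwise: `M`, `N` complexes of `B`-modules, `u : M → N` a quasi-isomorphism.  If all terms are
divisible up to torsion (`Dv`) then `u` is a quasi-isomorphism on the `𝔟`-power torsion parts for `𝔟`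
generated by finitely many elements.
-/

set_option autoImplicit false

namespace K920.TorAlg

variable {B : Type*} [CommRing B]

section Tor

variable {P Q : Type*} [AddCommGroup P] [Module B P] [AddCommGroup Q] [Module B Q]

/-- `z` is killed by a power of `𝔟`. -/
def Tor (𝔟 : Ideal B) (z : P) : Prop := ∃ k : ℕ, ∀ c ∈ 𝔟 ^ k, c • z = 0

variable {𝔟 𝔠 : Ideal B} {z z' : P}

lemma Tor.mono_exp {k l : ℕ} (hkl : k ≤ l) (h : ∀ c ∈ 𝔟 ^ k, c • z = 0) :
    ∀ c ∈ 𝔟 ^ l, c • z = 0 := fun c hc ↦ h c (Ideal.pow_le_pow_right hkl hc)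

lemma Tor.add (h : Tor 𝔟 z) (h' : Tor 𝔟 z') : Tor 𝔟 (z + z') := by
  obtain ⟨k, hk⟩ := h
  obtain ⟨l, hl⟩ := h'
  refine ⟨max k l, fun c hc ↦ ?_⟩
  rw [smul_add, Tor.mono_exp (le_max_left _ _) hk c hc, Tor.mono_exp (le_max_right _ _) hl c hc,
    add_zero]

lemma Tor.smul (b : B) (h : Tor 𝔟 z) : Tor 𝔟 (b • z) := by
  obtain ⟨k, hk⟩ := h
  exact ⟨k, fun c hc ↦ by rw [smul_comm, hk c hc, smul_zero]⟩

lemma Tor.neg (h : Tor 𝔟 z) : Tor 𝔟 (-z) := by
  have := h.smul (-1)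
  rwa [neg_smul, one_smul] at this

lemma Tor.sub (h : Tor 𝔟 z) (h' : Tor 𝔟 z') : Tor 𝔟 (z - z') := by
  rw [sub_eq_add_neg]
  exact h.add h'.neg

lemma Tor.zero : Tor 𝔟 (0 : P) := ⟨0, fun c _ ↦ smul_zero c⟩

lemma Tor.map (f : P →ₗ[B] Q) (h : Tor 𝔟 z) : Tor 𝔟 (f z) := by
  obtain ⟨k, hk⟩ := h
  exact ⟨k, fun c hc ↦ by rw [← map_smul, hk c hc, map_zero]⟩

lemma Tor.mono (hbc : 𝔟 ≤ 𝔠) (h : Tor 𝔠 z) : Tor 𝔟 z := by
  obtain ⟨k, hk⟩ := h
  exact ⟨k, fun c hc ↦ hk c (Ideal.pow_right_mono hbc k hc)⟩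

lemma Tor.bot : Tor (⊥ : Ideal B) z :=
  ⟨1, fun c hc ↦ by rw [pow_one, Ideal.mem_bot] at hc; rw [hc, zero_smul]⟩

lemma Tor.sup (h : Tor 𝔟 z) (h' : Tor 𝔠 z) : Tor (𝔟 ⊔ 𝔠) z := by
  obtain ⟨k, hk⟩ := h
  obtain ⟨l, hl⟩ := h'
  refine ⟨k + l, fun c hc ↦ ?_⟩
  obtain ⟨a, ha, b, hb, rfl⟩ := Submodule.mem_sup.1 (Ideal.sup_pow_add_le_pow_sup_pow hc)
  rw [add_smul, hk a ha, hl b hb, add_zero]

lemma Tor.of_pow {t : B} {k : ℕ} (h : t ^ k • z = 0) : Tor (Ideal.span {t}) z := by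
  refine ⟨k, fun c hc ↦ ?_⟩
  rw [Ideal.span_singleton_pow, Ideal.mem_span_singleton] at hc
  obtain ⟨a, rfl⟩ := hc
  rw [mul_comm, mul_smul, h, smul_zero]

lemma Tor.exists_pow {t : B} (h : Tor (Ideal.span {t}) z) : ∃ k : ℕ, t ^ k • z = 0 := by
  obtain ⟨k, hk⟩ := h
  exact ⟨k, hk _ (Ideal.pow_mem_pow (Ideal.mem_span_singleton_self t) k)⟩

variable (P) in
/-- Divisibility up to torsion. -/
def Dv (𝔟 : Ideal B) (t : B) : Prop :=
  ∀ z : P, Tor 𝔟 z → ∀ N : ℕ, ∃ (m : ℕ) (z' : P), Tor 𝔟 z' ∧ t ^ (m + N) • z' = t ^ m • z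

end Tor

section Cx

variable {M N : ℤ → Type*} [∀ i, AddCommGroup (M i)] [∀ i, Module B (M i)]
  [∀ i, AddCommGroup (N i)] [∀ i, Module B (N i)]
  (dM : ∀ i j, M i →ₗ[B] M j) (dN : ∀ i j, N i →ₗ[B] N j) (u : ∀ i, M i →ₗ[B] N i)

/-- `u` is surjective on the cohomology of the `𝔟`-torsion parts. -/
def Surj (𝔟 : Ideal B) : Prop :=
  ∀ i j, i + 1 = j → ∀ s : N j, Tor 𝔟 s → dN j (j + 1) s = 0 →
    ∃ (s' : M j) (z : N i), Tor 𝔟 s' ∧ dM j (j + 1) s' = 0 ∧ Tor 𝔟 z ∧ s = u j s' + dN i j z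

/-- `u` is injective on the cohomology of the `𝔟`-torsion parts. -/
def Inj (𝔟 : Ideal B) : Prop :=
  ∀ i j, i + 1 = j → ∀ (s : M j) (z : N i), Tor 𝔟 s → dM j (j + 1) s = 0 → Tor 𝔟 z →
    u j s = dN i j z → ∃ w : M i, Tor 𝔟 w ∧ s = dM i j w

variable {dM dN u}
  (hdM : ∀ i j k x, dM j k (dM i j x) = 0) (hdN : ∀ i j k x, dN j k (dN i j x) = 0)
  (hu : ∀ i j x, u j (dM i j x) = dN i j (u i x))

include hdM hdN hu in
lemma surj_step {𝔟 : Ideal B} {t : B} (hs : Surj dM dN u 𝔟) (hi : Inj dM dN u 𝔟)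
    (hM : ∀ i, Dv (M i) 𝔟 t) (hN : ∀ i, Dv (N i) 𝔟 t) :
    Surj dM dN u (Ideal.span {t} ⊔ 𝔟) := by
  intro i j hij s hs1 hs2
  have hsb : Tor 𝔟 s := hs1.mono le_sup_right
  obtain ⟨a, ha⟩ := (hs1.mono le_sup_left : Tor (Ideal.span {t}) s).exists_pow
  obtain ⟨s', z, hs', hds', hz, rfl⟩ := hs i j hij s hsb hs2
  -- `t ^ a • s' = d w`
  obtain ⟨w, hw, hw'⟩ := hi i j hij (t ^ a • s') (-(t ^ a • z)) (hs'.smul _)
    (by rw [map_smul, hds', smul_zero]) (hz.smul _).neg (by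
      rw [map_smul, map_neg, map_smul]
      rw [smul_add] at ha
      exact eq_neg_of_add_eq_zero_left ha)
  obtain ⟨w', v, hw1, hdw', hv, hv'⟩ := hs (i - 1) i (by simp) (t ^ a • z + u i w)
    ((hz.smul _).add (hw.map _)) (by
      subst hij
      rw [map_add, map_smul, ← hu, ← hw', map_smul, ← smul_add, add_comm (dN i (i + 1) z), ha])
  obtain ⟨m, w₁, hw₁, e₁⟩ := hM i (w - w') (hw.sub hw1) a
  obtain ⟨m', v₁, hv₁, e₂⟩ := hN (i - 1) v hv a
  have hd1 : t ^ a • s' = dM i j (w - w') := by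
    subst hij
    rw [map_sub, hdw', sub_zero, hw']
  have hv2 : t ^ a • z + u i (w - w') = dN (i - 1) i v := by
    rw [map_sub, ← add_sub_assoc, hv', add_sub_cancel_left]
  refine ⟨s' - dM i j w₁, z + u i w₁ - dN (i - 1) i v₁, ?_, ?_, ?_, ?_⟩
  · refine Tor.sup (Tor.of_pow (k := m + a) ?_) (hs'.sub (hw₁.map _))
    rw [smul_sub, ← map_smul, e₁, map_smul, ← hd1, ← mul_smul, ← pow_add, sub_self]
  · rw [map_sub, hds', hdM, sub_zero]
  · refine Tor.sup (Tor.of_pow (k := m + m' + a) ?_) ((hz.add (hw₁.map _)).sub (hv₁.map _))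
    have e3 : t ^ (m + m' + a) • u i w₁ = t ^ (m + m') • u i (w - w') := by
      rw [show m + m' + a = m' + (m + a) by ring, pow_add, mul_smul, ← map_smul, e₁, map_smul,
        ← mul_smul, ← pow_add, add_comm m' m]
    have e4 : t ^ (m + m' + a) • dN (i - 1) i v₁ = t ^ (m + m') • dN (i - 1) i v := by
      rw [show m + m' + a = m + (m' + a) by ring, pow_add, mul_smul, ← map_smul, e₂, map_smul,
        ← mul_smul, ← pow_add]
    rw [smul_sub, smul_add, e3, e4, pow_add, mul_smul, ← smul_add, ← smul_sub, hv2, sub_self,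
      smul_zero]
  · rw [map_sub, map_sub, map_add, hdN, hu]
    abel

include hdM hu in
lemma inj_step {𝔟 : Ideal B} {t : B} (hs : Surj dM dN u 𝔟) (hi : Inj dM dN u 𝔟)
    (hM : ∀ i, Dv (M i) 𝔟 t) : Inj dM dN u (Ideal.span {t} ⊔ 𝔟) := by
  intro i j hij s z hs1 hs2 hz hsz
  have hsb : Tor 𝔟 s := hs1.mono le_sup_right
  have hzb : Tor 𝔟 z := hz.mono le_sup_right
  obtain ⟨a, ha⟩ := (hs1.mono le_sup_left : Tor (Ideal.span {t}) s).exists_pow
  obtain ⟨b, hb⟩ := (hz.mono le_sup_left : Tor (Ideal.span {t}) z).exists_pow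
  obtain ⟨w, hw, hw'⟩ := hi i j hij s z hsb hs2 hzb hsz
  obtain ⟨w', v, hw1, hdw', hv, hv'⟩ := hs (i - 1) i (by simp) (u i w - z) ((hw.map _).sub hzb) (by
    subst hij
    rw [map_sub, ← hu, ← hw', hsz, sub_self])
  have hd : s = dM i j (w - w') := by
    subst hij
    rw [map_sub, hdw', sub_zero, hw']
  have hu2 : u i (w - w') - z = dN (i - 1) i v := by
    rw [map_sub, sub_right_comm, hv', add_sub_cancel_left]
  obtain ⟨y, hy, hy'⟩ := hi (i - 1) i (by simp) (t ^ (a + b) • (w - w')) (t ^ (a + b) • v)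
    ((hw.sub hw1).smul _) (by
      subst hij
      rw [map_smul, ← hd, pow_add, mul_comm, mul_smul, ha, smul_zero]) (hv.smul _) (by
      have h3 : t ^ (a + b) • z = 0 := by
        rw [pow_add, mul_smul, hb, smul_zero]
      rw [map_smul, map_smul, ← hu2, smul_sub, h3, sub_zero])
  obtain ⟨m, y₁, hy₁, e₁⟩ := hM (i - 1) y hy (a + b)
  refine ⟨w - w' - dM (i - 1) i y₁, ?_, ?_⟩
  · refine Tor.sup (Tor.of_pow (k := m + (a + b)) ?_) ((hw.sub hw1).sub (hy₁.map _))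
    rw [smul_sub, ← map_smul, e₁, map_smul, pow_add, mul_smul, hy', sub_self]
  · rw [map_sub, hdM, sub_zero, hd]

include hdM hdN hu in
/-- Main induction. -/
theorem main (F₀ : Finset B) (hs : Surj dM dN u ⊥) (hi : Inj dM dN u ⊥)
    (hM : ∀ G ⊆ F₀, ∀ t ∈ F₀, ∀ i, Dv (M i) (Ideal.span (G : Set B)) t)
    (hN : ∀ G ⊆ F₀, ∀ t ∈ F₀, ∀ i, Dv (N i) (Ideal.span (G : Set B)) t) :
    Surj dM dN u (Ideal.span (F₀ : Set B)) ∧ Inj dM dN u (Ideal.span (F₀ : Set B)) := by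
  classical
  have key : ∀ F : Finset B, F ⊆ F₀ →
      Surj dM dN u (Ideal.span (F : Set B)) ∧ Inj dM dN u (Ideal.span (F : Set B)) := by
    intro F
    induction F using Finset.induction_on with
    | empty =>
      intro _
      have : Ideal.span ((∅ : Finset B) : Set B) = ⊥ := by simp
      rw [this]
      exact ⟨hs, hi⟩
    | insert t F htF ih =>
      intro hF
      have h1 := ih ((Finset.subset_insert t F).trans hF)
      have ht : t ∈ F₀ := hF (Finset.mem_insert_self t F)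
      have hspan : Ideal.span ((insert t F : Finset B) : Set B) =
          Ideal.span {t} ⊔ Ideal.span (F : Set B) := by
        rw [Finset.coe_insert, Ideal.span_insert]
      rw [hspan]
      have hF' := (Finset.subset_insert t F).trans hF
      exact ⟨surj_step hdM hdN hu h1.1 h1.2 (hM F hF' t ht) (hN F hF' t ht),
        inj_step hdM hu h1.1 h1.2 (hM F hF' t ht)⟩
  exact key F₀ subset_rfl

end Cx

end K920.TorAlg
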