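import Groth.Agent.FTors.K920.Div
import Groth.Agent.FTors.K920.TorAlg
import Groth.Agent.FTors.K920.Grm

/-!
# Divisibility up to torsion on stalks
-/

set_option autoImplicit false

universe u

open CategoryTheory CategoryTheory.Limits Opposite TopologicalSpace

namespace K920.DivSt

open FTors K920.Sec K920.Good K920.Grm K29.RStalk K920.TorAlg

variable {T : TopCat.{u}} {O : Sheaf (Opens.grothendieckTopology T) CommRingCat.{u}}

/-- The ideal of the stalk generated by an ideal of sections. -/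
noncomputable abbrev gI {U : Opens T} (𝔟 : Ideal (Rg O U)) (x : T) (hx : x ∈ U) :
    Ideal (StO O x) := 𝔟.map (go x U hx)

lemma tor_of_kill {M : ModSite.Mod O} {U V : Opens T} (h : V ≤ U) {𝔟 : Ideal (Rg O U)} {x : T}
    (hx : x ∈ V) {s : ModSite.sect M V} {k : ℕ} (hs : Kill M h (𝔟 ^ k) s) :
    Tor (gI 𝔟 x (h hx)) (gr M x V hx s) := by
  refine ⟨k, fun c hc ↦ ?_⟩
  rw [gI, ← Ideal.map_pow] at hc
  induction hc using Submodule.span_induction with
  | mem c hc =>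
    obtain ⟨a, ha, rfl⟩ := hc
    rw [← go_ro x h hx a, ← gr_smul, hs a ha, map_zero]
  | zero => rw [zero_smul]
  | add x y _ _ hx hy => rw [add_smul, hx, hy, add_zero]
  | smul a _ _ hx => rw [smul_eq_mul, mul_smul, hx, smul_zero]

lemma tor_of_lt {M : ModSite.Mod O} {U V : Opens T} (h : V ≤ U) {𝔟 : Ideal (Rg O U)} {x : T}
    (hx : x ∈ V) {s : ModSite.sect M V} (hs : LT M h 𝔟 s) :
    Tor (gI 𝔟 x (h hx)) (gr M x V hx s) := by
  obtain ⟨W, hW, hxW, k, hk⟩ := hs x hx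
  have h1 := tor_of_kill (hW.trans h) hxW hk
  rw [gr_rm] at h1
  exact h1

lemma exists_kill {M : ModSite.Mod O} {U V : Opens T} (h : V ≤ U) {𝔠 : Ideal (Rg O U)} (hfg : 𝔠.FG)
    {x : T} (hx : x ∈ V) (s : ModSite.sect M V)
    (hs : ∀ a ∈ 𝔠, go x U (h hx) a • gr M x V hx s = 0) :
    ∃ (W : Opens T) (hW : W ≤ V), x ∈ W ∧ Kill M (hW.trans h) 𝔠 (rm M hW s) := by
  classical
  obtain ⟨F, hF⟩ := hfg
  have key : ∀ F : Finset (Rg O U), (∀ a ∈ F, go x U (h hx) a • gr M x V hx s = 0) →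
      ∃ (W : Opens T) (hW : W ≤ V), x ∈ W ∧ ∀ a ∈ F, ro (O := O) (hW.trans h) a • rm M hW s = 0 := by
    intro F
    induction F using Finset.induction_on with
    | empty =>
      intro _
      exact ⟨V, le_rfl, hx, fun a ha ↦ absurd ha (Finset.notMem_empty a)⟩
    | insert t F htF ih =>
      intro hs
      obtain ⟨W, hW, hxW, hk⟩ := ih fun a ha ↦ hs a (Finset.mem_insert_of_mem ha)
      have h1 := hs t (Finset.mem_insert_self t F)
      rw [← go_ro x h hx t, ← gr_smul] at h1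
      obtain ⟨W', hW', hxW', e⟩ := exists_rm_eq_zero M hx h1
      refine ⟨W ⊓ W', inf_le_left.trans hW, ⟨hxW, hxW'⟩, fun a ha ↦ ?_⟩
      rcases Finset.mem_insert.1 ha with rfl | ha
      · have e2 := congrArg (rm M (inf_le_right : W ⊓ W' ≤ W')) e
        rw [map_zero, rm_smul, rm_smul, ro_ro, ro_ro, rm_rm] at e2
        exact e2
      · have e2 := congrArg (rm M (inf_le_left : W ⊓ W' ≤ W)) (hk a ha)
        rw [map_zero, rm_smul, ro_ro, rm_rm] at e2
        exact e2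
  obtain ⟨W, hW, hxW, hk⟩ := key F fun a ha ↦ hs a (by
    rw [← hF]
    exact Ideal.subset_span ha)
  refine ⟨W, hW, hxW, fun a ha ↦ ?_⟩
  rw [← hF] at ha
  induction ha using Submodule.span_induction with
  | mem a ha => exact hk a ha
  | zero => rw [map_zero, zero_smul]
  | add x y _ _ hx hy => rw [map_add, add_smul, hx, hy, add_zero]
  | smul a _ _ hx => rw [smul_eq_mul, map_mul, mul_smul, hx, smul_zero]

lemma exists_lt {M : ModSite.Mod O} {U V : Opens T} (h : V ≤ U) {𝔟 : Ideal (Rg O U)}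
    (hN : IsNoetherianRing (Rg O U)) {x : T} (hx : x ∈ V) (s : ModSite.sect M V)
    (hs : Tor (gI 𝔟 x (h hx)) (gr M x V hx s)) :
    ∃ (W : Opens T) (hW : W ≤ V), x ∈ W ∧ LT M (hW.trans h) 𝔟 (rm M hW s) := by
  obtain ⟨k, hk⟩ := hs
  obtain ⟨W, hW, hxW, h1⟩ := exists_kill h (IsNoetherian.noetherian (𝔟 ^ k)) hx s (fun a ha ↦ by
    refine hk _ ?_
    rw [gI, ← Ideal.map_pow]
    exact Ideal.mem_map_of_mem _ ha)
  exact ⟨W, hW, hxW, LT.of_kill h1⟩

variable {I : IdealFam O} {U : Opens T} {𝔞 : Ideal (Rg O U)} {B : Set (Opens T)}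

set_option maxHeartbeats 400000 in
lemma dv_injective_aux (hU : IsGoodOpen I U 𝔞 B) (M : ModSite.Mod O) [hM : Injective M] {x : T}
    {V : Opens T} (h : V ≤ U) (hx : x ∈ V) (𝔟 : Ideal (Rg O U)) (t : Rg O U)
    (s : ModSite.sect M V) (hz : Tor (gI 𝔟 x (h hx)) (gr M x V hx s)) (N : ℕ) :
    ∃ (m : ℕ) (z' : St M x), Tor (gI 𝔟 x (h hx)) z' ∧
      go x U (h hx) t ^ (m + N) • z' = go x U (h hx) t ^ m • gr M x V hx s := by
  obtain ⟨W, hW, hxW, h1⟩ := exists_lt h hU.noeth hx s hz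
  obtain ⟨W', hW', hxW', m, z', hz1, hz2⟩ := divis hU M _ 𝔟 t (rm M hW s) h1 N x hxW
  have h3 := tor_of_lt (hW'.trans (hW.trans h)) hxW' hz1
  refine ⟨m, gr M x W' hxW' z', h3, ?_⟩
  have h2 := congrArg (gr M x W' hxW') hz2
  rw [gr_smul, gr_smul, gr_rm, gr_rm, go_ro, go_ro, map_pow, map_pow] at h2
  exact h2

set_option maxHeartbeats 400000 in
/-- Stalks of injective modules are divisible up to torsion. -/
theorem dv_injective' (hU : IsGoodOpen I U 𝔞 B) (M : ModSite.Mod O) [hM : Injective M] {x : T}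
    (hx : x ∈ U) (𝔟 : Ideal (Rg O U)) (t : Rg O U) (z : St M x) (hz : Tor (gI 𝔟 x hx) z) (N : ℕ) :
    ∃ (m : ℕ) (z' : St M x), Tor (gI 𝔟 x hx) z' ∧
      go x U hx t ^ (m + N) • z' = go x U hx t ^ m • z := by
  obtain ⟨V, hV, s, hs⟩ := exists_gr M x z
  have h1 : gr M x (V ⊓ U) ⟨hV, hx⟩ (rm M inf_le_left s) = z := by rw [gr_rm, hs]
  subst h1
  exact dv_injective_aux hU M (inf_le_right : V ⊓ U ≤ U) ⟨hV, hx⟩ 𝔟 t _ hz N

theorem dv_injective (hU : IsGoodOpen I U 𝔞 B) (M : ModSite.Mod O) [hM : Injective M] {x : T}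
    (hx : x ∈ U) (𝔟 : Ideal (Rg O U)) (t : Rg O U) :
    Dv (St M x) (gI 𝔟 x hx) (go x U hx t) :=
  fun z hz N ↦ dv_injective' hU M hx 𝔟 t z hz N

end K920.DivSt
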