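import Groth.Agent.FTors.K920.TorAlg
import Mathlib.RingTheory.Flat.Basic
import Mathlib.RingTheory.IsTensorProduct
import Mathlib.LinearAlgebra.TensorProduct.Pi
import Mathlib.RingTheory.Finiteness.Ideal
import Mathlib.RingTheory.Ideal.Maps

/-!
# Torsion elements of a flat base change
-/

set_option autoImplicit false

open TensorProduct

namespace K920.FlatTor

open K920.TorAlg

variable {A B P Q : Type*} [CommRing A] [CommRing B] [Algebra A B] [AddCommGroup P] [Module A P]
  [AddCommGroup Q] [Module A Q] [Module B Q] [IsScalarTower A B Q]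

/-- The elements killed by `c i` for all `i`. -/
def ann {n : ℕ} (c : Fin n → A) : P →ₗ[A] (Fin n → P) := LinearMap.pi fun i ↦ c i • LinearMap.id

lemma ann_apply {n : ℕ} (c : Fin n → A) (p : P) (i : Fin n) : ann c p i = c i • p := rfl

lemma mem_range_of_kill [Module.Flat A B] {n : ℕ} (c : Fin n → A) (z : B ⊗[A] P)
    (hz : ∀ i, c i • z = 0) :
    z ∈ LinearMap.range ((LinearMap.ker (ann (P := P) c)).subtype.lTensor B) := by
  have h1 : Function.Exact (LinearMap.ker (ann (P := P) c)).subtype (ann (P := P) c) :=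
    LinearMap.exact_subtype_ker_map _
  have h2 := Module.Flat.lTensor_exact B h1
  refine (h2 z).1 ?_
  have h3 : Function.Injective (TensorProduct.piRight A A B (fun _ : Fin n ↦ P)) :=
    LinearEquiv.injective _
  refine h3 ?_
  rw [map_zero]
  funext i
  have h4 : ∀ w : B ⊗[A] P, TensorProduct.piRight A A B (fun _ : Fin n ↦ P)
      ((ann (P := P) c).lTensor B w) i = c i • w := by
    intro w
    induction w with
    | zero => simp
    | tmul b p =>
      rw [LinearMap.lTensor_tmul, TensorProduct.piRight_apply]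
      simp [ann_apply]
    | add x y hx hy =>
      rw [map_add, map_add, Pi.add_apply, hx, hy, smul_add]
  rw [h4, hz]
  rfl

/-- Elements of a flat base change killed by finitely many elements are combinations of elements killed
by them. -/
theorem mem_span_of_kill [Module.Flat A B] (g : P →ₗ[A] Q) (hg : IsBaseChange B g) {n : ℕ}
    (c : Fin n → A) (z : Q) (hz : ∀ i, algebraMap A B (c i) • z = 0) :
    z ∈ Submodule.span B (g '' {p | ∀ i, c i • p = 0}) := by
  obtain ⟨w, rfl⟩ := hg.equiv.surjective z
  have h1 : ∀ i, c i • w = 0 := by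
    intro i
    refine hg.equiv.injective ?_
    rw [map_zero, ← algebraMap_smul B (c i) w, map_smul, hz]
  obtain ⟨v, rfl⟩ := mem_range_of_kill c w h1
  induction v with
  | zero => rw [map_zero, map_zero]; exact zero_mem _
  | tmul b p =>
    rw [LinearMap.lTensor_tmul, IsBaseChange.equiv_tmul]
    refine Submodule.smul_mem _ _ (Submodule.subset_span ⟨p.1, fun i ↦ ?_, rfl⟩)
    have := congrFun (LinearMap.mem_ker.1 p.2) i
    exact this
  | add x y hx hy =>
    rw [map_add, map_add]
    have k1 : ∀ (x : B ⊗[A] LinearMap.ker (ann (P := P) c)), ∀ i,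
        c i • (LinearMap.ker (ann (P := P) c)).subtype.lTensor B x = 0 := by
      intro x i
      rw [← map_smul]
      have : c i • x = 0 := by
        induction x with
        | zero => rw [smul_zero]
        | tmul b p =>
          rw [← tmul_smul]
          have : c i • p = 0 := Subtype.ext (congrFun (LinearMap.mem_ker.1 p.2) i)
          rw [this, tmul_zero]
        | add x y hx hy => rw [smul_add, hx, hy, add_zero]
      rw [this, map_zero]
    have k2 : ∀ (x : B ⊗[A] LinearMap.ker (ann (P := P) c)), ∀ i, algebraMap A B (c i) •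
        hg.equiv ((LinearMap.ker (ann (P := P) c)).subtype.lTensor B x) = 0 := by
      intro x i
      rw [← map_smul, algebraMap_smul, k1, map_zero]
    exact add_mem (hx (k2 x) (k1 x)) (hy (k2 y) (k1 y))

lemma tor_map {𝔟 : Ideal A} (g : P →ₗ[A] Q) {p : P} (h : Tor 𝔟 p) :
    Tor (𝔟.map (algebraMap A B)) (g p) := by
  obtain ⟨k, hk⟩ := h
  refine ⟨k, fun b hb ↦ ?_⟩
  rw [← Ideal.map_pow] at hb
  induction hb using Submodule.span_induction with
  | mem x hx =>
    obtain ⟨c, hc, rfl⟩ := hx
    rw [algebraMap_smul, ← map_smul, hk c hc, map_zero]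
  | zero => rw [zero_smul]
  | add x y _ _ hx hy => rw [add_smul, hx, hy, add_zero]
  | smul a _ _ hx => rw [smul_eq_mul, mul_smul, hx, smul_zero]

/-- Torsion elements of a flat base change are combinations of torsion elements. -/
theorem mem_span_of_tor [Module.Flat A B] (g : P →ₗ[A] Q) (hg : IsBaseChange B g) {𝔟 : Ideal A}
    (h𝔟 : 𝔟.FG) (z : Q) (hz : Tor (𝔟.map (algebraMap A B)) z) :
    z ∈ Submodule.span B (g '' {p | Tor 𝔟 p}) := by
  obtain ⟨k, hk⟩ := hz
  obtain ⟨n, c, hc⟩ := (Submodule.fg_iff_exists_fin_generating_family).1 (h𝔟.pow (n := k))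
  have h1 := mem_span_of_kill g hg c z fun i ↦ hk _ (by
    rw [← Ideal.map_pow]
    refine Ideal.mem_map_of_mem _ ?_
    rw [← hc]
    exact Submodule.subset_span ⟨i, rfl⟩)
  refine Submodule.span_mono (Set.image_mono ?_) h1
  intro p hp
  refine ⟨k, fun a ha ↦ ?_⟩
  rw [← hc] at ha
  induction ha using Submodule.span_induction with
  | mem x hx =>
    obtain ⟨i, rfl⟩ := hx
    exact hp i
  | zero => rw [zero_smul]
  | add x y _ _ hx hy => rw [add_smul, hx, hy, add_zero]
  | smul a _ _ hx => rw [smul_eq_mul, mul_smul, hx, smul_zero]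

/-- Divisibility up to torsion passes to flat base changes. -/
theorem dv_map [Module.Flat A B] (g : P →ₗ[A] Q) (hg : IsBaseChange B g) {𝔟 : Ideal A}
    (h𝔟 : 𝔟.FG) {t : A} (h : Dv P 𝔟 t) :
    Dv Q (𝔟.map (algebraMap A B)) (algebraMap A B t) := by
  intro z hz N
  have h1 := mem_span_of_tor g hg h𝔟 z hz
  clear hz
  induction h1 using Submodule.span_induction with
  | mem x hx =>
    obtain ⟨p, hp, rfl⟩ := hx
    obtain ⟨m, p', hp', e⟩ := h p hp N
    refine ⟨m, g p', tor_map g hp', ?_⟩
    rw [← map_pow, ← map_pow, algebraMap_smul, algebraMap_smul, ← map_smul, ← map_smul, e]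
  | zero => exact ⟨0, 0, Tor.zero, by rw [smul_zero, smul_zero]⟩
  | add x y _ _ hx hy =>
    obtain ⟨m, x', hx', e⟩ := hx
    obtain ⟨m', y', hy', e'⟩ := hy
    refine ⟨m + m', x' + y', hx'.add hy', ?_⟩
    rw [smul_add, smul_add]
    congr 1
    · rw [show m + m' + N = m' + (m + N) by ring, pow_add, mul_smul, e, ← mul_smul, ← pow_add,
        add_comm m' m]
    · rw [show m + m' + N = m + (m' + N) by ring, pow_add, mul_smul, e', ← mul_smul, ← pow_add]
  | smul a x _ hx =>
    obtain ⟨m, x', hx', e⟩ := hx
    refine ⟨m, a • x', hx'.smul a, ?_⟩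
    rw [smul_comm, e, smul_comm]

end K920.FlatTor
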