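import Groth.Agent.FTors.K920.InjExt
import Mathlib.RingTheory.Flat.EquationalCriterion
import Mathlib.RingTheory.RingHom.Flat

/-!
# Locally adic-noetherian families of ideals on a ringed space, and divisibility up to torsion in
injective modules
-/

set_option autoImplicit false

universe u

open CategoryTheory CategoryTheory.Limits Opposite TopologicalSpace

namespace K920.Good

open FTors K920.Sec K920.InjExt

variable {T : TopCat.{u}} {O : Sheaf (Opens.grothendieckTopology T) CommRingCat.{u}}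

/-- The ring of sections over `U` is noetherian, `B` is a basis of opens of `U` with flat restriction
maps from `U`, and on `B` the family `I` is cofinal with the powers of the ideal `𝔞` of `O(U)`. -/
structure IsGoodOpen (I : IdealFam O) (U : Opens T) (𝔞 : Ideal (Rg O U)) (B : Set (Opens T)) :
    Prop where
  noeth : IsNoetherianRing (Rg O U)
  le : ∀ V ∈ B, V ≤ U
  flat : ∀ V (hV : V ∈ B), (ro (O := O) (le V hV)).Flat
  basis : ∀ (W : Opens T), W ≤ U → ∀ x ∈ W, ∃ V ∈ B, x ∈ V ∧ V ≤ W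
  pow_le : ∀ n, ∃ m, ∀ V (hV : V ∈ B), (𝔞 ^ m).map (ro (O := O) (le V hV)) ≤ I.ideal n V
  le_pow : ∀ m, ∃ n, ∀ V (hV : V ∈ B), I.ideal n V ≤ (𝔞 ^ m).map (ro (O := O) (le V hV))

/-- Every point has a good open neighbourhood. -/
def GoodFam (I : IdealFam O) : Prop :=
  ∀ x : T, ∃ U : Opens T, x ∈ U ∧ ∃ (𝔞 : Ideal (Rg O U)) (B : Set (Opens T)), IsGoodOpen I U 𝔞 B

/-- `s` is killed by the ideal `𝔠` of `O(U)`. -/
def Kill (M : ModSite.Mod O) {U V : Opens T} (h : V ≤ U) (𝔠 : Ideal (Rg O U))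
    (s : ModSite.sect M V) : Prop := ∀ a ∈ 𝔠, ro (O := O) h a • s = 0

/-- `s` is locally killed by a power of the ideal `𝔟` of `O(U)`. -/
def LT (M : ModSite.Mod O) {U V : Opens T} (h : V ≤ U) (𝔟 : Ideal (Rg O U))
    (s : ModSite.sect M V) : Prop :=
  ∀ x ∈ V, ∃ (W : Opens T) (hW : W ≤ V), x ∈ W ∧ ∃ k : ℕ, Kill M (hW.trans h) (𝔟 ^ k) (rm M hW s)

section Basic

variable {M N : ModSite.Mod O} {U V W : Opens T} {h : V ≤ U} {𝔟 𝔠 : Ideal (Rg O U)}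
  {s t : ModSite.sect M V}

lemma Kill.rm (hW : W ≤ V) (hs : Kill M h 𝔠 s) : Kill M (hW.trans h) 𝔠 (Sec.rm M hW s) := by
  intro a ha
  rw [← ro_ro h hW, ← rm_smul, hs a ha, map_zero]

lemma Kill.mono (hbc : 𝔟 ≤ 𝔠) (hs : Kill M h 𝔠 s) : Kill M h 𝔟 s := fun a ha ↦ hs a (hbc ha)

lemma Kill.add (hs : Kill M h 𝔠 s) (ht : Kill M h 𝔠 t) : Kill M h 𝔠 (s + t) := by
  intro a ha
  rw [smul_add, hs a ha, ht a ha, add_zero]

lemma Kill.sub (hs : Kill M h 𝔠 s) (ht : Kill M h 𝔠 t) : Kill M h 𝔠 (s - t) := by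
  intro a ha
  rw [smul_sub, hs a ha, ht a ha, sub_zero]

lemma Kill.smul (c : Rg O V) (hs : Kill M h 𝔠 s) : Kill M h 𝔠 (c • s) := by
  intro a ha
  rw [smul_comm, hs a ha, smul_zero]

lemma Kill.ap (f : M ⟶ N) (hs : Kill M h 𝔠 s) : Kill N h 𝔠 (Sec.ap f V s) := by
  intro a ha
  rw [← map_smul, hs a ha, map_zero]

lemma Kill.map (hs : Kill M h 𝔠 s) (b : Rg O V) (hb : b ∈ 𝔠.map (ro (O := O) h)) : b • s = 0 := by
  induction hb using Submodule.span_induction with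
  | mem x hx =>
    obtain ⟨a, ha, rfl⟩ := hx
    exact hs a ha
  | zero => rw [zero_smul]
  | add x y _ _ hx hy => rw [add_smul, hx, hy, add_zero]
  | smul a _ _ hx => rw [smul_eq_mul, mul_smul, hx, smul_zero]

lemma LT.of_kill {k : ℕ} (hs : Kill M h (𝔟 ^ k) s) : LT M h 𝔟 s :=
  fun x hx ↦ ⟨V, le_rfl, hx, k, hs.rm le_rfl⟩

lemma LT.rm (hW : W ≤ V) (hs : LT M h 𝔟 s) : LT M (hW.trans h) 𝔟 (Sec.rm M hW s) := by
  intro x hx
  obtain ⟨W', hW', hxW', k, hk⟩ := hs x (hW hx)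
  refine ⟨W' ⊓ W, inf_le_right, ⟨hxW', hx⟩, k, ?_⟩
  rw [rm_rm]
  have := hk.rm (inf_le_left : W' ⊓ W ≤ W')
  rwa [rm_rm] at this

lemma LT.of_locally (hs : ∀ x ∈ V, ∃ (W : Opens T) (hW : W ≤ V), x ∈ W ∧
    LT M (hW.trans h) 𝔟 (Sec.rm M hW s)) : LT M h 𝔟 s := by
  intro x hx
  obtain ⟨W, hW, hxW, h1⟩ := hs x hx
  obtain ⟨W', hW', hxW', k, hk⟩ := h1 x hxW
  exact ⟨W', hW'.trans hW, hxW', k, by rwa [rm_rm] at hk⟩

lemma LT.mono (hbc : 𝔟 ≤ 𝔠) (hs : LT M h 𝔠 s) : LT M h 𝔟 s := by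
  intro x hx
  obtain ⟨W', hW', hxW', k, hk⟩ := hs x hx
  exact ⟨W', hW', hxW', k, hk.mono (Ideal.pow_right_mono hbc k)⟩

lemma LT.add (hs : LT M h 𝔟 s) (ht : LT M h 𝔟 t) : LT M h 𝔟 (s + t) := by
  intro x hx
  obtain ⟨W, hW, hxW, k, hk⟩ := hs x hx
  obtain ⟨W', hW', hxW', k', hk'⟩ := ht x hx
  refine ⟨W ⊓ W', inf_le_left.trans hW, ⟨hxW, hxW'⟩, max k k', ?_⟩
  have h1 := (hk.rm (inf_le_left : W ⊓ W' ≤ W)).mono (Ideal.pow_le_pow_right (le_max_left k k'))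
  have h2 := (hk'.rm (inf_le_right : W ⊓ W' ≤ W')).mono (Ideal.pow_le_pow_right (le_max_right k k'))
  rw [rm_rm] at h1 h2
  rw [map_add]
  exact Kill.add h1 h2

lemma LT.smul (c : Rg O V) (hs : LT M h 𝔟 s) : LT M h 𝔟 (c • s) := by
  intro x hx
  obtain ⟨W, hW, hxW, k, hk⟩ := hs x hx
  refine ⟨W, hW, hxW, k, ?_⟩
  rw [rm_smul]
  exact hk.smul _

lemma LT.neg (hs : LT M h 𝔟 s) : LT M h 𝔟 (-s) := by
  have := hs.smul (-1 : Rg O V)
  rwa [neg_smul, one_smul] at this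

lemma LT.sub (hs : LT M h 𝔟 s) (ht : LT M h 𝔟 t) : LT M h 𝔟 (s - t) := by
  rw [sub_eq_add_neg]
  exact hs.add ht.neg

lemma LT.ap (f : M ⟶ N) (hs : LT M h 𝔟 s) : LT N h 𝔟 (Sec.ap f V s) := by
  intro x hx
  obtain ⟨W, hW, hxW, k, hk⟩ := hs x hx
  refine ⟨W, hW, hxW, k, ?_⟩
  rw [← ap_rm]
  exact hk.ap f

lemma LT.bot : LT M h ⊥ s := by
  refine LT.of_kill (k := 1) ?_
  intro a ha
  rw [pow_one, Ideal.mem_bot] at ha
  rw [ha, map_zero, zero_smul]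

lemma Kill.sup (hs : Kill M h 𝔟 s) (hs' : Kill M h 𝔠 s) : Kill M h (𝔟 ⊔ 𝔠) s := by
  intro a ha
  obtain ⟨b, hb, c, hc, rfl⟩ := Submodule.mem_sup.1 ha
  rw [map_add, add_smul, hs b hb, hs' c hc, add_zero]

lemma LT.sup (hs : LT M h 𝔟 s) (hs' : LT M h 𝔠 s) : LT M h (𝔟 ⊔ 𝔠) s := by
  intro x hx
  obtain ⟨W, hW, hxW, k, hk⟩ := hs x hx
  obtain ⟨W', hW', hxW', k', hk'⟩ := hs' x hx
  refine ⟨W ⊓ W', inf_le_left.trans hW, ⟨hxW, hxW'⟩, k + k', ?_⟩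
  have h1 := hk.rm (inf_le_left : W ⊓ W' ≤ W)
  have h2 := hk'.rm (inf_le_right : W ⊓ W' ≤ W')
  rw [rm_rm] at h1 h2
  exact (Kill.sup h1 h2).mono Ideal.sup_pow_add_le_pow_sup_pow

lemma kill_span_singleton_pow {a : Rg O U} {k : ℕ} (hs : ro (O := O) h (a ^ k) • s = 0) :
    Kill M h (Ideal.span {a} ^ k) s := by
  intro b hb
  rw [Ideal.span_singleton_pow, Ideal.mem_span_singleton] at hb
  obtain ⟨c, rfl⟩ := hb
  rw [mul_comm, map_mul, mul_smul, hs, smul_zero]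

end Basic

section Tors

variable {I : IdealFam O} {U : Opens T} {𝔞 : Ideal (Rg O U)} {B : Set (Opens T)}
  (hU : IsGoodOpen I U 𝔞 B)

include hU

/-- Over a good open, torsion sections are the sections locally killed by a power of `𝔞`. -/
theorem isTorsSect_iff {M : ModSite.Mod O} {V : Opens T} (h : V ≤ U) (s : ModSite.sect M V) :
    IsTorsSect I M s ↔ LT M h 𝔞 s := by
  constructor
  · intro hs x hx
    obtain ⟨W, g, ⟨n, hn⟩, hxW⟩ := hs x hx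
    obtain ⟨m, hm⟩ := hU.pow_le n
    refine ⟨W, leOfHom g, hxW, m, fun a ha ↦ ?_⟩
    refine eq_zero_of_locally _ fun y hy ↦ ?_
    obtain ⟨V', hV', hyV', hle⟩ := hU.basis W ((leOfHom g).trans h) y hy
    refine ⟨V', hle, hyV', ?_⟩
    rw [rm_smul, ro_ro]
    exact hn (homOfLE hle) _ (hm V' hV' (Ideal.mem_map_of_mem _ ha))
  · intro hs x hx
    obtain ⟨W, hW, hxW, k, hk⟩ := hs x hx
    obtain ⟨n, hn⟩ := hU.le_pow k
    refine ⟨W, homOfLE hW, ⟨n, fun W' g a ha ↦ ?_⟩, hxW⟩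
    refine eq_zero_of_locally _ fun y hy ↦ ?_
    obtain ⟨V', hV', hyV', hle⟩ := hU.basis W' ((leOfHom g).trans (hW.trans h)) y hy
    refine ⟨V', hle, hyV', ?_⟩
    have h1 : ro (O := O) hle a ∈ I.ideal n V' := I.map_mem n (homOfLE hle) ha
    have h2 := (hk.rm (hle.trans (leOfHom g))).map _ (hn V' hV' h1)
    rw [rm_smul]
    refine Eq.trans ?_ h2
    congr 1
    exact rm_rm M (leOfHom g) hle _

end Tors

end K920.Good
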