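import Groth.Agent.FTors.K920.Good
import Groth.Prelude.Def_FTors3
import Mathlib.AlgebraicGeometry.Morphisms.Flat
import Mathlib.AlgebraicGeometry.Noetherian

/-!
# The powers of an ideal sheaf on a locally noetherian scheme form a good family
-/

set_option autoImplicit false

universe u

open CategoryTheory CategoryTheory.Limits Opposite TopologicalSpace AlgebraicGeometry

namespace K920.Good

open FTors K920.Sec

variable (X : Scheme.{u}) (𝓘 : X.IdealSheafData)

lemma mem_powIdealFam_of_affine (n : ℕ) (V : X.affineOpens) (a : X.sheaf.obj.obj (op (V : X.Opens))) :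
    a ∈ (powIdealFam X 𝓘).ideal n V ↔ (show Γ(X, V) from a) ∈ (𝓘.ideal V) ^ n := by
  rw [mem_powIdealFam_iff]
  constructor
  · intro h
    have h1 := h V le_rfl
    have e : X.presheaf.map (homOfLE (le_refl (V : X.Opens))).op = 𝟙 _ := X.presheaf.map_id _
    rw [e] at h1
    exact h1
  · intro h W hW
    have h1 := 𝓘.map_ideal (U := W) (V := V) hW
    rw [← h1, ← Ideal.map_pow]
    exact Ideal.mem_map_of_mem _ h

lemma isGoodOpen_powIdealFam [IsLocallyNoetherian X] (U : X.affineOpens) :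
    IsGoodOpen (T := X.carrier) (powIdealFam X 𝓘) (U : X.Opens) (𝓘.ideal U)
      {V | IsAffineOpen V ∧ V ≤ U} where
  noeth := IsLocallyNoetherian.component_noetherian U
  le V hV := hV.2
  flat V hV := by
    have h1 := Scheme.Hom.flat_appLE (𝟙 X) U.2 hV.1 hV.2
    have h2 : (𝟙 X : X ⟶ X).appLE U V hV.2 = X.presheaf.map (homOfLE hV.2).op := by
      rw [Scheme.Hom.appLE]
      exact Category.id_comp _
    rw [h2] at h1
    exact h1
  basis W hW x hx := by
    obtain ⟨V, hV, hxV, hVW⟩ := Opens.isBasis_iff_nbhd.mp X.isBasis_affineOpens hx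
    exact ⟨V, ⟨hV, hVW.trans hW⟩, hxV, hVW⟩
  pow_le n := ⟨n, fun V hV ↦ by
    rw [Ideal.map_le_iff_le_comap]
    intro a ha
    rw [Ideal.mem_comap]
    refine (mem_powIdealFam_of_affine X 𝓘 n ⟨V, hV.1⟩ _).2 ?_
    rw [← 𝓘.map_ideal (U := ⟨V, hV.1⟩) (V := U) hV.2, ← Ideal.map_pow]
    exact Ideal.mem_map_of_mem _ ha⟩
  le_pow m := ⟨m, fun V hV a ha ↦ by
    have h1 := (mem_powIdealFam_of_affine X 𝓘 m ⟨V, hV.1⟩ _).1 ha
    rw [← 𝓘.map_ideal (U := ⟨V, hV.1⟩) (V := U) hV.2, ← Ideal.map_pow] at h1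
    exact h1⟩

/-- On a locally noetherian scheme the powers of an ideal sheaf form a good family. -/
theorem goodFam_powIdealFam [IsLocallyNoetherian X] :
    GoodFam (T := X.carrier) (powIdealFam X 𝓘) := by
  intro x
  obtain ⟨U, hU, hxU, -⟩ := Opens.isBasis_iff_nbhd.mp X.isBasis_affineOpens
    (show x ∈ (⊤ : X.Opens) from trivial)
  exact ⟨U, hxU, _, _, isGoodOpen_powIdealFam X 𝓘 ⟨U, hU⟩⟩

end K920.Good
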