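import Groth.Agent.FTors.K920.Sec
import Groth.Agent.Gaga.H976.TM3
import Groth.Agent.S3087

/-!
# Solving linear equations in injective modules on a ringed space
-/

set_option autoImplicit false

universe u

open CategoryTheory CategoryTheory.Limits Opposite TopologicalSpace

namespace K920.InjExt

open FTors Groth.Agent.Gaga.H976 K920.Sec Groth.Agent.Gaga.H976.TM1 Groth.Agent.Gaga.H976.TM2

/-- Restrictions of injective modules are injective. -/
lemma injective_over {C : Type u} [SmallCategory C] {J : GrothendieckTopology C}
    {A : Sheaf J RingCat.{u}} (X : C) (M : SheafOfModules.{u} A) [Injective M] :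
    Injective ((SheafOfModules.overFunctor.{u} A X).obj M) := by
  obtain ⟨h1, h2⟩ := Groth.Agent.S3087.result J X A
  have h3 := h2 _ (Adjunction.ofIsRightAdjoint (SheafOfModules.overFunctor.{u} A X))
  have := h3.1
  exact Injective.injective_of_adjoint
    (Adjunction.ofIsRightAdjoint (SheafOfModules.overFunctor.{u} A X)) M

variable {T : TopCat.{u}} {O : Sheaf (Opens.grothendieckTopology T) CommRingCat.{u}}

/-- Linear equations `a i • z = m i` can be solved in an injective module over `W` as soon as every
relation between the `a i` (over every open subset of `W`) is a relation between the `m i`. -/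
theorem exists_solution (M : ModSite.Mod O) [hM : Injective M] (W : Opens T) {q : ℕ}
    (a : Fin q → Rg O W) (m : Fin q → ModSite.sect M W)
    (h : ∀ (V : Opens T) (hV : V ≤ W) (r : Fin q → Rg O V),
      ∑ i, r i * ro (O := O) hV (a i) = 0 → ∑ i, r i • rm M hV (m i) = 0) :
    ∃ z : ModSite.sect M W, ∀ i, a i • z = m i := by
  classical
  let R := ModSite.ringSh O
  let M' : SheafOfModules.{u} (R.over W) := (SheafOfModules.overFunctor.{u} R W).obj M
  have hM' : Injective M' := injective_over W M
  let α : ULift.{u} (Fin q) → (SheafOfModules.unit (R.over W)).sections :=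
    fun i ↦ TM3.toRSec W (a i.down)
  let β : ULift.{u} (Fin q) → M'.sections := fun i ↦ TM3.toSec M W (m i.down)
  let f := (SheafOfModules.unit (R.over W)).freeHomEquiv.symm α
  let g := M'.freeHomEquiv.symm β
  have hf : ∀ X t, f.val.app X t = ∑ j, co t j • sec (α j) X := by
    intro X t
    rw [map_free]
    simp only [f, Equiv.apply_symm_apply]
  have hg : ∀ X t, g.val.app X t = ∑ j, co t j • sec (β j) X := by
    intro X t
    rw [map_free]
    simp only [g, Equiv.apply_symm_apply]
  have hker : kernel.ι f ≫ g = 0 := by
    apply SheafOfModules.hom_ext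
    ext X k
    let t : (SheafOfModules.free (R := R.over W) (ULift.{u} (Fin q))).val.obj X :=
      (kernel.ι f).val.app X k
    have h1 : f.val.app X t = 0 := by
      have h2 : (kernel.ι f ≫ f).val.app X k = 0 := by
        rw [kernel.condition]
        rfl
      exact h2
    have h3 : g.val.app X t = 0 := by
      rw [hf] at h1
      rw [hg]
      have h4 := h X.unop.left (leOfHom X.unop.hom) (fun i ↦ co t (ULift.up i)) (by
        refine Eq.trans ?_ h1
        exact (Fintype.sum_equiv Equiv.ulift _ _ (fun _ ↦ rfl)).symm)
      refine Eq.trans ?_ h4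
      exact Fintype.sum_equiv Equiv.ulift _ _ (fun _ ↦ rfl)
    exact h3
  have hex : (ShortComplex.mk (kernel.ι f) f (kernel.condition f)).Exact :=
    ShortComplex.exact_of_f_is_kernel _ (kernelIsKernel f)
  let φ := hex.descToInjective g hker
  have hφ : f ≫ φ = g := hex.comp_descToInjective g hker
  let X₀ : (Over W)ᵒᵖ := op (Over.mk (𝟙 W))
  refine ⟨TM3.ofSec M W (M'.unitHomEquiv φ), fun i ↦ ?_⟩
  have hfi : f.val.app X₀ (sec (SheafOfModules.freeSection (R := R.over W) (ULift.up i)) X₀) =
      sec (α (ULift.up i)) X₀ := by
    have h5 := congrFun (Equiv.apply_symm_apply (SheafOfModules.unit (R.over W)).freeHomEquiv α)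
      (ULift.up i)
    exact congrArg (fun s ↦ sec s X₀) h5
  have hgi : g.val.app X₀ (sec (SheafOfModules.freeSection (R := R.over W) (ULift.up i)) X₀) =
      sec (β (ULift.up i)) X₀ := by
    have h5 := congrFun (Equiv.apply_symm_apply M'.freeHomEquiv β) (ULift.up i)
    exact congrArg (fun s ↦ sec s X₀) h5
  have h1 : φ.val.app X₀
        (f.val.app X₀ (sec (SheafOfModules.freeSection (R := R.over W) (ULift.up i)) X₀)) =
      g.val.app X₀ (sec (SheafOfModules.freeSection (R := R.over W) (ULift.up i)) X₀) := by
    rw [← hφ]
    rfl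
  rw [hfi, hgi] at h1
  have h2 : φ.val.app X₀ (sec (α (ULift.up i)) X₀) =
      (show (R.over W).obj.obj X₀ from a i) • sec (M'.unitHomEquiv φ) X₀ := by
    rw [← map_unit φ X₀]
    congr 1
    exact ro_self (O := O) le_rfl (a i)
  rw [h2] at h1
  refine Eq.trans h1 ?_
  exact rm_self M le_rfl (m i)

end K920.InjExt
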