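import Groth.Agent.FCompl.K29.RExact
import Groth.Agent.FTors.K920.AlgBC
import Groth.Agent.FTors.K920.TorsMod

/-!
# Torsion modules along a morphism of ringed spaces which is an isomorphism modulo the ideals

`f : T1 ⟶ T` a closed embedding of spaces, `φ : R ⟶ f_* R1`, `I`, `I1` decreasing families of ideals of `R`, `R1`.
`KData φ I I1`: the family `I1` is generated by the image of `I` (with a shift), the rings are isomorphic
modulo the ideals, and `I` is the unit ideal off the image of `f`.  Then `f_*` and `f^*` are mutually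
inverse between torsion modules.
-/

set_option autoImplicit false
universe u

open CategoryTheory TopologicalSpace Opposite CategoryTheory.Limits

noncomputable section

namespace K920.Kap

open K29.RSec K29.RStalk K29.RPull K29.RExact FTors K920.TorsMod

variable {T T1 : TopCat.{u}} {f : T1 ⟶ T} {R : Sheaf (Opens.grothendieckTopology T) CommRingCat.{u}}
  {R1 : Sheaf (Opens.grothendieckTopology T1) CommRingCat.{u}}
  [(Opens.map f).IsContinuous (Opens.grothendieckTopology T) (Opens.grothendieckTopology T1)]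
  (φ : ringSheaf R ⟶ ((Opens.map f).sheafPushforwardContinuous RingCat.{u}
    (Opens.grothendieckTopology T) (Opens.grothendieckTopology T1)).obj (ringSheaf R1))
  (I : IdealFam R) (I1 : IdealFam R1)

/-- The ideals of `I`, as ideals of sections. -/
abbrev idl (I : IdealFam R) (n : ℕ) (V : Opens T) : Ideal (O R V) := I.ideal n V

lemma resO_mem {n : ℕ} {V W : Opens T} (h : W ≤ V) {a : O R V} (ha : a ∈ idl I n V) :
    resO h a ∈ idl I n W := I.map_mem n (homOfLE h) ha

/-- Comparison data. -/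
structure KData (B : Set (Opens T)) : Prop where
  emb : Topology.IsClosedEmbedding f
  basis : ∀ (W : Opens T), ∀ x ∈ W, ∃ V ∈ B, x ∈ V ∧ V ≤ W
  cm_mem : ∀ (n : ℕ) (V : Opens T) (a : O R V), a ∈ idl I (n + 1) V → cm φ V a ∈ idl I1 n (pre f V)
  surj : ∀ (n : ℕ), ∀ V ∈ B, ∀ b : O R1 (pre f V), ∃ a : O R V, b - cm φ V a ∈ idl I1 n (pre f V)
  gen : ∀ (n : ℕ), ∀ V ∈ B, idl I1 n (pre f V) ≤ (idl I (n + 1) V).map (cm φ V)
  inj : ∀ (n : ℕ), ∀ V ∈ B, ∀ a : O R V, cm φ V a ∈ idl I1 n (pre f V) → a ∈ idl I (n + 1) V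
  off : ∀ y : T, y ∉ Set.range f → ∃ V : Opens T, y ∈ V ∧ ∀ n, (1 : O R V) ∈ idl I n V

variable {φ I I1} {B : Set (Opens T)} (h : KData φ I I1 B)

section Basic

/-- `KilledBy` in terms of opens. -/
lemma killedBy_iff {P : Mod R} {n : ℕ} {V : Opens T} (s : Sec P V) :
    KilledBy I P n (V := V) s ↔ ∀ (W : Opens T) (hW : W ≤ V) (a : O R W), a ∈ idl I n W →
      a • K29.RSec.res P hW s = 0 :=
  ⟨fun hs _ hW a ha ↦ hs (homOfLE hW) a ha, fun hs _ g a ha ↦ hs _ (leOfHom g) a ha⟩

/-- `IsTorsSect` in terms of opens. -/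
lemma isTorsSect_iff {P : Mod R} {V : Opens T} (s : Sec P V) :
    IsTorsSect I P (U := V) s ↔ ∀ x ∈ V, ∃ (W : Opens T) (hW : W ≤ V), x ∈ W ∧
      ∃ n, KilledBy I P n (V := W) (K29.RSec.res P hW s) := by
  constructor
  · intro hs x hx
    obtain ⟨W, g, ⟨n, hn⟩, hxW⟩ := hs x hx
    exact ⟨W, leOfHom g, hxW, n, hn⟩
  · intro hs x hx
    obtain ⟨W, hW, hxW, n, hn⟩ := hs x hx
    exact ⟨W, homOfLE hW, ⟨n, hn⟩, hxW⟩

include h

/-- Opens of `T1` are preimages of opens of `T`, and small ones of members of the basis. -/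
lemma exists_pre {W' : Opens T1} {x : T1} (hx : x ∈ W') {V : Opens T} (hV : f x ∈ V) :
    ∃ V' ∈ B, f x ∈ V' ∧ V' ≤ V ∧ pre f V' ≤ W' := by
  obtain ⟨U, hU, hUW⟩ := h.emb.isInducing.isOpen_iff.1 W'.isOpen
  have h1 : f x ∈ (⟨U, hU⟩ : Opens T) ⊓ V := by
    refine ⟨?_, hV⟩
    have : x ∈ f ⁻¹' U := by rw [hUW]; exact hx
    exact this
  obtain ⟨V', hV', hxV', hle⟩ := h.basis _ _ h1
  refine ⟨V', hV', hxV', hle.trans inf_le_right, fun y hy ↦ ?_⟩
  have h2 : y ∈ f ⁻¹' U := (hle hy).1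
  rw [hUW] at h2
  exact h2

lemma killedBy_push {P : Mod R1} {V : Opens T} {n : ℕ} {s : Sec P (pre f V)}
    (hs : KilledBy I1 P n (V := pre f V) s) :
    KilledBy I ((push φ).obj P) (n + 1) (V := V) (toPush φ s) := by
  rw [killedBy_iff] at hs ⊢
  intro W hW a ha
  exact hs (pre f W) (pre_mono f hW) _ (h.cm_mem n W a ha)

lemma killedBy_of_push {P : Mod R1} {V : Opens T} {n : ℕ} {s : Sec P (pre f V)}
    (hs : KilledBy I ((push φ).obj P) n (V := V) (toPush φ s)) :
    KilledBy I1 P n (V := pre f V) s := by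
  rw [killedBy_iff] at hs ⊢
  intro W' hW' b hb
  refine eq_of_forall_nhds P _ _ fun x hx ↦ ?_
  obtain ⟨V', hV', hxV', hle, hle'⟩ := exists_pre h hx (V := V) (hW' hx)
  refine ⟨pre f V', hxV', hle', ?_⟩
  rw [map_zero, res_smul, res_res]
  have h1 : resO hle' b ∈ idl I1 n (pre f V') := resO_mem I1 hle' hb
  have h2 := h.gen n V' hV' h1
  have h3 : ∀ c ∈ idl I (n + 1) V', cm φ V' c • K29.RSec.res P (pre_mono f hle) s = 0 := by
    intro c hc
    exact hs V' hle c (I.antitone' n V' hc)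
  generalize resO hle' b = b' at h2
  induction h2 using Submodule.span_induction with
  | mem x hx =>
    obtain ⟨c, hc, rfl⟩ := hx
    exact h3 c hc
  | zero => rw [zero_smul]
  | add x y _ _ hx hy => rw [add_smul, hx, hy, add_zero]
  | smul a _ _ hx => rw [smul_eq_mul, mul_smul, hx, smul_zero]

lemma subsingleton_off {y : T} (hy : y ∉ Set.range f) :
    ∃ V : Opens T, y ∈ V ∧ ∀ x, f x ∉ V :=
  ⟨⟨(Set.range f)ᶜ, h.emb.isClosed_range.isOpen_compl⟩, hy, fun x hx ↦ hx ⟨x, rfl⟩⟩

omit h in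
lemma sec_eq_of_empty (P : Mod R1) {V : Opens T1} (hV : ∀ x, x ∉ V) (s t : Sec P V) : s = t :=
  eq_of_forall_nhds P _ _ fun x hx ↦ absurd hx (hV x)

/-- A section of `f_* P` is torsion iff it is torsion as a section of `P`. -/
lemma isTorsSect_push_iff {P : Mod R1} {V : Opens T} (s : Sec P (pre f V)) :
    IsTorsSect I ((push φ).obj P) (U := V) (toPush φ s) ↔ IsTorsSect I1 P (U := pre f V) s := by
  constructor
  · intro hs
    rw [isTorsSect_iff] at hs ⊢
    intro x hx
    obtain ⟨W, hW, hxW, n, hn⟩ := hs (f x) hx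
    exact ⟨pre f W, pre_mono f hW, hxW, n, killedBy_of_push h hn⟩
  · intro hs
    rw [isTorsSect_iff] at hs ⊢
    intro y hy
    by_cases hyf : y ∈ Set.range f
    · obtain ⟨x, rfl⟩ := hyf
      obtain ⟨W, hW, hxW, n, hn⟩ := hs x hy
      obtain ⟨V', hV', hxV', hle, hle'⟩ := exists_pre h hxW (V := V) hy
      refine ⟨V', hle, hxV', n + 1, ?_⟩
      have h1 : KilledBy I1 P n (V := pre f V')
          (K29.RSec.res P hle' (K29.RSec.res P hW s)) := hn.res (homOfLE hle')
      rw [res_res] at h1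
      exact killedBy_push h h1
    · obtain ⟨V', hyV', hV'⟩ := subsingleton_off h hyf
      refine ⟨V' ⊓ V, inf_le_right, ⟨hyV', hy⟩, 0, ?_⟩
      have h1 : K29.RSec.res ((push φ).obj P) (inf_le_right : V' ⊓ V ≤ V) (toPush φ s) = 0 :=
        sec_eq_of_empty P (V := pre f (V' ⊓ V)) (fun x hx ↦ hV' x hx.1) _ _
      rw [h1]
      exact KilledBy.zero I _ 0 _

/-- `f_*` of a torsion module is torsion. -/
theorem isTors_push {P : Mod R1} (hP : IsTors I1 P) : IsTors I ((push φ).obj P) :=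
  fun V s ↦ (isTorsSect_push_iff h (V := V) (ofPush φ s)).2 (hP _ _)

variable {L : Mod R ⥤ Mod R1} (adj : L ⊣ push φ)

include adj in
/-- `f^*` of a torsion module is torsion. -/
theorem isTors_pull {N : Mod R} (hN : IsTors I N) : IsTors I1 (L.obj N) := by
  let q := cokernel.π ((gammaι I1).app (L.obj N))
  have hq : q = 0 := by
    apply hom_ext_us adj
    intro V m
    have h1 : IsTorsSect I1 (L.obj N) (U := pre f V) (us adj V m) := by
      have h2 : IsTorsSect I ((push φ).obj (L.obj N)) (U := V) (app (adj.unit.app N) V m) :=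
        IsTorsSect.hom (adj.unit.app N) (hN V m)
      exact (isTorsSect_push_iff h _).1 h2
    have h3 : app ((gammaι I1).app (L.obj N)) (pre f V) (⟨us adj V m, h1⟩ : torsSub I1 (L.obj N) _) =
        us adj V m := rfl
    change app q (pre f V) (us adj V m) = 0
    rw [← h3, ← app_comp]
    have h4 : (gammaι I1).app (L.obj N) ≫ q = 0 := cokernel.condition _
    rw [h4]
    rfl
  have h5 : Epi ((gammaι I1).app (L.obj N)) := Preadditive.epi_of_cokernel_zero hq
  exact isTors_of_epi ((gammaι I1).app (L.obj N)) (isTors_gamma I1 _)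

end Basic

end K920.Kap
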