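import Groth.Agent.FTors.K920.StGam
import Groth.Agent.FTors.K920.FlatTor
import Groth.Agent.FTors.K920.KapFlat

/-!
# `Γ'` of the pullback to the completion
-/

set_option autoImplicit false
set_option linter.style.haveILetI false
universe u

open CategoryTheory TopologicalSpace Opposite CategoryTheory.Limits AlgebraicGeometry

noncomputable section

namespace K920.KapGam

open K29.RSec K29.RStalk K29.RPull FTors K920.TorsMod K920.TorAlg K920.DivSt K920.Grm K920.Good

section General

variable {T T1 : TopCat.{u}} {f : T1 ⟶ T} {R : Sheaf (Opens.grothendieckTopology T) CommRingCat.{u}}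
  {R1 : Sheaf (Opens.grothendieckTopology T1) CommRingCat.{u}}
  [(Opens.map f).IsContinuous (Opens.grothendieckTopology T) (Opens.grothendieckTopology T1)]
  {φ : ringSheaf R ⟶ ((Opens.map f).sheafPushforwardContinuous RingCat.{u}
    (Opens.grothendieckTopology T) (Opens.grothendieckTopology T1)).obj (ringSheaf R1)}
  {L : Mod R ⥤ Mod R1} (adj : L ⊣ push φ)

include adj

/-- Divisibility up to torsion passes to pullbacks along flat morphisms. -/
theorem dv_pull {y : T1} (hfl : (stR φ y).Flat) (M : Mod R) {𝔟 : Ideal (StO R (f y))} (h𝔟 : 𝔟.FG)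
    {t : StO R (f y)} (h : Dv (St M (f y)) 𝔟 t) :
    Dv (St (L.obj M) y) (𝔟.map (stR φ y)) (stR φ y t) := by
  letI := stAlg φ y
  letI := modOver φ (L.obj M) y
  haveI := isScalarTower φ (L.obj M) y
  haveI : Module.Flat (StO R (f y)) (StO R1 y) := hfl
  exact FlatTor.dv_map (canₗ adj M y) (isBaseChange_can adj M y) h𝔟 h

/-- Torsion elements of stalks of pullbacks. -/
theorem mem_span_of_tor {y : T1} (hfl : (stR φ y).Flat) (M : Mod R) {𝔟 : Ideal (StO R (f y))}
    (h𝔟 : 𝔟.FG) (z : St (L.obj M) y) (hz : Tor (𝔟.map (stR φ y)) z) :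
    z ∈ Submodule.span (StO R1 y) (can adj M y '' {p | Tor 𝔟 p}) := by
  letI := stAlg φ y
  letI := modOver φ (L.obj M) y
  haveI := isScalarTower φ (L.obj M) y
  haveI : Module.Flat (StO R (f y)) (StO R1 y) := hfl
  exact FlatTor.mem_span_of_tor (canₗ adj M y) (isBaseChange_can adj M y) h𝔟 z hz

omit adj in
lemma stR_go (y : T1) (V : Opens T) (hy : f y ∈ V) (r : K920.Sec.Rg R V) :
    stR φ y (go (f y) V hy r) = go y (pre f V) hy (cm φ V r) := stR_gmO φ y V hy r

omit adj in
lemma map_gI {y : T1} {V : Opens T} (hy : f y ∈ V) (𝔟 : Ideal (K920.Sec.Rg R V)) :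
    (gI 𝔟 (f y) hy).map (stR φ y) =
      gI (U := pre f V) (Ideal.map (cm φ V) 𝔟 : Ideal (O R1 (pre f V))) y hy := by
  have h1 : (stR φ y).comp (go (f y) V hy) = (go y (pre f V) hy).comp (cm φ V) :=
    RingHom.ext fun r ↦ stR_go y V hy r
  rw [gI, Ideal.map_map, h1]
  exact (Ideal.map_map (cm φ V) (go y (pre f V) hy)).symm

end General

section Good

variable {T T1 : TopCat.{u}} {f : T1 ⟶ T} {R : Sheaf (Opens.grothendieckTopology T) CommRingCat.{u}}
  {R1 : Sheaf (Opens.grothendieckTopology T1) CommRingCat.{u}}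
  [(Opens.map f).IsContinuous (Opens.grothendieckTopology T) (Opens.grothendieckTopology T1)]
  {φ : ringSheaf R ⟶ ((Opens.map f).sheafPushforwardContinuous RingCat.{u}
    (Opens.grothendieckTopology T) (Opens.grothendieckTopology T1)).obj (ringSheaf R1)}
  {I : IdealFam R} {I1 : IdealFam R1} {L : Mod R ⥤ Mod R1} (adj : L ⊣ push φ)

/-- Every point of `T1` has a good neighbourhood which is the preimage of a good open of `T`. -/
def GoodMor (φ : ringSheaf R ⟶ ((Opens.map f).sheafPushforwardContinuous RingCat.{u}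
    (Opens.grothendieckTopology T) (Opens.grothendieckTopology T1)).obj (ringSheaf R1))
    (I : IdealFam R) (I1 : IdealFam R1) : Prop :=
  ∀ y : T1, ∃ (V : Opens T) (_ : f y ∈ V) (𝔞 : Ideal (K920.Sec.Rg R V)) (B : Set (Opens T))
    (B' : Set (Opens T1)), IsGoodOpen I V 𝔞 B ∧
      IsGoodOpen I1 (pre f V) (Ideal.map (cm φ V) 𝔞 : Ideal (O R1 (pre f V))) B'

variable (hG : GoodMor φ I I1) (hfl : ∀ y, (stR φ y).Flat)

include adj hG hfl in
/-- `Γ'` commutes with the pullback on modules. -/
theorem isIso_gamma_map_pull (hT : ∀ N : Mod R, IsTors I N → IsTors I1 (L.obj N)) (M : Mod R) :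
    IsIso ((gamma R1 I1).map (L.map ((gammaι I).app M))) := by
  have hL : PreservesFiniteLimits L := K29.RExact.preservesFiniteLimits_of_flat adj hfl
  have hmono : Mono (L.map ((gammaι I).app M)) := inferInstance
  have hiso : IsIso ((gammaι I1).app (L.obj ((gamma R I).obj M))) :=
    (isIso_gammaι_iff _).2 (hT _ (isTors_gamma I M))
  have hnat : (gamma R1 I1).map (L.map ((gammaι I).app M)) ≫ (gammaι I1).app (L.obj M) =
      (gammaι I1).app (L.obj ((gamma R I).obj M)) ≫ L.map ((gammaι I).app M) :=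
    (gammaι I1).naturality _
  have hnat' : ∀ (y : T1) (s : St ((gamma R1 I1).obj (L.obj ((gamma R I).obj M))) y),
      stMap ((gammaι I1).app (L.obj M)) y
        (stMap ((gamma R1 I1).map (L.map ((gammaι I).app M))) y s) =
      stMap (L.map ((gammaι I).app M)) y
        (stMap ((gammaι I1).app (L.obj ((gamma R I).obj M))) y s) := by
    intro y s
    rw [← stMap_comp_apply, ← stMap_comp_apply, hnat]
  rw [isIso_iff_stMap]
  intro y
  constructor
  · intro a b hab
    have h1 := congrArg (stMap ((gammaι I1).app (L.obj M)) y) hab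
    rw [hnat', hnat'] at h1
    exact (stMap_bijective_of_isIso ((gammaι I1).app (L.obj ((gamma R I).obj M))) y).1
      ((K29.RExact.mono_iff_stMap _).1 hmono y h1)
  · intro z
    obtain ⟨V, hy, 𝔞, B, B', hV, hV'⟩ := hG y
    have hN := hV.noeth
    have h1 := (StGam.mem_range_iff hV' (L.obj M) hy _).1 ⟨z, rfl⟩
    have h2 := map_gI (φ := φ) hy 𝔞
    have h3 : Tor ((gI 𝔞 (f y) hy).map (stR φ y)) (stMap ((gammaι I1).app (L.obj M)) y z) := by
      rw [h2]
      exact h1
    have hfg : (gI 𝔞 (f y) hy).FG :=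
      Ideal.FG.map (IsNoetherian.noetherian 𝔞 : 𝔞.FG) (go (f y) V hy)
    have h4 := mem_span_of_tor adj (hfl y) M hfg _ h3
    have h5 : ∃ w, stMap (L.map ((gammaι I).app M)) y w =
        stMap ((gammaι I1).app (L.obj M)) y z := by
      generalize stMap ((gammaι I1).app (L.obj M)) y z = z' at h4
      induction h4 using Submodule.span_induction with
      | mem x hx =>
        obtain ⟨p, hp, rfl⟩ := hx
        obtain ⟨p', rfl⟩ := (StGam.mem_range_iff hV M hy p).2 hp
        exact ⟨can adj _ y p', stMap_can adj ((gammaι I).app M) y p'⟩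
      | zero => exact ⟨0, map_zero _⟩
      | add x y _ _ hx hy =>
        obtain ⟨w, rfl⟩ := hx
        obtain ⟨w', rfl⟩ := hy
        exact ⟨w + w', map_add _ _ _⟩
      | smul a x _ hx =>
        obtain ⟨w, rfl⟩ := hx
        exact ⟨a • w, map_smul _ _ _⟩
    obtain ⟨w, hw⟩ := h5
    obtain ⟨w, rfl⟩ :=
      (stMap_bijective_of_isIso ((gammaι I1).app (L.obj ((gamma R I).obj M))) y).2 w
    refine ⟨w, StGam.stMap_gammaι_injective (I := I1) (L.obj M) y ?_⟩
    rw [hnat', hw]

include adj hG hfl in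
/-- `Γ'` of a quasi-isomorphism from the pullback of a complex of injectives to a complex of
injectives. -/
theorem quasiIso_gamma_pull [L.Additive] (K : CochainComplex (ModSite.Mod R) ℤ)
    (hK : ∀ i, Injective (K.X i)) (N : CochainComplex (ModSite.Mod R1) ℤ)
    (hN : ∀ i, Injective (N.X i))
    (u : (L.mapHomologicalComplex (ComplexShape.up ℤ)).obj K ⟶ N) [QuasiIso u] :
    QuasiIso (((gamma R1 I1).mapHomologicalComplex (ComplexShape.up ℤ)).map u) := by
  classical
  refine StGam.quasiIso_gamma u fun y ↦ ?_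
  obtain ⟨V, hy, 𝔞, B, B', hV, hV'⟩ := hG y
  have hNo := hV.noeth
  obtain ⟨F, hF⟩ := (IsNoetherian.noetherian 𝔞 : 𝔞.FG)
  have hF : 𝔞 = Ideal.span (F : Set (K920.Sec.Rg R V)) := hF.symm
  refine ⟨pre f V, hy, _, B', hV', F.image (fun c ↦ stR φ y (go (f y) V hy c)), ?_, ?_, ?_⟩
  · rw [← map_gI hy 𝔞, hF, gI, Ideal.map_map, Ideal.map_span, Finset.coe_image]
    rfl
  · intro G hG t ht i
    obtain ⟨F', hF', rfl⟩ := Finset.subset_image_iff.1 hG
    obtain ⟨t, ht', rfl⟩ := Finset.mem_image.1 ht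
    have hinj := hK i
    have h1 := dv_injective hV (K.X i) hy (Ideal.span (F' : Set (K920.Sec.Rg R V))) t
    have hfg : (gI (Ideal.span (F' : Set (K920.Sec.Rg R V))) (f y) hy).FG :=
      Ideal.FG.map (IsNoetherian.noetherian (Ideal.span (F' : Set (K920.Sec.Rg R V)))) (go (f y) V hy)
    have h2 := dv_pull adj (hfl y) (K.X i) hfg h1
    have h3 : Ideal.map (stR φ y) (gI (Ideal.span (F' : Set (K920.Sec.Rg R V))) (f y) hy) =
        Ideal.span ((F'.image (fun c ↦ stR φ y (go (f y) V hy c)) : Finset _) : Set _) := by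
      rw [gI, Ideal.map_map, Ideal.map_span, Finset.coe_image]
      rfl
    rw [← h3]
    exact h2
  · intro G hG t ht i
    obtain ⟨F', hF', rfl⟩ := Finset.subset_image_iff.1 hG
    obtain ⟨t, ht', rfl⟩ := Finset.mem_image.1 ht
    have hinj := hN i
    have h1 := dv_injective hV' (N.X i) hy
      (Ideal.map (cm φ V) (Ideal.span (F' : Set (K920.Sec.Rg R V))) : Ideal (O R1 (pre f V)))
      (cm φ V t)
    have h3 : Ideal.map (stR φ y) (gI (Ideal.span (F' : Set (K920.Sec.Rg R V))) (f y) hy) =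
        Ideal.span ((F'.image (fun c ↦ stR φ y (go (f y) V hy c)) : Finset _) : Set _) := by
      rw [gI, Ideal.map_map, Ideal.map_span, Finset.coe_image]
      rfl
    rw [← h3, map_gI hy, stR_go]
    exact h1

end Good

end K920.KapGam
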