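import Groth.Agent.FTors.K920.KapDer
import Groth.Agent.FTors.K920.KapGam

/-!
# `κ^* RΓ_𝓘 = RΓ' κ^*` for the completion morphism `κ`
-/

set_option autoImplicit false
set_option linter.style.haveILetI false
universe u

open CategoryTheory TopologicalSpace Opposite CategoryTheory.Limits AlgebraicGeometry

attribute [local instance] HasDerivedCategory.standard

noncomputable section

namespace K920.KapDer2

open K29.RSec K29.RStalk K29.RPull K29.RExact FTors K920.TorsMod K920.TorsDer K920.Kap K920.KapSch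
  K920.KapFlat K920.ExDer K578.Der K920.KapGam K920.Good K920.KapDer

section Gen

variable {C : Type u} [SmallCategory C] {J : GrothendieckTopology C}
  {O : Sheaf J CommRingCat.{u}} (I : IdealFam O) [HasRgamma I]

/-- The unit `Q (Γ_I N) ⟶ RΓ_I (Q N)` is an isomorphism if `Γ_I` preserves a quasi-isomorphism to a
K-injective complex. -/
lemma isIso_rgUnitQ_of_quasiIso {N L : CochainComplex (ModSite.Mod O) ℤ} (u : N ⟶ L) [QuasiIso u]
    (hL : L.IsKInjective)
    (hu : QuasiIso (((gamma O I).mapHomologicalComplex (ComplexShape.up ℤ)).map u)) :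
    IsIso ((rgUnitQ I).app N) := by
  have h1 := (rgUnitQ I).naturality u
  have h2 := isIso_rgUnitQ_app I L hL
  have h3 : IsIso (DerivedCategory.Q.map
      (((gamma O I).mapHomologicalComplex (ComplexShape.up ℤ)).map u)) := inferInstance
  have h4 : IsIso ((Rgamma I).map (DerivedCategory.Q.map u)) := inferInstance
  have h5 : IsIso (DerivedCategory.Q.map
      (((gamma O I).mapHomologicalComplex (ComplexShape.up ℤ)).map u) ≫ (rgUnitQ I).app L) :=
    IsIso.comp_isIso' h3 h2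
  have h6 : IsIso ((rgUnitQ I).app N ≫ (Rgamma I).map (DerivedCategory.Q.map u)) := by
    have e : DerivedCategory.Q.map
      (((gamma O I).mapHomologicalComplex (ComplexShape.up ℤ)).map u) ≫ (rgUnitQ I).app L =
        (rgUnitQ I).app N ≫ (Rgamma I).map (DerivedCategory.Q.map u) := h1
    rw [← e]
    exact h5
  exact @IsIso.of_isIso_comp_right _ _ _ _ _ _ _ h4 h6

/-- The unit is an isomorphism for complexes with torsion terms. -/
lemma isIso_rgUnitQ_of_tors (hI : GoodD I) (N : CochainComplex (ModSite.Mod O) ℤ)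
    (hN : ∀ n, IsTors I (N.X n)) : IsIso ((rgUnitQ I).app N) := by
  have h1 : IsIso (incl I N) := by
    have : ∀ n, IsIso ((incl I N).f n) := by
      intro n
      rw [incl_f]
      exact (isIso_gammaι_iff _).2 (hN n)
    exact HomologicalComplex.Hom.isIso_of_components _
  have h2 : IsIso ((Rgammaε I).app (DerivedCategory.Q.obj N)) :=
    isIso_ε hI ((isDTors_Q_iff I N).2 fun n ↦ isTors_homology _ _ (hN n))
  have h3 : IsIso ((rgUnitQ I).app N ≫ (Rgammaε I).app (DerivedCategory.Q.obj N)) := by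
    rw [rgUnitQ_ε]
    infer_instance
  exact @IsIso.of_isIso_comp_right _ _ _ _ _ _ _ h2 h3

end Gen

variable (X : Scheme.{u}) [IsLocallyNoetherian X] (𝓘 : X.IdealSheafData)
  (hX : (FSch.completionAlong X 𝓘).IsFormal)

lemma goodMor : GoodMor (phi X 𝓘 hX) (powIdealFam X 𝓘)
    (openIdealFam (FSch.completionAlong X 𝓘) hX) := by
  intro y
  have h𝔛 : (FSch.completionAlong X 𝓘).IsLocNoethFormal := Groth.Agent.S3854.result X 𝓘
  obtain ⟨V, hV, hyV, -⟩ := Opens.isBasis_iff_nbhd.mp X.isBasis_affineOpens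
    (show (bs X 𝓘) y ∈ (⊤ : X.Opens) from trivial)
  have h1 := isGoodOpen_openIdealFam (𝔛 := FSch.completionAlong X 𝓘) h𝔛 (isAffineOpen_pre hX ⟨V, hV⟩)
  rw [← map_ideal hX ⟨V, hV⟩] at h1
  exact ⟨V, hyV, 𝓘.ideal ⟨V, hV⟩, _, _, isGoodOpen_powIdealFam X 𝓘 ⟨V, hV⟩, h1⟩

variable {X 𝓘} [PreservesFiniteLimits (kap X 𝓘 hX).pull]
  [HasRgammaT (FSch.completionAlong X 𝓘) hX] [HasRgammaZp X 𝓘]

/-- `RΓ'` of `κ^*` of the canonical map is an isomorphism. -/
theorem isIso_rgammaT_map (F : DerivedCategory (ModSite.Mod X.sheaf)) :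
    IsIso ((RgammaT (FSch.completionAlong X 𝓘) hX).map
      ((SiteCmp.pullD (kap X 𝓘 hX)).map ((RgammaZpε X 𝓘).app F))) := by
  have h𝔛 : (FSch.completionAlong X 𝓘).IsLocNoethFormal := Groth.Agent.S3854.result X 𝓘
  have hI' : GoodD (openIdealFam (FSch.completionAlong X 𝓘) hX) := goodD_openIdealFam h𝔛
  obtain ⟨K, hK, hKi, ⟨e⟩⟩ := exists_rep F
  let I := powIdealFam X 𝓘
  let I' := openIdealFam (FSch.completionAlong X 𝓘) hX
  let f := kap X 𝓘 hX
  let pc := f.pull.mapHomologicalComplex (ComplexShape.up ℤ)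
  let ΓK := ((gamma X.sheaf I).mapHomologicalComplex (ComplexShape.up ℤ)).obj K
  -- the unit for `κ^* K`
  have h1 : IsIso ((rgUnitQ I').app (pc.obj K)) := by
    have := isGrothendieckAbelian ((FSch.completionAlong X 𝓘).Osh hX)
    obtain ⟨L, u, hL, hu, -, hLi⟩ := Groth.Agent.S0476.result (pc.obj K)
    have hu' : QuasiIso u := hu
    exact isIso_rgUnitQ_of_quasiIso I' u hL
      (quasiIso_gamma_pull (kap X 𝓘 hX).adj (goodMor X 𝓘 hX) (stR_flat_completion hX) K hKi L hLi u)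
  -- the unit for `κ^* Γ K`
  have h2 : IsIso ((rgUnitQ I').app (pc.obj ΓK)) :=
    isIso_rgUnitQ_of_tors I' hI' _ fun n ↦
      isTors_pull (kData (𝓘 := 𝓘) hX) (kap X 𝓘 hX).adj (isTors_gamma I (K.X n))
  -- the map `Γ' κ^* Γ K ⟶ Γ' κ^* K`
  have h3 : IsIso (((gamma _ I').mapHomologicalComplex (ComplexShape.up ℤ)).map
      (pc.map (incl I K))) := by
    have : ∀ n, IsIso ((((gamma _ I').mapHomologicalComplex (ComplexShape.up ℤ)).map
        (pc.map (incl I K))).f n) := by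
      intro n
      have h4 := isIso_gamma_map_pull (kap X 𝓘 hX).adj (goodMor X 𝓘 hX) (stR_flat_completion hX)
        (fun N hN ↦ isTors_pull (kData (𝓘 := 𝓘) hX) (kap X 𝓘 hX).adj hN) (K.X n)
      have h5 : (((gamma _ I').mapHomologicalComplex (ComplexShape.up ℤ)).map
        (pc.map (incl I K))).f n =
          (gamma _ I').map ((kap X 𝓘 hX).pull.map ((gammaι I).app (K.X n))) := by
        rw [← incl_f]
        rfl
      rw [h5]
      exact h4
    exact HomologicalComplex.Hom.isIso_of_components _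
  have h4 : IsIso ((Rgamma I').map (DerivedCategory.Q.map (pc.map (incl I K)))) := by
    have h5 : DerivedCategory.Q.map (((gamma _ I').mapHomologicalComplex
        (ComplexShape.up ℤ)).map (pc.map (incl I K))) ≫ (rgUnitQ I').app (pc.obj K) =
        (rgUnitQ I').app (pc.obj ΓK) ≫ (Rgamma I').map (DerivedCategory.Q.map (pc.map (incl I K))) :=
      (rgUnitQ I').naturality (pc.map (incl I K))
    have h6 : IsIso ((rgUnitQ I').app (pc.obj ΓK) ≫
        (Rgamma I').map (DerivedCategory.Q.map (pc.map (incl I K)))) := by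
      rw [← h5]
      exact IsIso.comp_isIso' inferInstance h1
    exact @IsIso.of_isIso_comp_left _ _ _ _ _ _ _ h2 h6
  have h5 : IsIso ((Rgamma I').map ((SiteCmp.pullD f).map (DerivedCategory.Q.map (incl I K)))) := by
    have h6 := f.pull.mapDerivedCategoryFactors_hom_naturality (incl I K)
    have h7 : (Rgamma I').map ((SiteCmp.pullD f).map (DerivedCategory.Q.map (incl I K))) ≫
        (Rgamma I').map (f.pull.mapDerivedCategoryFactors.hom.app K) =
        (Rgamma I').map (f.pull.mapDerivedCategoryFactors.hom.app ΓK) ≫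
        (Rgamma I').map (DerivedCategory.Q.map (pc.map (incl I K))) :=
      ((Rgamma I').map_comp _ _).symm.trans
        ((congrArg (fun t ↦ (Rgamma I').map t) h6).trans ((Rgamma I').map_comp _ _))
    have h8 : IsIso ((Rgamma I').map (f.pull.mapDerivedCategoryFactors.hom.app ΓK) ≫
        (Rgamma I').map (DerivedCategory.Q.map (pc.map (incl I K)))) :=
      IsIso.comp_isIso' inferInstance h4
    rw [← h7] at h8
    exact @IsIso.of_isIso_comp_right _ _ _ _ _ _ _ inferInstance h8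
  have h6 : IsIso ((Rgamma I').map ((SiteCmp.pullD f).map
      ((Rgammaε I).app (DerivedCategory.Q.obj K)))) := by
    rw [← rgUnitQ_ε, Functor.map_comp, Functor.map_comp] at h5
    have h7 := isIso_rgUnitQ_app I K hK
    exact @IsIso.of_isIso_comp_left _ _ _ _ _ _ _ inferInstance h5
  exact (NatTrans.isIso_app_iff_of_iso (Functor.whiskerRight (Rgammaε I)
    (SiteCmp.pullD f ⋙ Rgamma I')) e).2 h6

/-- `κ^* RΓ_𝓘 F ⟶ κ^* F` is universal among maps from torsion objects. -/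
theorem bijective_comp (F : DerivedCategory (ModSite.Mod X.sheaf))
    (T : DerivedCategory (FSch.ModF (FSch.completionAlong X 𝓘) hX))
    (hT : IsDTorsF (FSch.completionAlong X 𝓘) hX T) :
    Function.Bijective (fun φ : T ⟶ (SiteCmp.pullD (kap X 𝓘 hX)).obj ((RgammaZp X 𝓘).obj F) ↦
      φ ≫ (SiteCmp.pullD (kap X 𝓘 hX)).map ((RgammaZpε X 𝓘).app F)) := by
  have h𝔛 : (FSch.completionAlong X 𝓘).IsLocNoethFormal := Groth.Agent.S3854.result X 𝓘
  have hI' : GoodD (openIdealFam (FSch.completionAlong X 𝓘) hX) := goodD_openIdealFam h𝔛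
  have h1 := isIso_rgammaT_map hX F
  have hA : IsDTorsF (FSch.completionAlong X 𝓘) hX
      ((SiteCmp.pullD (kap X 𝓘 hX)).obj ((RgammaZp X 𝓘).obj F)) :=
    isDTors_pull hX (isDTors_Rgamma _ F)
  have h2 : IsIso ((RgammaTε (FSch.completionAlong X 𝓘) hX).app
      ((SiteCmp.pullD (kap X 𝓘 hX)).obj ((RgammaZp X 𝓘).obj F))) := isIso_ε hI' hA
  have h3 := bijective_comp_ε hI' hT ((SiteCmp.pullD (kap X 𝓘 hX)).obj F)
  have h4 : (RgammaT (FSch.completionAlong X 𝓘) hX).map
        ((SiteCmp.pullD (kap X 𝓘 hX)).map ((RgammaZpε X 𝓘).app F)) ≫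
      (RgammaTε (FSch.completionAlong X 𝓘) hX).app ((SiteCmp.pullD (kap X 𝓘 hX)).obj F) =
      (RgammaTε (FSch.completionAlong X 𝓘) hX).app
        ((SiteCmp.pullD (kap X 𝓘 hX)).obj ((RgammaZp X 𝓘).obj F)) ≫
      (SiteCmp.pullD (kap X 𝓘 hX)).map ((RgammaZpε X 𝓘).app F) :=
    (RgammaTε (FSch.completionAlong X 𝓘) hX).naturality
      ((SiteCmp.pullD (kap X 𝓘 hX)).map ((RgammaZpε X 𝓘).app F))
  -- `a = inv ε ≫ RΓ'(a) ≫ ε`
  have h5 : (fun φ : T ⟶ (SiteCmp.pullD (kap X 𝓘 hX)).obj ((RgammaZp X 𝓘).obj F) ↦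
      φ ≫ (SiteCmp.pullD (kap X 𝓘 hX)).map ((RgammaZpε X 𝓘).app F)) =
      (fun φ ↦ φ ≫ (RgammaTε (FSch.completionAlong X 𝓘) hX).app
        ((SiteCmp.pullD (kap X 𝓘 hX)).obj F)) ∘
      (fun φ ↦ φ ≫ (inv ((RgammaTε (FSch.completionAlong X 𝓘) hX).app
        ((SiteCmp.pullD (kap X 𝓘 hX)).obj ((RgammaZp X 𝓘).obj F))) ≫
          (RgammaT (FSch.completionAlong X 𝓘) hX).map
            ((SiteCmp.pullD (kap X 𝓘 hX)).map ((RgammaZpε X 𝓘).app F)))) := by
    funext φ
    rw [Function.comp_apply, Category.assoc, Category.assoc, h4, IsIso.inv_hom_id_assoc]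
  rw [h5]
  refine h3.comp ⟨fun a b hab ↦ (cancel_mono _).1 hab, fun a ↦ ?_⟩
  refine ⟨a ≫ inv (inv ((RgammaTε (FSch.completionAlong X 𝓘) hX).app
        ((SiteCmp.pullD (kap X 𝓘 hX)).obj ((RgammaZp X 𝓘).obj F))) ≫
          (RgammaT (FSch.completionAlong X 𝓘) hX).map
            ((SiteCmp.pullD (kap X 𝓘 hX)).map ((RgammaZpε X 𝓘).app F))), ?_⟩
  dsimp only
  rw [Category.assoc, IsIso.inv_hom_id, Category.comp_id]

/-- S17072. -/
theorem existsUnique_iso_pull (F : DerivedCategory (ModSite.Mod X.sheaf)) :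
    ∃! e : (SiteCmp.pullD (kap X 𝓘 hX)).obj ((RgammaZp X 𝓘).obj F) ≅
        (RgammaT (FSch.completionAlong X 𝓘) hX).obj ((SiteCmp.pullD (kap X 𝓘 hX)).obj F),
      e.hom ≫ (RgammaTε (FSch.completionAlong X 𝓘) hX).app ((SiteCmp.pullD (kap X 𝓘 hX)).obj F) =
        (SiteCmp.pullD (kap X 𝓘 hX)).map ((RgammaZpε X 𝓘).app F) := by
  have h𝔛 : (FSch.completionAlong X 𝓘).IsLocNoethFormal := Groth.Agent.S3854.result X 𝓘
  have hI' : GoodD (openIdealFam (FSch.completionAlong X 𝓘) hX) := goodD_openIdealFam h𝔛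
  exact existsUnique_iso (IsDTorsF (FSch.completionAlong X 𝓘) hX) _ _
    (isDTors_pull hX (isDTors_Rgamma _ F)) (isDTors_Rgamma _ _)
    (fun T hT ↦ bijective_comp hX F T hT) (fun T hT ↦ bijective_comp_ε hI' hT _)

/-- S19536 for torsion `E`. -/
theorem bijective_pullD_map_of_tors_left (E F : DerivedCategory (ModSite.Mod X.sheaf))
    (hE : IsDTorsZp X 𝓘 E) :
    Function.Bijective (fun φ : E ⟶ F ↦ (SiteCmp.pullD (kap X 𝓘 hX)).map φ) := by
  have hI : GoodD (powIdealFam X 𝓘) := Good.goodD_of_goodFam (Good.goodFam_powIdealFam X 𝓘)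
  have hR : SiteCmp.HasRpushD (kap X 𝓘 hX) := hasRpushD _
  have h1 := bijective_comp_ε hI hE F
  have h2 := bijective_pullD_map_of_tors hX E ((RgammaZp X 𝓘).obj F) (isDTors_Rgamma _ F)
  have h3 := bijective_comp hX F _ (isDTors_pull hX hE)
  have h4 : (fun φ : E ⟶ F ↦ (SiteCmp.pullD (kap X 𝓘 hX)).map φ) ∘
      (fun φ : E ⟶ (RgammaZp X 𝓘).obj F ↦ φ ≫ (RgammaZpε X 𝓘).app F) =
      (fun φ ↦ φ ≫ (SiteCmp.pullD (kap X 𝓘 hX)).map ((RgammaZpε X 𝓘).app F)) ∘
      (fun φ : E ⟶ (RgammaZp X 𝓘).obj F ↦ (SiteCmp.pullD (kap X 𝓘 hX)).map φ) := by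
    funext φ
    rw [Function.comp_apply, Function.comp_apply, Functor.map_comp]
  refine (Function.Bijective.of_comp_iff _ h1).1 ?_
  rw [h4]
  exact h3.comp h2

end K920.KapDer2
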