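import Groth.Agent.FTors.K920.Kap2
import Groth.Agent.FTors.K920.GoodSch
import Groth.Agent.FTors.K920.GoodF
import Groth.Agent.S3854

/-!
# The completion morphism `κ : X̂ ⟶ X` is a comparison morphism in the sense of `K920.Kap`
-/

set_option autoImplicit false
set_option linter.style.haveILetI false
universe u

open CategoryTheory TopologicalSpace Opposite CategoryTheory.Limits AlgebraicGeometry

noncomputable section

namespace K920.KapSch

open K29.RSec K29.RStalk K29.RPull K29.RExact FTors K920.TorsMod K920.Kap K919.AffBasic K919.AffFlat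

variable (X : Scheme.{u}) (𝓘 : X.IdealSheafData) (hX : (FSch.completionAlong X 𝓘).IsFormal)

/-- The completion morphism. -/
abbrev kap : ModSite.RMor ((FSch.completionAlong X 𝓘).Osh hX) X.sheaf :=
  FSch.toSchemeMor (FSch.completionAlong X 𝓘) hX (FSch.completionToX X 𝓘)
    (FSch.completionToX_comm X 𝓘)

/-- The underlying map of spaces. -/
abbrev bs : ((FSch.completionAlong X 𝓘).X 0).carrier ⟶ X.carrier :=
  (FSch.completionToX X 𝓘 0).base

/-- The map of sheaves of rings. -/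
abbrev phi : ringSheaf X.sheaf ⟶ ((Opens.map (bs X 𝓘)).sheafPushforwardContinuous RingCat.{u}
    (Opens.grothendieckTopology X.carrier)
    (Opens.grothendieckTopology ((FSch.completionAlong X 𝓘).X 0).carrier)).obj
      (ringSheaf ((FSch.completionAlong X 𝓘).Osh hX)) :=
  (kap X 𝓘 hX).sharpR

variable {X 𝓘}

lemma pr_cm (n : ℕ) (V : X.Opens) (a : O X.sheaf V) :
    pr (FSch.completionAlong X 𝓘) hX n (pre (bs X 𝓘) V) (cm (phi X 𝓘 hX) V a) =
      ((FSch.completionToX X 𝓘 n).appLE V ((FSch.completionAlong X 𝓘).lvU hX n (pre (bs X 𝓘) V))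
        (FSch.lvU_p _ hX _ (FSch.completionToX_comm X 𝓘) n V).ge).hom a := by
  have h1 := FSch.schSharp_proj (FSch.completionAlong X 𝓘) hX (FSch.completionToX X 𝓘)
    (FSch.completionToX_comm X 𝓘) n
  have h2 := congrArg (fun t ↦ (t.hom.app (op V)).hom a) h1
  exact h2

lemma preimage_eq (n : ℕ) (V : X.Opens) : FSch.completionToX X 𝓘 n ⁻¹ᵁ V =
    (FSch.completionAlong X 𝓘).lvU hX n (pre (bs X 𝓘) V) :=
  FSch.lvU_p _ hX _ (FSch.completionToX_comm X 𝓘) n V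

/-- The kernel of the map to the `n`-th level, on affine opens. -/
lemma pr_cm_eq_zero_iff (n : ℕ) (V : X.affineOpens) (a : O X.sheaf (V : X.Opens)) :
    pr (FSch.completionAlong X 𝓘) hX n (pre (bs X 𝓘) V) (cm (phi X 𝓘 hX) V a) = 0 ↔
      (show Γ(X, V) from a) ∈ (𝓘.ideal V) ^ (n + 1) := by
  rw [pr_cm]
  have h1 := ker_appLE_of_eq (FSch.completionToX X 𝓘 n) (V : X.Opens)
    ((FSch.completionAlong X 𝓘).lvU hX n (pre (bs X 𝓘) V))
    (FSch.lvU_p _ hX _ (FSch.completionToX_comm X 𝓘) n V).ge (preimage_eq hX n V)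
  have h2 := Scheme.IdealSheafData.ker_subschemeι_app (𝓘 ^ (n + 1)) V
  have h3 := h1.trans h2
  rw [Scheme.IdealSheafData.ideal_pow] at h3
  exact Ideal.ext_iff.1 h3 a

lemma pr_cm_surj (n : ℕ) (V : X.affineOpens)
    (b : LU (FSch.completionAlong X 𝓘) hX n (pre (bs X 𝓘) V)) :
    ∃ a : O X.sheaf (V : X.Opens),
      pr (FSch.completionAlong X 𝓘) hX n (pre (bs X 𝓘) V) (cm (phi X 𝓘 hX) V a) = b := by
  have h1 : IsClosedImmersion (FSch.completionToX X 𝓘 n) :=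
    inferInstanceAs (IsClosedImmersion (𝓘 ^ (n + 1)).subschemeι)
  obtain ⟨a, ha⟩ := surjective_appLE_of_eq (FSch.completionToX X 𝓘 n) (V : X.Opens)
    ((FSch.completionAlong X 𝓘).lvU hX n (pre (bs X 𝓘) V))
    (FSch.lvU_p _ hX _ (FSch.completionToX_comm X 𝓘) n V).ge (preimage_eq hX n V)
    (Scheme.Hom.app_surjective (FSch.completionToX X 𝓘 n) _ V.2) b
  exact ⟨a, (pr_cm hX n V a).trans ha⟩

lemma isAffineOpen_pre (V : X.affineOpens) :
    IsAffineOpen ((FSch.completionAlong X 𝓘).lvU hX 0 (pre (bs X 𝓘) V)) := by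
  have h1 : IsClosedImmersion (FSch.completionToX X 𝓘 0) :=
    inferInstanceAs (IsClosedImmersion (𝓘 ^ (0 + 1)).subschemeι)
  rw [← preimage_eq hX 0 V]
  exact V.2.preimage _

/-- `II = 𝓘 O_X̂` on affine opens. -/
lemma map_ideal [IsLocallyNoetherian X] (V : X.affineOpens) :
    Ideal.map (cm (phi X 𝓘 hX) (V : X.Opens)) (𝓘.ideal V) =
      II (FSch.completionAlong X 𝓘) hX (pre (bs X 𝓘) V) := by
  have h𝔛 : (FSch.completionAlong X 𝓘).IsLocNoethFormal := Groth.Agent.S3854.result X 𝓘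
  have hV := isAffineOpen_pre hX V
  have hc := isAdicComplete h𝔛 hV
  have hle : Ideal.map (cm (phi X 𝓘 hX) (V : X.Opens)) (𝓘.ideal V) ≤
      II (FSch.completionAlong X 𝓘) hX (pre (bs X 𝓘) V) := by
    rw [Ideal.map_le_iff_le_comap]
    intro a ha
    refine (pr_cm_eq_zero_iff hX 0 V a).2 ?_
    rw [zero_add, pow_one]
    exact ha
  refine K919.AlgFlat.map_eq_of_le_sup_sq _ _ (IsAdicComplete.le_jacobson_bot _) (main h𝔛 hV).2.2 hle ?_
  intro b hb
  obtain ⟨a, ha⟩ := pr_cm_surj hX 1 V (pr _ hX 1 _ b)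
  have h1 : b - cm (phi X 𝓘 hX) V a ∈ II (FSch.completionAlong X 𝓘) hX (pre (bs X 𝓘) V) ^ 2 := by
    have h0 : pr _ hX 1 _ (b - cm (phi X 𝓘 hX) V a) = 0 :=
      (map_sub (pr _ hX 1 _) b (cm (phi X 𝓘 hX) V a)).trans (sub_eq_zero.2 ha.symm)
    rw [← ker_pr h𝔛 hV 1]
    exact h0
  have h2 : a ∈ 𝓘.ideal V := by
    have h3 := (pr_cm_eq_zero_iff hX 0 V a).1 (by
      rw [← tr_pr, ha, tr_pr]
      exact hb)
    rwa [zero_add, pow_one] at h3
  have h4 : b = cm (phi X 𝓘 hX) V a + (b - cm (phi X 𝓘 hX) V a) := by ring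
  rw [h4]
  exact Submodule.add_mem_sup (Ideal.mem_map_of_mem _ h2) h1

lemma openIdeal_le [IsLocallyNoetherian X] (n : ℕ) (V : X.affineOpens) :
    idl (openIdealFam (FSch.completionAlong X 𝓘) hX) n (pre (bs X 𝓘) V) ≤
      (idl (powIdealFam X 𝓘) (n + 1) (V : X.Opens)).map (cm (phi X 𝓘 hX) V) := by
  have h𝔛 : (FSch.completionAlong X 𝓘).IsLocNoethFormal := Groth.Agent.S3854.result X 𝓘
  have hV := isAffineOpen_pre hX V
  have h1 : idl (powIdealFam X 𝓘) (n + 1) (V : X.Opens) = (𝓘.ideal V) ^ (n + 1) := by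
    ext a
    exact Good.mem_powIdealFam_of_affine X 𝓘 (n + 1) V a
  have h2 : Ideal.map (cm (phi X 𝓘 hX) (V : X.Opens)) ((𝓘.ideal V) ^ (n + 1)) =
      II (FSch.completionAlong X 𝓘) hX (pre (bs X 𝓘) V) ^ (n + 1) := by
    rw [← map_ideal hX V]
    exact Ideal.map_pow (cm (phi X 𝓘 hX) (V : X.Opens)) (𝓘.ideal V) (n + 1)
  rw [h1]
  exact (ker_pr h𝔛 hV n).le.trans h2.ge

/-- The ring map respects the ideals. -/
lemma cm_mem (n : ℕ) (V : X.Opens) (a : O X.sheaf V)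
    (ha : a ∈ idl (powIdealFam X 𝓘) (n + 1) V) :
    cm (phi X 𝓘 hX) V a ∈ idl (openIdealFam (FSch.completionAlong X 𝓘) hX) n (pre (bs X 𝓘) V) := by
  change pr _ hX n _ (cm (phi X 𝓘 hX) V a) = 0
  have hcov : pre (bs X 𝓘) V ≤ ⨆ (W : {W : X.affineOpens // (W : X.Opens) ≤ V}),
      pre (bs X 𝓘) (W.1 : X.Opens) := by
    intro x hx
    obtain ⟨W, hW, hxW, hle⟩ := Opens.isBasis_iff_nbhd.mp X.isBasis_affineOpens
      (show (bs X 𝓘) x ∈ V from hx)
    exact Opens.mem_iSup.2 ⟨⟨⟨W, hW⟩, hle⟩, hxW⟩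
  refine TopCat.Sheaf.eq_of_locally_eq' ((FSch.completionAlong X 𝓘).levelObj hX n)
    (fun W : {W : X.affineOpens // (W : X.Opens) ≤ V} ↦ pre (bs X 𝓘) (W.1 : X.Opens))
    (pre (bs X 𝓘) V) (fun W ↦ homOfLE (pre_mono _ W.2)) hcov _ _ fun W ↦ ?_
  have h1 := pr_rs (FSch.completionAlong X 𝓘) hX n (pre_mono (bs X 𝓘) W.2)
    (cm (phi X 𝓘 hX) V a)
  refine h1.symm.trans (Eq.trans ?_ (map_zero _).symm)
  have h2 := cm_resO (phi X 𝓘 hX) W.2 a
  have h3 : rs (FSch.completionAlong X 𝓘) hX (pre_mono (bs X 𝓘) W.2) (cm (phi X 𝓘 hX) V a) =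
      cm (phi X 𝓘 hX) W.1 (resO W.2 a) := h2.symm
  rw [h3]
  refine (pr_cm_eq_zero_iff hX n W.1 _).2 ?_
  exact (Good.mem_powIdealFam_of_affine X 𝓘 (n + 1) W.1 _).1 (resO_mem (powIdealFam X 𝓘) W.2 ha)

/-- The comparison data of the completion morphism. -/
theorem kData [IsLocallyNoetherian X] : KData (f := bs X 𝓘) (phi X 𝓘 hX) (powIdealFam X 𝓘)
    (openIdealFam (FSch.completionAlong X 𝓘) hX) {V | IsAffineOpen V} where
  emb := by
    have h1 : IsClosedImmersion (FSch.completionToX X 𝓘 0) :=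
      inferInstanceAs (IsClosedImmersion (𝓘 ^ (0 + 1)).subschemeι)
    exact (FSch.completionToX X 𝓘 0).isClosedEmbedding
  basis W x hx := by
    obtain ⟨V, hV, hxV, hle⟩ := Opens.isBasis_iff_nbhd.mp X.isBasis_affineOpens hx
    exact ⟨V, hV, hxV, hle⟩
  cm_mem := cm_mem hX
  surj n V hV b := by
    obtain ⟨a, ha⟩ := pr_cm_surj hX n ⟨V, hV⟩ (pr _ hX n _ b)
    refine ⟨a, ?_⟩
    exact (map_sub (pr _ hX n _) b (cm (phi X 𝓘 hX) V a)).trans (sub_eq_zero.2 ha.symm)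
  gen n V hV := openIdeal_le hX n ⟨V, hV⟩
  inj n V hV a ha := (Good.mem_powIdealFam_of_affine X 𝓘 (n + 1) ⟨V, hV⟩ a).2
    ((pr_cm_eq_zero_iff hX n ⟨V, hV⟩ a).1 ha)
  off y hy := by
    have h1 : IsClosedImmersion (FSch.completionToX X 𝓘 0) :=
      inferInstanceAs (IsClosedImmersion (𝓘 ^ (0 + 1)).subschemeι)
    obtain ⟨V, hV, hyV, hle⟩ := Opens.isBasis_iff_nbhd.mp X.isBasis_affineOpens
      (show y ∈ (⟨(Set.range (bs X 𝓘))ᶜ,
        (FSch.completionToX X 𝓘 0).isClosedEmbedding.isClosed_range.isOpen_compl⟩ : X.Opens) from hy)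
    refine ⟨V, hyV, fun n ↦ ?_⟩
    refine (Good.mem_powIdealFam_of_affine X 𝓘 n ⟨V, hV⟩ _).2 ?_
    have h2 : (1 : Γ(X, V)) ∈ 𝓘.ideal ⟨V, hV⟩ := by
      have h3 := (pr_cm_eq_zero_iff hX 0 ⟨V, hV⟩ 1).1
        (TopCat.Sheaf.eq_of_locally_eq' ((FSch.completionAlong X 𝓘).levelObj hX 0)
          (fun a : PEmpty.{u + 1} ↦ a.elim) (pre (bs X 𝓘) V) (fun a ↦ a.elim)
          (fun x hx ↦ absurd ⟨x, rfl⟩ (hle hx)) _ _ (fun a ↦ a.elim))
      rwa [zero_add, pow_one] at h3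
    have h7 : 𝓘.ideal ⟨V, hV⟩ = ⊤ := (Ideal.eq_top_iff_one _).2 h2
    rw [h7, Ideal.top_pow]
    trivial

end K920.KapSch
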