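import Groth.Agent.AlgSp.K612.QcPull
import Groth.Agent.FCompl.K29.RPull

/-!
# The pullback along a morphism of ringed spaces preserves quasi-coherence
-/

set_option autoImplicit false
universe u

open CategoryTheory TopologicalSpace Opposite CategoryTheory.Limits

namespace K920.QcPullTop

open K29.RSec K29.RPull

variable {T T1 : TopCat.{u}} {f : T1 ⟶ T}

instance preservesFiniteLimits_map : PreservesFiniteLimits (Opens.map f) :=
  preservesFiniteLimits_of_flat _

instance preservesLimit_pair (E c : Opens T) : PreservesLimit (pair E c) (Opens.map f) :=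
  inferInstance

instance isContinuous_post [(Opens.map f).IsContinuous (Opens.grothendieckTopology T)
    (Opens.grothendieckTopology T1)] (E : Opens T) : (Over.post (X := E) (Opens.map f)).IsContinuous
    ((Opens.grothendieckTopology T).over E)
    ((Opens.grothendieckTopology T1).over ((Opens.map f).obj E)) :=
  K612.Post.isContinuous_post' _ _ _ _

variable {R : Sheaf (Opens.grothendieckTopology T) CommRingCat.{u}}
  {R1 : Sheaf (Opens.grothendieckTopology T1) CommRingCat.{u}}
  [(Opens.map f).IsContinuous (Opens.grothendieckTopology T) (Opens.grothendieckTopology T1)]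
  (φ : ringSheaf R ⟶ ((Opens.map f).sheafPushforwardContinuous RingCat.{u}
    (Opens.grothendieckTopology T) (Opens.grothendieckTopology T1)).obj (ringSheaf R1))

theorem isQuasicoherent_pull (M : Mod R) (hM : SheafOfModules.IsQuasicoherent.{u} M) :
    SheafOfModules.IsQuasicoherent.{u} ((SheafOfModules.pullback.{u} φ).obj M) := by
  refine K612.QcPull.isQuasicoherent_pullback φ fun I X hX V ↦ ?_
  intro x hx
  obtain ⟨W, g, ⟨i, ⟨k⟩⟩, hxW⟩ := hX ⊤ (f x) trivial
  refine ⟨V ⊓ (Opens.map f).obj (X i), homOfLE inf_le_left, ⟨i, ⟨homOfLE inf_le_right⟩⟩,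
    hx, leOfHom k hxW⟩

end K920.QcPullTop
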