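import Groth.Agent.FTors.K920.SchQC
import Groth.Agent.FTors.K920.QcPullTop
import Groth.Agent.FTors.K920.KapSch
import Groth.Agent.FTors.K919.QCT
import Groth.Agent.FCompl.K29.RPres

/-!
# Quasi-coherent torsion modules along the completion morphism
-/

set_option autoImplicit false
set_option linter.style.haveILetI false
universe u

open CategoryTheory TopologicalSpace Opposite CategoryTheory.Limits AlgebraicGeometry

noncomputable section

namespace K920.KapQC

open K29.RSec K29.RStalk K29.RPull K29.RExact K29.RPres FTors K920.TorsMod K920.Kap K920.KapSch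
  K919.AffBasic K919.AffFlat K919.AffD K919.Kill K919.Loc K919.QCT K920.SchQC

section General

variable {T T1 : TopCat.{u}} {f : T1 ⟶ T} {R : Sheaf (Opens.grothendieckTopology T) CommRingCat.{u}}
  {R1 : Sheaf (Opens.grothendieckTopology T1) CommRingCat.{u}}
  [(Opens.map f).IsContinuous (Opens.grothendieckTopology T) (Opens.grothendieckTopology T1)]
  {φ : ringSheaf R ⟶ ((Opens.map f).sheafPushforwardContinuous RingCat.{u}
    (Opens.grothendieckTopology T) (Opens.grothendieckTopology T1)).obj (ringSheaf R1)}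

lemma locOn_push {M : Mod R1} {V W : Opens T} (hW : W ≤ V) (a : O R V)
    (h : LocOn M (cm φ V a) (pre f W) (pre_mono f hW)) : LocOn ((push φ).obj M) a W hW := by
  refine ⟨fun s hs ↦ ?_, fun t ↦ ?_⟩
  · obtain ⟨n, hn⟩ := h.1 (ofPush φ s) hs
    refine ⟨n, ?_⟩
    have h3 : ofPush φ (a ^ n • s) = cm φ V a ^ n • ofPush φ s := by
      rw [ofPush_smul, map_pow]
    exact h3.trans hn
  · obtain ⟨n, s, hs⟩ := h.2 (ofPush φ t)
    refine ⟨n, toPush φ s, ?_⟩
    have h3 : ofPush φ (resO hW a ^ n • t) = resO (pre_mono f hW) (cm φ V a) ^ n • ofPush φ t := by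
      rw [ofPush_smul, map_pow, cm_resO]
    exact hs.trans h3.symm

variable {I : IdealFam R} {I1 : IdealFam R1} {B : Set (Opens T)} (h : KData φ I I1 B)

include h

/-- Multiplication of a killed section by a section of `R1` is, on the basis, multiplication by a section
of `R`. -/
lemma exists_smul_eq {M : Mod R1} {V : Opens T} (hV : V ∈ B) {n : ℕ} (b : O R1 (pre f V)) :
    ∃ a : O R V, ∀ s : Sec M (pre f V), KilledBy I1 M n (V := pre f V) s →
      b • s = cm φ V a • s := by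
  obtain ⟨a, ha⟩ := h.surj n V hV b
  refine ⟨a, fun s hs ↦ ?_⟩
  have h1 := (killedBy_iff s).1 hs (pre f V) le_rfl _ ha
  rw [res_self, sub_smul, sub_eq_zero] at h1
  exact h1

/-- `f_*` of a torsion module of finite type is of finite type. -/
theorem isFiniteType_push {M : Mod R1} (hT : IsTors I1 M)
    (hM : SheafOfModules.IsFiniteType (R := ringSheaf R1) M) :
    SheafOfModules.IsFiniteType (R := ringSheaf R) ((push φ).obj M) := by
  classical
  rw [Groth.Agent.Gaga.H976.TM3.isFiniteType_iff] at hM ⊢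
  intro x
  refine (ftAt_iff ((push φ).obj M) x).2 ?_
  by_cases hx : x ∈ Set.range f
  · obtain ⟨y, rfl⟩ := hx
    obtain ⟨W', hW', n, s, hs⟩ := (ftAt_iff M y).1 (hM y)
    -- the generators are killed by an ideal near `y`
    have h1 : ∀ (k : ℕ) (s : Fin k → Sec M W'), ∃ (W : Opens T1) (hW : W ≤ W'), y ∈ W ∧ ∃ m, ∀ i,
        KilledBy I1 M m (V := W) (K29.RSec.res M hW (s i)) := by
      intro k
      induction k with
      | zero => exact fun s ↦ ⟨W', le_rfl, hW', 0, fun i ↦ i.elim0⟩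
      | succ k ih =>
        intro s
        obtain ⟨W, hW, hyW, m, hm⟩ := ih (fun i ↦ s i.castSucc)
        obtain ⟨W₁, hW₁, hyW₁, m₁, hm₁⟩ := (isTorsSect_iff (I := I1) (s (Fin.last k))).1 (hT _ _) y hW'
        refine ⟨W ⊓ W₁, inf_le_left.trans hW, ⟨hyW, hyW₁⟩, max m m₁, fun i ↦ ?_⟩
        refine Fin.lastCases ?_ (fun i ↦ ?_) i
        · have h2 := (hm₁.res (homOfLE (inf_le_right : W ⊓ W₁ ≤ W₁))).mono (le_max_right m m₁)
          have h3 := K29.RSec.res_res M hW₁ (inf_le_right : W ⊓ W₁ ≤ W₁) (s (Fin.last k))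
          rw [← h3]
          exact h2
        · have h2 := ((hm i).res (homOfLE (inf_le_left : W ⊓ W₁ ≤ W))).mono (le_max_left m m₁)
          have h3 := K29.RSec.res_res M hW (inf_le_left : W ⊓ W₁ ≤ W) (s i.castSucc)
          rw [← h3]
          exact h2
    obtain ⟨W₁, hW₁, hyW₁, m, hm⟩ := h1 n s
    obtain ⟨V, hV, hyV, -, hle⟩ := exists_pre h hyW₁ (V := ⊤) trivial
    refine ⟨V, hyV, n, fun i ↦ toPush φ (K29.RSec.res M (hle.trans hW₁) (s i)), ?_⟩
    intro V' hV' t x hx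
    by_cases hxf : x ∈ Set.range f
    · obtain ⟨z, rfl⟩ := hxf
      obtain ⟨W₂, hW₂, hzW₂, c, hc⟩ := hs (pre f V') ((pre_mono f hV').trans (hle.trans hW₁))
        (ofPush φ t) z hx
      obtain ⟨V₃, hV₃, hzV₃, hle₃, hle₃'⟩ := exists_pre h hzW₂ (V := V') hx
      choose a ha using fun i ↦ exists_smul_eq h (M := M) hV₃ (n := m) (resO hle₃' (c i))
      refine ⟨V₃, hle₃, hzV₃, a, ?_⟩
      have e1 := congrArg (K29.RSec.res M hle₃') hc
      rw [res_res, map_sum] at e1
      refine e1.trans ?_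
      refine Finset.sum_congr rfl fun i _ ↦ ?_
      rw [res_smul, res_res]
      have h4 : KilledBy I1 M m (V := pre f V₃)
          (K29.RSec.res M ((hle₃'.trans hW₂).trans ((pre_mono f hV').trans (hle.trans hW₁))) (s i)) := by
        have h5 := (hm i).res (homOfLE ((pre_mono f (hle₃.trans hV')).trans hle))
        have h6 := K29.RSec.res_res M hW₁ ((pre_mono f (hle₃.trans hV')).trans hle) (s i)
        rw [← h6]
        exact h5
      refine (ha i _ h4).trans ?_
      change _ = cm φ V₃ (a i) • K29.RSec.res M (pre_mono f (hle₃.trans hV'))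
        (K29.RSec.res M (hle.trans hW₁) (s i))
      rw [res_res]
    · obtain ⟨V₂, hxV₂, hV₂⟩ := subsingleton_off h hxf
      refine ⟨V₂ ⊓ V', inf_le_right, ⟨hxV₂, hx⟩, fun _ ↦ 0, ?_⟩
      exact sec_eq_of_empty M (V := pre f (V₂ ⊓ V')) (fun x hx ↦ hV₂ x hx.1) _ _
  · obtain ⟨V, hxV, hV⟩ := subsingleton_off h hx
    refine ⟨V, hxV, 0, fun i ↦ i.elim0, ?_⟩
    intro V' hV' t x hx
    refine ⟨V', le_rfl, hx, fun i ↦ i.elim0, ?_⟩
    exact sec_eq_of_empty M (V := pre f V') (fun x hx ↦ hV x (hV' hx)) _ _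

end General

variable (X : Scheme.{u}) [IsLocallyNoetherian X] (𝓘 : X.IdealSheafData)
  (hX : (FSch.completionAlong X 𝓘).IsFormal)

lemma h𝔛' : (FSch.completionAlong X 𝓘).IsLocNoethFormal := Groth.Agent.S3854.result X 𝓘

variable {X 𝓘}

omit [IsLocallyNoetherian X] in
lemma D_cm {V : X.Opens} (a : O X.sheaf V) :
    D (FSch.completionAlong X 𝓘) hX (V := pre (bs X 𝓘) V) (cm (phi X 𝓘 hX) V a) =
      pre (bs X 𝓘) (bo a) := by
  rw [D, pr_cm]
  refine (Scheme.basicOpen_appLE (FSch.completionToX X 𝓘 0) _ _ _ _).trans ?_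
  rw [lvU_zero]
  exact inf_eq_right.2 (pre_mono (bs X 𝓘) (bo_le a))

/-- `κ_*` of a quasi-coherent torsion module is quasi-coherent. -/
theorem isQuasicoherent_push (M : FSch.ModF (FSch.completionAlong X 𝓘) hX)
    (hM : IsQCT (FSch.completionAlong X 𝓘) hX M) :
    SheafOfModules.IsQuasicoherent.{u} ((kap X 𝓘 hX).push.obj M) := by
  have h𝔛 := h𝔛' X 𝓘
  refine isQuasicoherent_of_locOn _ fun x ↦ ?_
  obtain ⟨V, hV, hxV, -⟩ := Opens.isBasis_iff_nbhd.mp X.isBasis_affineOpens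
    (show x ∈ (⊤ : X.Opens) from trivial)
  refine ⟨V, hxV, hV, fun a ↦ ?_⟩
  have hpre := isAffineOpen_pre (𝓘 := 𝓘) hX ⟨V, hV⟩
  have h1 := ((isQCT_iff (𝔛 := FSch.completionAlong X 𝓘) h𝔛 M).1 hM).2 (pre (bs X 𝓘) V)
    (K919.LocGen.isCompact_of_affine h𝔛 hpre) (cm (phi X 𝓘 hX) V a)
  have h2 := locOn_congr (𝔛 := FSch.completionAlong X 𝓘) h𝔛 (cm (phi X 𝓘 hX) V a) _
    (pre_mono (bs X 𝓘) (bo_le a)) (D_cm hX a) h1
  exact locOn_push (φ := phi X 𝓘 hX) (bo_le a) a h2

/-- `κ^*` of a quasi-coherent torsion module is quasi-coherent torsion. -/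
theorem isQCT_pull (N : ModSite.Mod X.sheaf) (hN : IsTorsZp X 𝓘 N)
    (hq : SheafOfModules.IsQuasicoherent.{u} N) :
    IsQCT (FSch.completionAlong X 𝓘) hX ((kap X 𝓘 hX).pull.obj N) :=
  ⟨isTors_pull (kData (𝓘 := 𝓘) hX) (kap X 𝓘 hX).adj hN,
    QcPullTop.isQuasicoherent_pull (phi X 𝓘 hX) N hq⟩

/-- `κ_*` of a coherent torsion module is coherent. -/
theorem isCoh_push (M : FSch.ModF (FSch.completionAlong X 𝓘) hX)
    (hM : IsQCT (FSch.completionAlong X 𝓘) hX M)
    (hc : FSch.IsCohF (FSch.completionAlong X 𝓘) hX M) :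
    Coh.IsCoh ((kap X 𝓘 hX).push.obj M) := by
  have hc' : SheafOfModules.IsFinitePresentation.{u} M := hc
  exact ⟨isQuasicoherent_push hX M hM,
    isFiniteType_push (kData (𝓘 := 𝓘) hX) hM.1 inferInstance⟩

end K920.KapQC
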