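import Groth.Agent.FTors.K920.KapQC
import Groth.Agent.FTors.K920.KapDer

/-!
# Quasi-coherent torsion cohomology along the completion morphism
-/

set_option autoImplicit false
universe u

open CategoryTheory TopologicalSpace Opposite CategoryTheory.Limits AlgebraicGeometry

attribute [local instance] HasDerivedCategory.standard

noncomputable section

namespace K920.KapQCDer

open FTors K920.TorsMod K920.TorsDer K920.Kap K920.KapSch K920.KapDer K920.ExDer K920.KapQC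

section

variable {C : Type u} [SmallCategory C] {J : GrothendieckTopology C}
  {O : Sheaf J CommRingCat.{u}}

lemma isQuasicoherent_of_iso {M N : ModSite.Mod O} (e : M ≅ N)
    (h : SheafOfModules.IsQuasicoherent.{u} M) : SheafOfModules.IsQuasicoherent.{u} N := by
  obtain ⟨P⟩ := h.nonempty_quasicoherentData
  exact (P.ofIsIso e.hom).isQuasicoherent

end

section

open K29.RSec K29.RPres

variable {T : TopCat.{u}} {R : Sheaf (Opens.grothendieckTopology T) CommRingCat.{u}}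

lemma isFiniteType_of_iso {N N' : Mod R} (e : N ≅ N')
    (h : SheafOfModules.IsFiniteType (R := ringSheaf R) N) :
    SheafOfModules.IsFiniteType (R := ringSheaf R) N' := by
  rw [Groth.Agent.Gaga.H976.TM3.isFiniteType_iff] at h ⊢
  intro x
  obtain ⟨W, hx, n, s, hs⟩ := (ftAt_iff N x).1 (h x)
  refine (ftAt_iff N' x).2 ⟨W, hx, n, fun i ↦ app e.hom W (s i), ?_⟩
  intro V hV t x hx
  obtain ⟨V', hV', hxV', c, hc⟩ := hs V hV (app e.inv V t) x hx
  refine ⟨V', hV', hxV', c, ?_⟩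
  have h1 := congrArg (app e.hom V') hc
  rw [← app_res, ← app_comp, e.inv_hom_id, app_id, map_sum] at h1
  rw [h1]
  refine Finset.sum_congr rfl fun i _ ↦ ?_
  rw [map_smul, app_res]

end

variable {X : Scheme.{u}} [IsLocallyNoetherian X] {𝓘 : X.IdealSheafData}
  (hX : (FSch.completionAlong X 𝓘).IsFormal)

lemma isQCT_of_iso {𝔛 : FSch.Sys.{u}} {h : 𝔛.IsFormal} {M N : FSch.ModF 𝔛 h} (e : M ≅ N)
    (hM : IsQCT 𝔛 h M) : IsQCT 𝔛 h N :=
  ⟨isTors_of_iso e hM.1, isQuasicoherent_of_iso e hM.2⟩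

theorem isDQCT_pull [PreservesFiniteLimits (kap X 𝓘 hX).pull]
    (F : DerivedCategory (ModSite.Mod X.sheaf)) (hF : IsDTorsZp X 𝓘 F)
    (hq : ∀ i : ℤ, SheafOfModules.IsQuasicoherent.{u} (SiteCmp.HMod F i)) :
    IsDQCT (FSch.completionAlong X 𝓘) hX ((SiteCmp.pullD (kap X 𝓘 hX)).obj F) := fun i ↦
  isQCT_of_iso (hModPull (kap X 𝓘 hX) F i).symm (isQCT_pull hX _ (hF i) (hq i))

theorem isQuasicoherent_hMod_push [SiteCmp.HasRpushD (kap X 𝓘 hX)]
    (G : DerivedCategory (FSch.ModF (FSch.completionAlong X 𝓘) hX))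
    (hG : IsDQCT (FSch.completionAlong X 𝓘) hX G) (i : ℤ) :
    SheafOfModules.IsQuasicoherent.{u} (SiteCmp.HMod ((SiteCmp.RpushD (kap X 𝓘 hX)).obj G) i) :=
  isQuasicoherent_of_iso (hModPush (kap X 𝓘 hX) G i).symm (isQuasicoherent_push hX _ (hG i))

theorem isCoh_hMod_push [SiteCmp.HasRpushD (kap X 𝓘 hX)]
    (G : DerivedCategory (FSch.ModF (FSch.completionAlong X 𝓘) hX))
    (hG : IsDQCT (FSch.completionAlong X 𝓘) hX G)
    (hc : ∀ i : ℤ, FSch.IsCohF (FSch.completionAlong X 𝓘) hX (SiteCmp.HMod G i)) (i : ℤ) :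
    Coh.IsCoh (SiteCmp.HMod ((SiteCmp.RpushD (kap X 𝓘 hX)).obj G) i) := by
  refine ⟨isQuasicoherent_hMod_push hX G hG i, ?_⟩
  have h1 := (isCoh_push hX _ (hG i) (hc i)).2
  have e : (kap X 𝓘 hX).push.obj (SiteCmp.HMod G i) ≅
    SiteCmp.HMod ((SiteCmp.RpushD (kap X 𝓘 hX)).obj G) i := (hModPush (kap X 𝓘 hX) G i).symm
  exact isFiniteType_of_iso (T := X.carrier) (R := X.sheaf) e h1

end K920.KapQCDer
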