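import Groth.Agent.DerComp.K779.Tri2

/-!
# Objects right orthogonal to torsion objects, and complete objects, in linear triangulated categories

`hom_eq_zero`: if `G` is complete with respect to every scalar of a finite list and `K` is right orthogonal to all objects on
which every scalar of the list is nilpotent, then `Hom(K, G) = 0`.
-/

set_option autoImplicit false
set_option linter.unusedSectionVars false

universe t v u

open CategoryTheory CategoryTheory.Limits Pretriangulated ZeroObject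

namespace K920.OrthTri

open K779.Tri

variable {R : Type t} [CommRing R] {D : Type u} [Category.{v} D] [HasZeroObject D] [HasShift D ℤ] [Preadditive D]
  [∀ n : ℤ, (shiftFunctor D n).Additive] [Pretriangulated D] [Linear R D] [∀ n : ℤ, (shiftFunctor D n).Linear R]

/-- every scalar of `l` is nilpotent on `X`. -/
def Nil (l : Set R) (X : D) : Prop := ∀ s ∈ l, ∃ N : ℕ, s ^ N • 𝟙 X = 0

theorem div_pow {s : R} {X : D} (h : K779.Tri.Div s X) (N : ℕ) : K779.Tri.Div (s ^ N) X := by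
  induction N with
  | zero =>
    unfold K779.Tri.Div
    rw [pow_zero, one_smul]
    infer_instance
  | succ N ih =>
    have h1 : IsIso (s • 𝟙 X) := h
    have h2 : IsIso (s ^ N • 𝟙 X) := ih
    have h3 : s ^ (N + 1) • 𝟙 X = (s ^ N • 𝟙 X) ≫ (s • 𝟙 X) := by
      rw [Linear.smul_comp, Linear.comp_smul, Category.comp_id, smul_smul, ← pow_succ]
    unfold K779.Tri.Div
    rw [h3]
    infer_instance

theorem eq_zero_of_div {s : R} {X Y : D} {N : ℕ} (hX : s ^ N • 𝟙 X = 0) (hY : K779.Tri.Div s Y) (f : X ⟶ Y) : f = 0 := by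
  have h1 : IsIso (s ^ N • 𝟙 Y) := div_pow hY N
  rw [← cancel_mono (s ^ N • 𝟙 Y), zero_comp, Linear.comp_smul, Category.comp_id]
  calc s ^ N • f = (s ^ N • 𝟙 X) ≫ f := by rw [Linear.smul_comp, Category.id_comp]
    _ = 0 := by rw [hX, zero_comp]

theorem Nil.hom_dg {l : Set R} {X Y : D} (hX : Nil l X) (hY : DG l Y) (f : X ⟶ Y) : f = 0 := by
  induction hY with
  | zero Y h => exact h.eq_of_tgt _ _
  | div Y s hs h =>
    obtain ⟨N, hN⟩ := hX s hs
    exact eq_zero_of_div hN h f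
  | ext T hT h1 h3 ih1 ih3 =>
    obtain ⟨g, hg⟩ := Triangle.coyoneda_exact₂ _ hT f (ih3 _)
    rw [hg, ih1 g, zero_comp]

theorem Nil.shift {l : Set R} {X : D} (hX : Nil l X) (n : ℤ) : Nil l (X⟦n⟧) := fun s hs => by
  obtain ⟨N, hN⟩ := hX s hs
  refine ⟨N, ?_⟩
  have h2 : s ^ N • 𝟙 (X⟦n⟧) = (s ^ N • 𝟙 X)⟦n⟧' := by
    rw [Functor.map_smul, CategoryTheory.Functor.map_id]
  rw [h2, hN, Functor.map_zero]

theorem Nil.mono {l l' : Set R} {X : D} (hX : Nil l X) (h : l' ⊆ l) : Nil l' X := fun s hs => hX s (h hs)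

section Cone

variable {K C : D} {v : K ⟶ C} {w : C ⟶ K⟦(1 : ℤ)⟧} {a : R}

/-- `b • 𝟙 = w ≫ k` when `b` kills `v`. -/
theorem exists_fac (hT : Triangle.mk (a • 𝟙 K) v w ∈ distTriang D) (b : R) (hb : b • v = 0) :
    ∃ k : K⟦(1 : ℤ)⟧ ⟶ C, b • 𝟙 C = w ≫ k := by
  refine Triangle.yoneda_exact₃ _ hT (b • 𝟙 C) ?_
  change v ≫ (b • 𝟙 C) = 0
  rw [Linear.comp_smul, Category.comp_id, hb]

theorem sq_cone (hT : Triangle.mk (a • 𝟙 K) v w ∈ distTriang D) : a ^ 2 • 𝟙 C = 0 := by
  have h1 : (a • 𝟙 K) ≫ v = 0 := comp_distTriang_mor_zero₁₂ _ hT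
  have h2 : w ≫ (a • 𝟙 K)⟦(1 : ℤ)⟧' = 0 := comp_distTriang_mor_zero₃₁ _ hT
  rw [Linear.smul_comp, Category.id_comp] at h1
  rw [Functor.map_smul, CategoryTheory.Functor.map_id, Linear.comp_smul, Category.comp_id] at h2
  obtain ⟨k, hk⟩ := exists_fac hT a h1
  rw [pow_two, ← smul_smul, hk, ← Linear.smul_comp, h2, zero_comp]

theorem pow_cone (hT : Triangle.mk (a • 𝟙 K) v w ∈ distTriang D) {s : R} {N : ℕ} (hs : s ^ N • 𝟙 K = 0) :
    s ^ (N + N) • 𝟙 C = 0 := by
  have h1 : s ^ N • v = 0 := by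
    calc s ^ N • v = (s ^ N • 𝟙 K) ≫ v := by rw [Linear.smul_comp, Category.id_comp]
      _ = 0 := by rw [hs, zero_comp]
  have h2 : s ^ N • w = 0 := by
    calc s ^ N • w = w ≫ (s ^ N • 𝟙 K)⟦(1 : ℤ)⟧' := by
          rw [Functor.map_smul, CategoryTheory.Functor.map_id, Linear.comp_smul, Category.comp_id]
      _ = 0 := by rw [hs, Functor.map_zero, comp_zero]
  obtain ⟨k, hk⟩ := exists_fac hT (s ^ N) h1
  rw [pow_add, ← smul_smul, hk, ← Linear.smul_comp, h2, zero_comp]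

end Cone

variable [IsTriangulated D] [∀ K : D, HasProduct fun _ : ℕ => K]

theorem isZero_of_cpl (l' : List R) : ∀ (l'' : List R) (K : D), (∀ s ∈ l', Cpl s K) → Nil {s | s ∈ l''} K →
    (∀ X : D, Nil {s | s ∈ l' ∨ s ∈ l''} X → ∀ f : X ⟶ K, f = 0) → IsZero K := by
  induction l' with
  | nil =>
    intro l'' K _ h2 h3
    rw [IsZero.iff_id_eq_zero]
    refine h3 K (h2.mono fun s hs => ?_) _
    rcases hs with hs | hs
    · exact absurd hs (by simp)
    · exact hs
  | cons a l' ih =>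
    intro l'' K h1 h2 h3
    obtain ⟨C, v, w, hT⟩ := distinguished_cocone_triangle (a • 𝟙 K)
    have hC : IsZero C := by
      refine ih (a :: l'') C (fun s hs => ?_) (fun s hs => ?_) (fun X hX f => ?_)
      · exact Cpl.obj₃ hT (h1 s (List.mem_cons_of_mem _ hs)) (h1 s (List.mem_cons_of_mem _ hs))
      · rcases List.mem_cons.1 hs with rfl | hs
        · exact ⟨2, sq_cone hT⟩
        · obtain ⟨N, hN⟩ := h2 s hs
          exact ⟨N + N, pow_cone hT hN⟩
      · have hX' : Nil {s | s ∈ a :: l' ∨ s ∈ l''} X := hX.mono fun s hs => by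
          rcases hs with hs | hs
          · rcases List.mem_cons.1 hs with rfl | hs
            · exact Or.inr (by simp)
            · exact Or.inl hs
          · exact Or.inr (List.mem_cons_of_mem _ hs)
        have h4 : f ≫ w = 0 := by
          have h5 := h3 (X⟦(-1 : ℤ)⟧) (hX'.shift (-1)) ((shEq R X K 1).symm (f ≫ w))
          exact ((shEq R X K 1).symm.map_eq_zero_iff).1 h5
        obtain ⟨g, hg⟩ : ∃ g : X ⟶ K, f = g ≫ v := Triangle.coyoneda_exact₃ _ hT f h4
        rw [hg, h3 X hX' g, zero_comp]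
    have hd : K779.Tri.Div a K := ((Triangle.mk (a • 𝟙 K) v w).isZero₃_iff_isIso₁ hT).1 hC
    rw [IsZero.iff_id_eq_zero]
    exact hd.hom_eq_zero (h1 a (by simp)) _

/-- **Orthogonality.** -/
theorem hom_eq_zero (l : List R) (K G : D) (hG : ∀ s ∈ l, Cpl s G)
    (hK : ∀ X : D, Nil {s | s ∈ l} X → ∀ f : X ⟶ K, f = 0) (φ : K ⟶ G) : φ = 0 := by
  obtain ⟨T, L, f, g, h, hT, hL, hD⟩ := exists_completion_list l K
  have hL0 : IsZero L := by
    refine isZero_of_cpl l [] L hL (fun s hs => absurd hs (by simp)) (fun X hX x => ?_)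
    have hX' : Nil {s | s ∈ l} X := hX.mono fun s hs => Or.inl hs
    have h1 : x ≫ h = 0 := hX'.hom_dg (hD.shift 1) _
    obtain ⟨y, hy⟩ : ∃ y : X ⟶ K, x = y ≫ g := Triangle.coyoneda_exact₃ _ hT x h1
    rw [hy, hK X hX' y, zero_comp]
  have hf : IsIso f := ((Triangle.mk f g h).isZero₃_iff_isIso₁ hT).1 hL0
  exact (hD.of_iso (asIso f)).hom_eq_zero hG φ

end K920.OrthTri
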