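import Groth.Agent.FTors.K920.Good
import Groth.Prelude.Def_FTors2
import Groth.Agent.FTors.K920.OrthTri
import Groth.Agent.DerComp.K780.Res
import Groth.Agent.PerfA.ExactD
import Groth.Agent.PerfA.HomologyLinear

/-!
# Extension by zero of modules killed by powers of the generators of the ideal of a good open is torsion
-/

set_option autoImplicit false

universe u

open CategoryTheory CategoryTheory.Limits Opposite TopologicalSpace

attribute [local instance] HasDerivedCategory.standard

namespace K920.KillTors

open FTors K920.Sec K920.Good K920.TorsMod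

variable {T : TopCat.{u}} {O : Sheaf (Opens.grothendieckTopology T) CommRingCat.{u}}
  {I : IdealFam O} {U : Opens T} {𝔞 : Ideal (Rg O U)} {B : Set (Opens T)}

lemma span_cons (a : Rg O U) (l : List (Rg O U)) :
    Ideal.span {t | t ∈ a :: l} = Ideal.span {a} ⊔ Ideal.span {t | t ∈ l} := by
  rw [← Ideal.span_union]
  congr 1
  ext t
  simp

/-- sections killed by powers of the generators are killed locally by a power of the ideal. -/
lemma lt_of_gen {M : ModSite.Mod O} {V : Opens T} (h : V ≤ U) (s : ModSite.sect M V) (l : List (Rg O U))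
    (hs : ∀ t ∈ l, ∃ N : ℕ, ro (O := O) h (t ^ N) • s = 0) : LT M h (Ideal.span {t | t ∈ l}) s := by
  induction l with
  | nil =>
    have h1 : {t : Rg O U | t ∈ ([] : List (Rg O U))} = ∅ := by
      ext t
      simp
    rw [h1, Ideal.span_empty]
    exact LT.bot
  | cons a l ih =>
    rw [span_cons]
    obtain ⟨N, hN⟩ := hs a (by simp)
    exact (LT.of_kill (kill_span_singleton_pow hN)).sup (ih fun t ht ↦ hs t (List.mem_cons_of_mem _ ht))

theorem smul_apply {M : ModSite.Mod (O.over U)} (s : DerComp.GSec (O.over U)) (N : ℕ) (h : s ^ N • 𝟙 M = 0)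
    (V : Over U) (x : M.val.obj (op V)) : DerComp.GSec.val' (s ^ N) (op V) • x = 0 := by
  have h1 : ((s ^ N • 𝟙 M).val.app (op V)).hom x = 0 := by
    rw [h]
    rfl
  exact h1

theorem isTors_extZero (hU : IsGoodOpen I U 𝔞 B) (l : List (Rg O U)) (hl : 𝔞 = Ideal.span {t | t ∈ l})
    (M : ModSite.Mod (O.over U)) (hM : ∀ t ∈ l, ∃ N : ℕ, (DerComp.GSec.ofSect O U t) ^ N • 𝟙 M = 0) :
    IsTors I ((ModSite.extZero O U).obj M) := by
  rw [← isIso_gammaι_iff]
  set P := (ModSite.extZero O U).obj M with hP
  have h0 : cokernel.π ((gammaι I).app P) = 0 := by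
    apply ((ModSite.extZeroAdj O U).homEquiv _ _).injective
    rw [Adjunction.homEquiv_unit, Adjunction.homEquiv_unit, Functor.map_zero, comp_zero]
    ext V x
    change ((cokernel.π ((gammaι I).app P)).val.app (op V.unop.left)).hom
      ((((ModSite.extZeroAdj O U).unit.app M).val.app V).hom x) = 0
    set y : ModSite.sect P V.unop.left := (((ModSite.extZeroAdj O U).unit.app M).val.app V).hom x with hy
    have h1 : IsTorsSect I P y := by
      rw [isTorsSect_iff hU (leOfHom V.unop.hom), hl]
      refine lt_of_gen _ _ l fun t ht ↦ ?_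
      obtain ⟨N, hN⟩ := hM t ht
      refine ⟨N, ?_⟩
      have h2 := smul_apply _ N hN V.unop x
      have h3 : (((ModSite.extZeroAdj O U).unit.app M).val.app V).hom
          (DerComp.GSec.val' ((DerComp.GSec.ofSect O U t) ^ N) (op V.unop) • x) =
          DerComp.GSec.val' ((DerComp.GSec.ofSect O U t) ^ N) (op V.unop) •
            (((ModSite.extZeroAdj O U).unit.app M).val.app V).hom x :=
        (((ModSite.extZeroAdj O U).unit.app M).val.app V).hom.map_smul _ _
      rw [h2, map_zero] at h3
      have h4 : ro (O := O) (leOfHom V.unop.hom) (t ^ N) =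
          ((DerComp.GSec.ofSect O U t) ^ N).1 V.unop := by
        rw [map_pow]
        rfl
      rw [h4]
      exact h3.symm
    have h5 : y = ((((gammaι I).app P).val.app (op V.unop.left)).hom
      (⟨y, h1⟩ : torsSub I P V.unop.left)) := rfl
    rw [h5]
    have h6 : ((gammaι I).app P ≫ cokernel.π ((gammaι I).app P)) = 0 := cokernel.condition _
    have h7 := congrArg (fun f => (f.val.app (op V.unop.left)).hom (⟨y, h1⟩ : torsSub I P V.unop.left)) h6
    exact h7
  have h8 : Epi ((gammaι I).app P) := Preadditive.epi_of_cokernel_zero h0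
  exact isIso_of_mono_of_epi _

section Derived

attribute [local instance] K780.Away.preservesFiniteLimits_extZero K780.Away.preservesFiniteColimits_extZero

theorem isDTors_extZero (hU : IsGoodOpen I U 𝔞 B) (l : List (Rg O U)) (hl : 𝔞 = Ideal.span {t | t ∈ l})
    (X : DerivedCategory (ModSite.Mod (O.over U)))
    (hX : OrthTri.Nil {s | s ∈ l.map (DerComp.GSec.ofSect O U)} X) :
    IsDTors I ((ModSite.extZero O U).mapDerivedCategory.obj X) := by
  intro i
  have h1 : IsTors I ((ModSite.extZero O U).obj ((DerivedCategory.homologyFunctor _ i).obj X)) := by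
    refine isTors_extZero hU l hl _ fun t ht ↦ ?_
    obtain ⟨N, hN⟩ := hX (DerComp.GSec.ofSect O U t) (List.mem_map_of_mem ht)
    refine ⟨N, ?_⟩
    have h2 := Groth.Agent.PerfA.HomologyLinear.homologyFunctor_map_smul_id X ((DerComp.GSec.ofSect O U t) ^ N) i
    rw [hN, Functor.map_zero] at h2
    exact h2.symm
  exact isTors_of_iso ((Groth.Agent.PerfA.ExactD.mapHomology (ModSite.extZero O U) i).app X).symm h1

end Derived

end K920.KillTors
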