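import Groth.Agent.FTors.K920.CoprodTors
import Groth.Agent.FSch.K180.DerAdj
import Groth.Agent.LoccohB.RpushTri

/-!
# The right adjoint `Λ` of `RΓ_I`
-/

set_option autoImplicit false

universe u

open CategoryTheory CategoryTheory.Limits Opposite TopologicalSpace Pretriangulated

attribute [local instance] HasDerivedCategory.standard

namespace K920.Lam

open FTors K920.Sec K920.Good K920.TorsMod K920.TorsDer K920.CoprodTors

section Abs

variable {D E : Type*} [Category* D] [Category* E] (Γ : D ⥤ D) (P Q : ObjectProperty D) (F : D ⥤ E)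

theorem isLeftAdjoint_comp (hP : ∀ X, P X → Q (Γ.obj X)) (Λ : D ⥤ D) (adj : Γ ⊣ Λ) (hΛ : ∀ M, Q M → P (Λ.obj M))
    (hF : (Q.ι ⋙ F).IsLeftAdjoint) : (P.ι ⋙ Γ ⋙ F).IsLeftAdjoint := by
  let F1 : P.FullSubcategory ⥤ Q.FullSubcategory := Q.lift (P.ι ⋙ Γ) (fun X => hP _ X.property)
  let G1 : Q.FullSubcategory ⥤ P.FullSubcategory := P.lift (Q.ι ⋙ Λ) (fun M => hΛ _ M.property)
  let adj1 : F1 ⊣ G1 := adj.restrictFullyFaithful P.fullyFaithfulι Q.fullyFaithfulι (Iso.refl _) (Iso.refl _)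
  have h1 : F1.IsLeftAdjoint := adj1.isLeftAdjoint
  have h2 : (F1 ⋙ Q.ι ⋙ F).IsLeftAdjoint := inferInstance
  exact Functor.isLeftAdjoint_of_iso (Iso.refl (F1 ⋙ Q.ι ⋙ F) : F1 ⋙ Q.ι ⋙ F ≅ P.ι ⋙ Γ ⋙ F)

end Abs

section Lambda

variable {C : Type u} [SmallCategory C] {J : GrothendieckTopology C} {O : Sheaf J CommRingCat.{u}}
  {I : IdealFam O} [HasRgamma I]

theorem map_ε (hI : GoodD I) (E : DerivedCategory (ModSite.Mod O)) :
    (Rgamma I).map ((Rgammaε I).app E) = (Rgammaε I).app ((Rgamma I).obj E) :=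
  (bijective_comp_ε hI (isDTors_Rgamma I ((Rgamma I).obj E)) E).1 ((Rgammaε I).naturality ((Rgammaε I).app E))

theorem bijective_comp_counit (hI : GoodD I) {Λ : DerivedCategory (ModSite.Mod O) ⥤ DerivedCategory (ModSite.Mod O)}
    (adj : Rgamma I ⊣ Λ) (M : DerivedCategory (ModSite.Mod O)) {X : DerivedCategory (ModSite.Mod O)}
    (hX : IsDTors I X) :
    Function.Bijective (fun f : X ⟶ (Rgamma I).obj (Λ.obj M) => f ≫ adj.counit.app M) := by
  have h1 := bijective_comp_ε hI hX (Λ.obj M)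
  have h2 : Function.Bijective (fun g : X ⟶ Λ.obj M => (adj.homEquiv X M).symm g) := (adj.homEquiv X M).symm.bijective
  have hε := isIso_ε hI hX
  have h3 : Function.Bijective (fun g : (Rgamma I).obj X ⟶ M => inv ((Rgammaε I).app X) ≫ g) :=
    ⟨fun a b hab => by
      dsimp only at hab
      rwa [cancel_epi] at hab, fun b => ⟨(Rgammaε I).app X ≫ b, by simp⟩⟩
  have h4 := h3.comp (h2.comp h1)
  refine (show (fun f : X ⟶ (Rgamma I).obj (Λ.obj M) => f ≫ adj.counit.app M) = _ from funext fun f => ?_) ▸ h4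
  have h5 : (Rgamma I).map f ≫ (Rgammaε I).app ((Rgamma I).obj (Λ.obj M)) = (Rgammaε I).app X ≫ f :=
    (Rgammaε I).naturality f
  dsimp only [Function.comp]
  rw [Adjunction.homEquiv_counit, Functor.map_comp, map_ε hI, h5, Category.assoc, IsIso.inv_hom_id_assoc]

theorem isIso_counit (hI : GoodD I) {Λ : DerivedCategory (ModSite.Mod O) ⥤ DerivedCategory (ModSite.Mod O)}
    (adj : Rgamma I ⊣ Λ) {M : DerivedCategory (ModSite.Mod O)} (hM : IsDTors I M) : IsIso (adj.counit.app M) := by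
  obtain ⟨g, hg⟩ := (bijective_comp_counit hI adj M hM).2 (𝟙 M)
  refine ⟨g, (bijective_comp_counit hI adj M (isDTors_Rgamma I (Λ.obj M))).1 ?_, hg⟩
  have hg' : g ≫ adj.counit.app M = 𝟙 M := hg
  change (adj.counit.app M ≫ g) ≫ adj.counit.app M = 𝟙 _ ≫ adj.counit.app M
  rw [Category.assoc, hg']
  exact (Category.comp_id (adj.counit.app M)).trans (Category.id_comp (adj.counit.app M)).symm

end Lambda

section Top

variable {T : TopCat.{u}} {O : Sheaf (Opens.grothendieckTopology T) CommRingCat.{u}} {I : IdealFam O} [HasRgamma I]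
  {B : Set (Opens T)}

theorem isLeftAdjoint_Rgamma (hI : GoodD I) (hB : GoodCov I B) : (Rgamma I).IsLeftAdjoint := by
  let _ := rgCommShift I
  have := rg_isTriangulated I
  have : LocallySmall.{u} (DerivedCategory (ModSite.Mod O)) :=
    Groth.Agent.LoccohB.RpushTri.locallySmall_derivedCategory
      Groth.Agent.LoccohB.RpushTri.hasKInj
  have := fun ι : Type u => preservesCoproducts hI hB ι
  exact K180.DerAdj.isLeftAdjoint (Rgamma I)

end Top

end K920.Lam
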