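import Groth.Agent.FTors.K920.Lam
import Groth.Agent.FTors.K920.CohCpl
import Groth.Agent.FTors.K919.SerreQCT

/-!
# `RΓ'_𝔛` preserves coproducts and has a right adjoint on a locally noetherian formal scheme
-/

set_option autoImplicit false

universe u

open CategoryTheory CategoryTheory.Limits Opposite TopologicalSpace AlgebraicGeometry

attribute [local instance] HasDerivedCategory.standard

namespace K920.LamF

open FTors K920.Sec K920.Good K919.AffBasic K919.AffFlat K920.CoprodTors K920.Lam K920.CohCpl K920.TorsDer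

variable {𝔛 : FSch.Sys.{u}} (h𝔛 : 𝔛.IsLocNoethFormal)

theorem goodCov : GoodCov (T := (𝔛.X 0).carrier) (openIdealFam 𝔛 h𝔛.1) (affs 𝔛) where
  cov := HCSec.cov (T := (𝔛.X 0).carrier) (𝔛.X 0).isBasis_affineOpens
  good U hU := by
    have hU' : IsAffineOpen (𝔛.lvU h𝔛.1 0 U) := by
      rw [lvU_zero]
      exact hU
    have h3 : IsNoetherianRing (OU 𝔛 h𝔛.1 U) := isNoetherianRing_OU h𝔛 hU'
    obtain ⟨s, hs⟩ := (isNoetherianRing_iff_ideal_fg _).1 h3 (II 𝔛 h𝔛.1 U)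
    refine ⟨_, _, s.toList, isGoodOpen_openIdealFam h𝔛 hU', ?_⟩
    rw [← hs]
    congr 1
    ext t
    simp

theorem preservesCoproducts [FTors.HasRgammaT 𝔛 h𝔛.1] (ι : Type u) :
    PreservesColimitsOfShape (Discrete ι) (FTors.RgammaT 𝔛 h𝔛.1) :=
  CoprodTors.preservesCoproducts (goodD_openIdealFam h𝔛) (goodCov h𝔛) ι

theorem isLeftAdjoint [FTors.HasRgammaT 𝔛 h𝔛.1] : (FTors.RgammaT 𝔛 h𝔛.1).IsLeftAdjoint :=
  isLeftAdjoint_Rgamma (goodD_openIdealFam h𝔛) (goodCov h𝔛)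

theorem isDQCT_of_iso {E F : DerivedCategory (FSch.ModF 𝔛 h𝔛.1)} (e : E ≅ F) (h : FTors.IsDQCT 𝔛 h𝔛.1 E) :
    FTors.IsDQCT 𝔛 h𝔛.1 F := fun i => by
  have := K919.SerreQCT.isClosedUnderIso h𝔛
  exact ObjectProperty.prop_of_iso (FTors.IsQCT 𝔛 h𝔛.1)
    ((DerivedCategory.homologyFunctor (FSch.ModF 𝔛 h𝔛.1) i).mapIso e) (h i)

theorem isDTors_of_isDQCT {E : DerivedCategory (FSch.ModF 𝔛 h𝔛.1)} (h : FTors.IsDQCT 𝔛 h𝔛.1 E) :
    IsDTors (openIdealFam 𝔛 h𝔛.1) E := fun i => (h i).1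

theorem comp_isLeftAdjoint [FTors.HasRgammaT 𝔛 h𝔛.1] {D : Type*} [Category* D]
    (F : DerivedCategory (FSch.ModF 𝔛 h𝔛.1) ⥤ D) (hF : ((FTors.IsDQCT 𝔛 h𝔛.1).ι ⋙ F).IsLeftAdjoint) :
    ((FTors.IsDQCTilde 𝔛 h𝔛.1).ι ⋙ FTors.RgammaT 𝔛 h𝔛.1 ⋙ F).IsLeftAdjoint := by
  have h1 := isLeftAdjoint h𝔛
  let adj := Adjunction.ofIsLeftAdjoint (FTors.RgammaT 𝔛 h𝔛.1)
  refine isLeftAdjoint_comp (FTors.RgammaT 𝔛 h𝔛.1) (FTors.IsDQCTilde 𝔛 h𝔛.1) (FTors.IsDQCT 𝔛 h𝔛.1) F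
    (fun X hX => hX) _ adj (fun M hM => ?_) hF
  have h2 : IsIso (adj.counit.app M) := isIso_counit (goodD_openIdealFam h𝔛) adj (isDTors_of_isDQCT h𝔛 hM)
  exact isDQCT_of_iso h𝔛 (asIso (adj.counit.app M)).symm hM

end K920.LamF
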