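import Groth.Agent.FTors.K920.KillTors
import Groth.Agent.DerComp.K302.RHomCompl
import Groth.Agent.DerComp.K779.Local

/-!
# Local orthogonality

Over a good open `U`: morphisms `C|_U ⟶ G|_U` vanish if `C` is right orthogonal to complexes with torsion cohomology and
`G|_U` is complete with respect to generators of the ideal.
-/

set_option autoImplicit false

universe u

open CategoryTheory CategoryTheory.Limits Opposite TopologicalSpace Pretriangulated

attribute [local instance] HasDerivedCategory.standard

namespace K920.LocOrth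

open FTors K920.Sec K920.Good K920.KillTors K779.Tri K779.HU

attribute [local instance] K780.Away.preservesFiniteLimits_extZero K780.Away.preservesFiniteColimits_extZero

variable {T : TopCat.{u}} {O : Sheaf (Opens.grothendieckTopology T) CommRingCat.{u}}
  {I : IdealFam O} {U : Opens T} {𝔞 : Ideal (Rg O U)} {B : Set (Opens T)}

theorem eq_zero_of_good (hU : IsGoodOpen I U 𝔞 B) (l : List (Rg O U)) (hl : 𝔞 = Ideal.span {t | t ∈ l})
    (C G : DerivedCategory (ModSite.Mod O)) (hC : ∀ X, IsDTors I X → ∀ f : X ⟶ C, f = 0)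
    (hG : ∀ t ∈ l, Cpl (DerComp.GSec.ofSect O U t) ((restrD O U).obj G))
    (φ : (restrD O U).obj C ⟶ (restrD O U).obj G) : φ = 0 := by
  refine OrthTri.hom_eq_zero (l.map (DerComp.GSec.ofSect O U)) _ _ (fun s hs ↦ ?_) (fun X hX f ↦ ?_) φ
  · obtain ⟨t, ht, rfl⟩ := List.mem_map.1 hs
    exact hG t ht
  · have h1 := hC _ (isDTors_extZero hU l hl X hX)
      (((Groth.Agent.CohtopB.ExactDerAdj.derivedAdj (ModSite.extZeroAdj O U)).homEquiv X C).symm f)
    rw [Equiv.symm_apply_eq] at h1
    rw [h1, Adjunction.homEquiv_unit, Functor.map_zero, comp_zero]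

end K920.LocOrth
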