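import Groth.Agent.FTors.K920.OrthTri
import Groth.Agent.CohtopB.CoprodTriangle

/-!
# The right orthogonal of the objects on which finitely many scalars are nilpotent

* `Perp l Y`: `Hom(N, Y) = 0` for all `N` on which the scalars of `l` are nilpotent;
* `KZ l Y`: the iterated cone of `Y` by the scalars of `l` vanishes; `perp_iff_kz`;
* `Perp.sigma`: closure under coproducts;
* `isZero_of_koszul`: criterion for the vanishing of objects of `Perp l`.
-/

set_option autoImplicit false
set_option linter.unusedSectionVars false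

universe t v u w

open CategoryTheory CategoryTheory.Limits Pretriangulated ZeroObject

namespace K920.PK

open K779.Tri K920.OrthTri

variable {R : Type t} [CommRing R] {D : Type u} [Category.{v} D] [HasZeroObject D] [HasShift D ℤ] [Preadditive D]
  [∀ n : ℤ, (shiftFunctor D n).Additive] [Pretriangulated D] [Linear R D] [∀ n : ℤ, (shiftFunctor D n).Linear R]

/-- `Hom(N, Y) = 0` for all `N` on which the scalars of `l` are nilpotent. -/
def Perp (l : Set R) (Y : D) : Prop := ∀ X : D, Nil l X → ∀ f : X ⟶ Y, f = 0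

variable {l : Set R}

theorem Perp.of_iso {Y Y' : D} (h : Perp l Y) (e : Y ≅ Y') : Perp l Y' := fun X hX f => by
  have h1 := h X hX (f ≫ e.inv)
  rw [← cancel_mono e.inv, h1, zero_comp]

theorem Perp.shift {Y : D} (h : Perp l Y) (n : ℤ) : Perp l (Y⟦n⟧) := fun X hX f => by
  have h1 := h (X⟦-n⟧) (hX.shift (-n)) ((shEq R X Y n).symm f)
  exact ((shEq R X Y n).symm.map_eq_zero_iff).1 h1

theorem Perp.ext₂ {T : Triangle D} (hT : T ∈ distTriang D) (h1 : Perp l T.obj₁) (h3 : Perp l T.obj₃) :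
    Perp l T.obj₂ := fun X hX f => by
  obtain ⟨g, hg⟩ := Triangle.coyoneda_exact₂ _ hT f (h3 X hX _)
  rw [hg, h1 X hX g, zero_comp]

theorem Perp.ext₁ {T : Triangle D} (hT : T ∈ distTriang D) (h2 : Perp l T.obj₂) (h3 : Perp l T.obj₃) :
    Perp l T.obj₁ :=
  Perp.ext₂ (inv_rot_of_distTriang _ hT) (h3.shift (-1)) h2

theorem Perp.ext₃ {T : Triangle D} (hT : T ∈ distTriang D) (h1 : Perp l T.obj₁) (h2 : Perp l T.obj₂) :
    Perp l T.obj₃ :=
  Perp.ext₂ (rot_of_distTriang _ hT) h2 (h1.shift 1)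

theorem Perp.of_isZero {Y : D} (h : IsZero Y) : Perp l Y := fun _ _ _ => h.eq_of_tgt _ _

theorem Perp.of_dg {Y : D} (h : DG l Y) : Perp l Y := fun _ hX f => hX.hom_dg h f

theorem Perp.of_div {Y : D} {s : R} (hs : s ∈ l) (h : K779.Tri.Div s Y) : Perp l Y := Perp.of_dg (DG.div _ s hs h)

/-- The iterated cone of `Y` by the scalars of `l` is zero. -/
def KZ : List R → D → Prop
  | [], Y => IsZero Y
  | a :: l, Y => ∃ (C : D) (v : Y ⟶ C) (w : C ⟶ Y⟦(1 : ℤ)⟧), (Triangle.mk (a • 𝟙 Y) v w ∈ distTriang D) ∧ KZ l C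

theorem KZ.perp {l : List R} : ∀ {Y : D}, KZ l Y → Perp {s | s ∈ l} Y := by
  induction l with
  | nil =>
    intro Y h
    exact Perp.of_isZero h
  | cons a l ih =>
    rintro Y ⟨C, v, w, hT, hC⟩ X hX f
    obtain ⟨N, hN⟩ := hX a (by simp)
    have hX' : Nil {s | s ∈ l} X := hX.mono fun s hs => List.mem_cons_of_mem _ hs
    have key : ∀ (n : ℕ) (g : X ⟶ Y), a ^ n • g = 0 → g = 0 := by
      intro n
      induction n with
      | zero =>
        intro g hg
        rwa [pow_zero, one_smul] at hg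
      | succ n ihn =>
        intro g hg
        refine ihn g ?_
        set g' : X ⟶ Y := a ^ n • g with hg'
        have h1 : a • g' = 0 := by rw [hg', smul_smul, ← pow_succ', hg]
        -- `g'` factors through `C⟦-1⟧`
        have h2 : g' ≫ (a • 𝟙 Y) = 0 := by rw [Linear.comp_smul, Category.comp_id, h1]
        obtain ⟨k, hk⟩ := Triangle.coyoneda_exact₂ _ (inv_rot_of_distTriang _ hT) g' h2
        have h3 : k = 0 := (ih hC).shift (-1) X hX' k
        rw [hk, h3, zero_comp]
        rfl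
    refine key N f ?_
    calc a ^ N • f = (a ^ N • 𝟙 X) ≫ f := by rw [Linear.smul_comp, Category.id_comp]
      _ = 0 := by rw [hN, zero_comp]

theorem kz_of_perp_aux (l' : List R) : ∀ (l'' : List R) (K : D), Nil {s | s ∈ l''} K →
    Perp {s | s ∈ l' ∨ s ∈ l''} K → KZ l' K := by
  induction l' with
  | nil =>
    intro l'' K h2 h3
    change IsZero K
    rw [IsZero.iff_id_eq_zero]
    refine h3 K (h2.mono fun s hs => ?_) _
    rcases hs with hs | hs
    · exact absurd hs (by simp)
    · exact hs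
  | cons a l' ih =>
    intro l'' K h2 h3
    obtain ⟨C, v, w, hT⟩ := distinguished_cocone_triangle (a • 𝟙 K)
    refine ⟨C, v, w, hT, ih (a :: l'') C (fun s hs => ?_) ?_⟩
    · rcases List.mem_cons.1 hs with rfl | hs
      · exact ⟨2, sq_cone hT⟩
      · obtain ⟨N, hN⟩ := h2 s hs
        exact ⟨N + N, pow_cone hT hN⟩
    · have h4 : {s : R | s ∈ l' ∨ s ∈ a :: l''} = {s | s ∈ a :: l' ∨ s ∈ l''} := by
        ext s
        simp only [List.mem_cons, Set.mem_ofPred_eq]
        tauto
      rw [h4]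
      exact Perp.ext₃ hT h3 h3

theorem perp_iff_kz (l : List R) (Y : D) : Perp {s | s ∈ l} Y ↔ KZ l Y := by
  refine ⟨fun h => kz_of_perp_aux l [] Y (fun s hs => absurd hs (by simp)) ?_, KZ.perp⟩
  have h4 : {s : R | s ∈ l ∨ s ∈ ([] : List R)} = {s | s ∈ l} := by
    ext s
    simp
  rwa [h4]

/-- An object of `Perp l` vanishes if it satisfies a property which is preserved under cones of scalars and incompatible with
divisibility. -/
theorem isZero_of_koszul (W : R → D → Prop)
    (hcone : ∀ (s a : R) (K C : D) (v : K ⟶ C) (w : C ⟶ K⟦(1 : ℤ)⟧), (Triangle.mk (a • 𝟙 K) v w ∈ distTriang D) →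
      W s K → W s C)
    (hdiv : ∀ (s : R) (K : D), W s K → K779.Tri.Div s K → IsZero K) (l : List R) :
    ∀ K : D, KZ l K → (∀ s ∈ l, W s K) → IsZero K := by
  induction l with
  | nil =>
    intro K h _
    exact h
  | cons a l ih =>
    rintro K ⟨C, v, w, hT, hC⟩ h
    have h1 : IsZero C := ih C hC fun s hs => hcone s a K C v w hT (h s (List.mem_cons_of_mem _ hs))
    exact hdiv a K (h a (by simp)) (((Triangle.mk (a • 𝟙 K) v w).isZero₃_iff_isIso₁ hT).1 h1)

section Coproduct

theorem KZ.sigma {J : Type w} [∀ Y : J → D, HasCoproduct Y] (l : List R) :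
    ∀ Y : J → D, (∀ j, KZ l (Y j)) → KZ l (∐ Y) := by
  induction l with
  | nil =>
    intro Y h
    change IsZero (∐ Y)
    rw [IsZero.iff_id_eq_zero]
    exact Limits.Sigma.hom_ext _ _ fun j => (show IsZero (Y j) from h j).eq_of_src _ _
  | cons a l ih =>
    intro Y h
    choose C v w hT hC using h
    have h1 := Groth.Agent.CohtopB.CoprodTriangle.coproductTriangle_distinguished
      (fun j => Triangle.mk (a • 𝟙 (Y j)) (v j) (w j)) hT
    have h2 : Limits.Sigma.map (fun j => a • 𝟙 (Y j)) = a • 𝟙 (∐ Y) := by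
      refine Limits.Sigma.hom_ext _ _ fun j => ?_
      rw [Limits.Sigma.ι_map, Linear.smul_comp, Linear.comp_smul, Category.id_comp, Category.comp_id]
    refine ⟨∐ C, Limits.Sigma.map v, Limits.Sigma.desc fun i => w i ≫ (Limits.Sigma.ι Y i)⟦(1 : ℤ)⟧', ?_, ih C hC⟩
    rw [← h2]
    exact h1

theorem Perp.sigma {J : Type w} [∀ Y : J → D, HasCoproduct Y] (l : List R) (Y : J → D)
    (h : ∀ j, Perp {s | s ∈ l} (Y j)) : Perp {s | s ∈ l} (∐ Y) :=
  (KZ.sigma l Y fun j => (perp_iff_kz l _).1 (h j)).perp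

end Coproduct

end K920.PK
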