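import Groth.Agent.FTors.K920.Perp
import Groth.Agent.DerComp.K302.AwayTens
import Groth.Agent.DerComp.K302.SmulTens
import Groth.Agent.DerComp.K779.ExTr
import Groth.Agent.DerComp.K779.Local
import Groth.Agent.AlgSp.K290.DId

/-!
# Torsion and divisible objects of the derived category of a ringed site

For global sections `s` of `O`, `PT s X` means `X ⊗ O_s = 0`.  For a finite list `l` of global sections:
* `exists_rt`: a triangle `T → X → C` with `PT s T` for `s ∈ l` and `C` finitely built from divisible objects;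
* `isZero_of_perp`: `Perp l K` and `PT s K` for `s ∈ l` imply `K = 0`;
* `dg_of_perp`: `Perp l Y` implies `DG l Y`;
* `hom_eq_zero`: `Hom(T, Y) = 0` if `PT s T` for `s ∈ l` and `Perp l Y`.
-/

set_option autoImplicit false

universe u

open CategoryTheory CategoryTheory.Limits Opposite MonoidalCategory Pretriangulated

attribute [local instance] HasDerivedCategory.standard

namespace K920.PhiTor

open scoped ZeroObject

open K302.AwayTens K302.Loc K302.SmulTens K779.Tri K920.PK K920.OrthTri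

variable {C : Type u} [SmallCategory C] {J : GrothendieckTopology C} {O : Sheaf J CommRingCat.{u}}

section Modules

theorem isIso_smul_G (s : DerComp.GSec O) (M : ModSite.Mod O) : IsIso (s • 𝟙 ((G s).obj M)) := by
  have h := isIso_G_smulEnd s M
  have h2 : s • 𝟙 ((G s).obj M) = (G s).map (DerComp.smulEnd s M) := by
    rw [DerComp.smul_def, Category.comp_id]
    exact (smul_tensor s M (Os s)).symm
  rw [h2]
  exact h

open scoped K291.Mon in
/-- `(M ⊗ A) ⊗ B ≅ (M ⊗ B) ⊗ A`. -/
noncomputable def swapIso (M A B : ModSite.Mod O) : (M ⊗ A) ⊗ B ≅ (M ⊗ B) ⊗ A :=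
  α_ M A B ≪≫ whiskerLeftIso M (β_ A B) ≪≫ (α_ M B A).symm

theorem isZero_G_G (s t : DerComp.GSec O) (M : ModSite.Mod O) (h : IsZero ((G s).obj M)) :
    IsZero ((G s).obj ((G t).obj M)) := by
  have h1 : IsZero ((G t).obj ((G s).obj M)) := (G t).map_isZero h
  exact h1.of_iso (swapIso M (Os t) (Os s))

theorem isIso_G_eta (s : DerComp.GSec O) (M : ModSite.Mod O) : IsIso ((G s).map ((eta s).app M)) := by
  open scoped K291.Mon in
  have h1 : IsIso ((G s).map (M ◁ u s)) := by
    have h2 : IsIso ((G s).map ((DerComp.smulEnd s ((ModSite.tensorBi O).obj M |>.obj (ModSite.unit O))))) :=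
      isIso_G_smulEnd s _
    have h3 : DerComp.smulEnd s (((ModSite.tensorBi O).obj M).obj (ModSite.unit O)) =
        ((ModSite.tensorBi O).obj M).map (DerComp.smulEnd s (ModSite.unit O)) := by
      rw [← smul_tensor, smul_whisker]
    rw [h3] at h2
    have h4 : IsIso (((ModSite.tensorBi O).obj M ⋙ G s).map (DerComp.smulEnd s (ModSite.unit O))) := h2
    exact isIso_map_toLocAway s (ModSite.unit O) ((ModSite.tensorBi O).obj M ⋙ G s)
  open scoped K291.Mon in
  have h6 : (G s).map ((eta s).app M) = (G s).map (ρ_ M).inv ≫ (G s).map (M ◁ u s) :=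
    (G s).map_comp (ρ_ M).inv (M ◁ u s)
  open scoped K291.Mon in
  have h7 : IsIso ((G s).map (ρ_ M).inv ≫ (G s).map (M ◁ u s)) := by
    have : IsIso ((G s).map (ρ_ M).inv) := (G s).map_isIso (ρ_ M).inv
    exact IsIso.comp_isIso
  rw [h6]
  exact h7

end Modules

/-- `X ⊗ O_s = 0`. -/
def PT (s : DerComp.GSec O) (X : DerivedCategory (ModSite.Mod O)) : Prop := IsZero ((Φ s).obj X)

theorem PT.of_iso {s : DerComp.GSec O} {X Y : DerivedCategory (ModSite.Mod O)} (h : PT s X) (e : X ≅ Y) : PT s Y :=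
  IsZero.of_iso h ((Φ s).mapIso e.symm)

theorem PT.shift {s : DerComp.GSec O} {X : DerivedCategory (ModSite.Mod O)} (h : PT s X) (n : ℤ) : PT s (X⟦n⟧) :=
  ((shiftFunctor _ n).map_isZero h).of_iso (((Φ s).commShiftIso n).app X)

theorem PT.ext₂ {s : DerComp.GSec O} {T : Triangle (DerivedCategory (ModSite.Mod O))} (hT : T ∈ distTriang _)
    (h1 : PT s T.obj₁) (h3 : PT s T.obj₃) : PT s T.obj₂ := by
  have h := (Φ s).map_distinguished T hT
  exact (Triangle.isZero₂_of_isZero₁₃ _ h h1 h3)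

theorem PT.ext₃ {s : DerComp.GSec O} {T : Triangle (DerivedCategory (ModSite.Mod O))} (hT : T ∈ distTriang _)
    (h1 : PT s T.obj₁) (h2 : PT s T.obj₂) : PT s T.obj₃ :=
  PT.ext₂ (rot_of_distTriang _ hT) h2 (h1.shift 1)

theorem PT.ext₁ {s : DerComp.GSec O} {T : Triangle (DerivedCategory (ModSite.Mod O))} (hT : T ∈ distTriang _)
    (h2 : PT s T.obj₂) (h3 : PT s T.obj₃) : PT s T.obj₁ :=
  PT.ext₂ (inv_rot_of_distTriang _ hT) (h3.shift (-1)) h2

theorem div_phi (s : DerComp.GSec O) (X : DerivedCategory (ModSite.Mod O)) : K779.Tri.Div s ((Φ s).obj X) :=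
  K779.ExTr.div_mapDerivedCategory s (isIso_smul_G s) X

theorem isZero_of_pt_of_div {s : DerComp.GSec O} {X : DerivedCategory (ModSite.Mod O)} (h : PT s X)
    (hd : K779.Tri.Div s X) : IsZero X := by
  have := isIso_etaD_app s X hd
  exact IsZero.of_iso h (asIso ((etaD s).app X))

theorem pt_iff (s : DerComp.GSec O) (X : DerivedCategory (ModSite.Mod O)) :
    PT s X ↔ ∀ n : ℤ, IsZero ((G s).obj ((DerivedCategory.homologyFunctor _ n).obj X)) :=
  K290.DId.isZero_map_iff (G s) X

theorem pt_phi {s t : DerComp.GSec O} {X : DerivedCategory (ModSite.Mod O)} (h : PT s X) : PT s ((Φ t).obj X) := by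
  rw [pt_iff] at h ⊢
  intro n
  exact (isZero_G_G s t _ (h n)).of_iso ((G s).mapIso ((Groth.Agent.PerfA.ExactD.mapHomology (G t) n).app X))

theorem isIso_phi_eta (s : DerComp.GSec O) (X : DerivedCategory (ModSite.Mod O)) :
    IsIso ((Φ s).map ((etaD s).app X)) := by
  let K := DerivedCategory.Q.objPreimage X
  let e : DerivedCategory.Q.obj K ≅ X := DerivedCategory.Q.objObjPreimageIso X
  have h1 : IsIso ((Φ s).map ((etaD s).app (DerivedCategory.Q.obj K))) := by
    have h2 : (etaD s).app (DerivedCategory.Q.obj K) = DerivedCategory.Q.map ((etaCx s).app K) ≫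
        (G s).mapDerivedCategoryFactors.inv.app K := by
      rw [etaD, Localization.liftNatTrans_app]
      exact Category.id_comp _
    have h3 : IsIso (((G s).mapHomologicalComplex (ComplexShape.up ℤ)).map ((etaCx s).app K)) := by
      have : ∀ n, IsIso ((((G s).mapHomologicalComplex (ComplexShape.up ℤ)).map ((etaCx s).app K)).f n) :=
        fun n => isIso_G_eta s (K.X n)
      exact HomologicalComplex.Hom.isIso_of_components _
    have h4 : IsIso ((Φ s).map (DerivedCategory.Q.map ((etaCx s).app K))) :=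
      (NatIso.isIso_map_iff (G s).mapDerivedCategoryFactors ((etaCx s).app K)).2
        (by change IsIso (DerivedCategory.Q.map _); infer_instance)
    rw [h2, Functor.map_comp]
    infer_instance
  have h5 : (etaD s).app X = e.inv ≫ (etaD s).app (DerivedCategory.Q.obj K) ≫ (Φ s).map e.hom := by
    rw [Iso.eq_inv_comp]
    exact (etaD s).naturality e.hom
  rw [h5, Functor.map_comp, Functor.map_comp]
  infer_instance

/-- The fibre of `X ⟶ X ⊗ O_s`. -/
theorem exists_fib (s : DerComp.GSec O) (X : DerivedCategory (ModSite.Mod O)) :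
    ∃ (F : DerivedCategory (ModSite.Mod O)) (f : F ⟶ X) (h : (Φ s).obj X ⟶ F⟦(1 : ℤ)⟧),
      (Triangle.mk f ((etaD s).app X) h ∈ distTriang _) ∧ PT s F := by
  obtain ⟨F, f, h, hT⟩ := distinguished_cocone_triangle₁ ((etaD s).app X)
  refine ⟨F, f, h, hT, ?_⟩
  have h1 := (Φ s).map_distinguished _ hT
  have h2 := isIso_phi_eta s X
  exact (Triangle.isZero₁_iff_isIso₂ _ h1).2 h2

theorem exists_rt (l : List (DerComp.GSec O)) (X : DerivedCategory (ModSite.Mod O)) :
    ∃ (T Z : DerivedCategory (ModSite.Mod O)) (f : T ⟶ X) (g : X ⟶ Z) (h : Z ⟶ T⟦(1 : ℤ)⟧),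
      (Triangle.mk f g h ∈ distTriang _) ∧ (∀ s ∈ l, PT s T) ∧ DG {s | s ∈ l} Z := by
  induction l with
  | nil =>
    exact ⟨X, 0, 𝟙 X, 0, 0, contractible_distinguished X, by simp, DG.zero _ (isZero_zero _)⟩
  | cons a l ih =>
    obtain ⟨T₁, Z₁, f₁, g₁, h₁, hT₁, hP₁, hD₁⟩ := ih
    obtain ⟨T, f, h, hT, hP⟩ := exists_fib a T₁
    obtain ⟨Z, g, k, hZ⟩ := distinguished_cocone_triangle (f ≫ f₁)
    refine ⟨T, Z, f ≫ f₁, g, k, hZ, ?_, ?_⟩
    · intro s hs
      rcases List.mem_cons.1 hs with rfl | hs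
      · exact hP
      · exact PT.ext₁ hT (hP₁ s hs) (pt_phi (hP₁ s hs))
    · have oct := Triangulated.someOctahedron rfl hT hT₁ hZ
      refine DG.ext _ oct.mem ?_ (hD₁.mono fun s hs => List.mem_cons_of_mem _ hs)
      exact DG.div _ a (by simp) (div_phi a T₁)

theorem isZero_of_perp (l : List (DerComp.GSec O)) {K : DerivedCategory (ModSite.Mod O)} (h : Perp {s | s ∈ l} K)
    (hK : ∀ s ∈ l, PT s K) : IsZero K :=
  isZero_of_koszul (fun s K => PT s K) (fun _ _ _ _ _ _ hT h => PT.ext₃ hT h h)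
    (fun _ _ h hd => isZero_of_pt_of_div h hd) l K ((perp_iff_kz l K).1 h) hK

theorem dg_of_perp (l : List (DerComp.GSec O)) {Y : DerivedCategory (ModSite.Mod O)} (h : Perp {s | s ∈ l} Y) :
    DG {s | s ∈ l} Y := by
  obtain ⟨T, Z, f, g, k, hT, hP, hD⟩ := exists_rt l Y
  have h1 : Perp {s | s ∈ l} T := Perp.ext₁ hT h (Perp.of_dg hD)
  have h2 : IsZero T := isZero_of_perp l h1 hP
  have h3 : IsIso g := ((Triangle.mk f g k).isZero₁_iff_isIso₂ hT).1 h2
  exact hD.of_iso (asIso g).symm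

theorem hom_dg_eq_zero {l : Set (DerComp.GSec O)} {T Y : DerivedCategory (ModSite.Mod O)} (hT : ∀ s ∈ l, PT s T)
    (hY : DG l Y) (f : T ⟶ Y) : f = 0 := by
  induction hY with
  | zero Y h => exact h.eq_of_tgt _ _
  | div Y s hs h =>
    have h1 := isIso_etaD_app s Y h
    have h2 := (etaD s).naturality f
    have h3 : (Φ s).map f = 0 := (hT s hs : IsZero _).eq_of_src _ _
    rw [h3, comp_zero] at h2
    rw [← cancel_mono ((etaD s).app Y), zero_comp]
    exact h2
  | ext T' hT' h1 h3 ih1 ih3 =>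
    obtain ⟨g, hg⟩ := Triangle.coyoneda_exact₂ _ hT' f (ih3 _)
    rw [hg, ih1 g, zero_comp]

/-- `Hom(T, Y) = 0` for `T` torsion and `Y` in `Perp l`. -/
theorem hom_eq_zero (l : List (DerComp.GSec O)) {T Y : DerivedCategory (ModSite.Mod O)} (hT : ∀ s ∈ l, PT s T)
    (hY : Perp {s | s ∈ l} Y) (f : T ⟶ Y) : f = 0 :=
  hom_dg_eq_zero hT (dg_of_perp l hY) f

end K920.PhiTor
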