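import Groth.Agent.FTors.K920.TorPT
import Groth.Agent.FSch.K181.PQZInst
import Groth.Agent.FSch.K181.Colim
import Groth.Agent.ExtSupp.K787.Subterminal

/-!
# Modules on `U` whose extension by zero is cartesian on `U`
-/

set_option autoImplicit false

universe u

open CategoryTheory CategoryTheory.Limits Opposite TopologicalSpace

attribute [local instance] HasDerivedCategory.standard

namespace K920.QUM

open K181.Good K181.PQZInst K302.AwayTens K302.Loc

attribute [local instance] K780.Away.preservesFiniteLimits_extZero K780.Away.preservesFiniteColimits_extZero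

variable {T : TopCat.{u}} {R : Sheaf (Opens.grothendieckTopology T) CommRingCat.{u}} (𝔅 : GoodCov R) (U : Opens T)

/-- Modules on `U` with cartesian extension by zero. -/
def QU : ObjectProperty (ModSite.Mod (R.over U)) := fun M => Cart 𝔅 ((ModSite.extZero R U).obj M) U

variable {𝔅 U}

theorem QU.of_iso {M N : ModSite.Mod (R.over U)} (e : M ≅ N) (h : QU 𝔅 U M) : QU 𝔅 U N :=
  Cart.of_iso ((ModSite.extZero R U).mapIso e) h

theorem cart_of_isZero (hU : U ∈ 𝔅.B) {N : ModSite.Mod R} (h : IsZero N) : Cart 𝔅 N U := by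
  refine ZeroOn.cart hU fun V _ => ?_
  have h1 : 𝟙 N = 0 := h.eq_of_src _ _
  refine ⟨fun a b => ?_⟩
  have h2 : ∀ a : K29.RSec.Sec N V, a = 0 := fun a => by
    have h3 := congrArg (fun φ : N ⟶ N => (φ.val.app (op V)).hom a) h1
    exact h3
  rw [h2 a, h2 b]

theorem QU.five {F₁ F₂ F₃ F₄ F₅ : ModSite.Mod (R.over U)} (a : F₁ ⟶ F₂) (b : F₂ ⟶ F₃) (c : F₃ ⟶ F₄) (d : F₄ ⟶ F₅)
    (hab : a ≫ b = 0) (hbc : b ≫ c = 0) (hcd : c ≫ d = 0) (h2 : (ShortComplex.mk a b hab).Exact)
    (h3 : (ShortComplex.mk b c hbc).Exact) (h4 : (ShortComplex.mk c d hcd).Exact)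
    (k1 : QU 𝔅 U F₁) (k2 : QU 𝔅 U F₂) (k4 : QU 𝔅 U F₄) (k5 : QU 𝔅 U F₅) : QU 𝔅 U F₃ := by
  have z : ∀ {X Y Z : ModSite.Mod (R.over U)} (f : X ⟶ Y) (g : Y ⟶ Z) (_ : f ≫ g = 0),
      (ModSite.extZero R U).map f ≫ (ModSite.extZero R U).map g = 0 := fun f g w => by
    rw [← Functor.map_comp, w, Functor.map_zero]
  exact Cart.five ((ModSite.extZero R U).map a) ((ModSite.extZero R U).map b) ((ModSite.extZero R U).map c)
    ((ModSite.extZero R U).map d) (z _ _ hab) (z _ _ hbc) (z _ _ hcd) (h2.map (ModSite.extZero R U))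
    (h3.map (ModSite.extZero R U)) (h4.map (ModSite.extZero R U)) k1 k2 k4 k5

/-- Sequential colimits of cartesian sheaves are cartesian. -/
theorem cart_colim_nat {D : ℕ ⥤ ModSite.Mod R} {c : Cocone D} (hc : IsColimit c) (h : ∀ j, Cart 𝔅 (D.obj j) U) :
    Cart 𝔅 c.pt U := by
  let e : AsSmall.{u} ℕ ≌ ℕ := AsSmall.equiv.symm
  have : IsFiltered (AsSmall.{u} ℕ) := IsFiltered.of_equivalence AsSmall.equiv
  exact Cart.colim (hc.whiskerEquivalence e) fun j => h _

theorem QU.G {M : ModSite.Mod (R.over U)} (h : QU 𝔅 U M) (t : DerComp.GSec (R.over U)) : QU 𝔅 U ((G t).obj M) := by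
  let F : ModSite.Mod (R.over U) ⥤ ModSite.Mod R := (ModSite.tensorBi (R.over U)).obj M ⋙ ModSite.extZero R U
  have hc := isColimitOfPreserves F (colimit.isColimit (seq t (ModSite.unit (R.over U))))
  have h1 : Cart 𝔅 (F.obj (colimit (seq t (ModSite.unit (R.over U))))) U := by
    refine cart_colim_nat hc fun j => ?_
    have e : (((ModSite.tensorBi (R.over U)).obj M).obj (ModSite.unit (R.over U))) ≅ M := by
      open scoped K291.Mon in
      exact MonoidalCategory.rightUnitor M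
    exact QU.of_iso e.symm h
  exact Cart.of_iso (F.mapIso (iso t (ModSite.unit (R.over U))).symm) h1

theorem zeroOn_of_isZero {N : ModSite.Mod R} (h : IsZero ((ModSite.restr R U).obj N)) : ZeroOn R U N := by
  intro V hV
  have h1 : 𝟙 ((ModSite.restr R U).obj N) = 0 := h.eq_of_src _ _
  refine ⟨fun a b => ?_⟩
  have h2 : ∀ a : K29.RSec.Sec N V, a = 0 := fun a => by
    have h3 := congrArg (fun φ : (ModSite.restr R U).obj N ⟶ (ModSite.restr R U).obj N =>
      (φ.val.app (op (Over.mk (homOfLE hV)))).hom a) h1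
    exact h3
  rw [h2 a, h2 b]

/-- `M` is cartesian on `U` if and only if `M|_U` is in `QU`. -/
theorem qu_restr_iff (hU : U ∈ 𝔅.B) (M : ModSite.Mod R) : QU 𝔅 U ((ModSite.restr R U).obj M) ↔ Cart 𝔅 M U := by
  have hs : ∀ X : Opens T, Subsingleton (X ⟶ U) := fun X => inferInstance
  let c := (ModSite.extZeroAdj R U).counit.app M
  have hm : Mono c := K787.Subterminal.mono_counit U hs M
  have hi : IsIso ((ModSite.restr R U).map c) := K787.Subterminal.isIso_restr_counit U hs M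
  let S := ShortComplex.mk c (cokernel.π c) (cokernel.condition c)
  have hmS : Mono S.f := hm
  have heS : Epi S.g := inferInstanceAs (Epi (cokernel.π c))
  have hS : S.ShortExact := { exact := ShortComplex.exact_of_g_is_cokernel _ (cokernelIsCokernel c) }
  have hz : ZeroOn R U (cokernel c) := by
    refine zeroOn_of_isZero ?_
    have h1 : (ModSite.restr R U).map (cokernel.π c) = 0 := by
      rw [← cancel_epi ((ModSite.restr R U).map c), ← Functor.map_comp, cokernel.condition, Functor.map_zero, comp_zero]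
    have h2 : Epi ((ModSite.restr R U).map (cokernel.π c)) := inferInstance
    exact IsZero.of_epi_eq_zero ((ModSite.restr R U).map (cokernel.π c)) h1
  have hc : Cart 𝔅 (cokernel c) U := hz.cart hU
  exact ⟨fun h => Cart.ext hS h hc, fun h => Cart.ker (S := S) hS.exact h hc⟩

section Derived

open K779.HU K920.PhiTor Pretriangulated K779.Tri K920.PK K920.OrthTri

variable (𝔅 U) in
/-- `H^j X` is in `QU`. -/
def QH (j : ℤ) (X : DerivedCategory (ModSite.Mod (R.over U))) : Prop :=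
  QU 𝔅 U ((DerivedCategory.homologyFunctor _ j).obj X)

theorem QH.of_iso {j : ℤ} {X Y : DerivedCategory (ModSite.Mod (R.over U))} (h : QH 𝔅 U j X) (e : X ≅ Y) :
    QH 𝔅 U j Y :=
  QU.of_iso ((DerivedCategory.homologyFunctor _ j).mapIso e) h

theorem QH.phi {j : ℤ} {X : DerivedCategory (ModSite.Mod (R.over U))} (h : QH 𝔅 U j X)
    (t : DerComp.GSec (R.over U)) : QH 𝔅 U j ((Φ t).obj X) :=
  QU.of_iso ((Groth.Agent.PerfA.ExactD.mapHomology (G t) j).app X).symm (QU.G h t)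

theorem QH.fib {i j : ℤ} (hij : i + 1 = j) {Tr : Triangle (DerivedCategory (ModSite.Mod (R.over U)))}
    (hT : Tr ∈ distTriang _) (h1 : QH 𝔅 U i Tr.obj₂) (h2 : QH 𝔅 U i Tr.obj₃) (h3 : QH 𝔅 U j Tr.obj₂)
    (h4 : QH 𝔅 U j Tr.obj₃) : QH 𝔅 U j Tr.obj₁ :=
  QU.five _ _ _ _ (DerivedCategory.HomologySequence.comp_δ Tr hT i j hij)
    (DerivedCategory.HomologySequence.δ_comp Tr hT i j hij) _
    (DerivedCategory.HomologySequence.exact₃ Tr hT i j hij)
    (DerivedCategory.HomologySequence.exact₁ Tr hT i j hij)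
    (DerivedCategory.HomologySequence.exact₂ Tr hT j) h1 h2 h3 h4

theorem exists_rt (l : List (DerComp.GSec (R.over U))) (X : DerivedCategory (ModSite.Mod (R.over U))) :
    ∃ (A Z : DerivedCategory (ModSite.Mod (R.over U))) (f : A ⟶ X) (g : X ⟶ Z) (h : Z ⟶ A⟦(1 : ℤ)⟧),
      (Triangle.mk f g h ∈ distTriang _) ∧ (∀ s ∈ l, PT s A) ∧ DG {s | s ∈ l} Z ∧
        ∀ i : ℤ, (∀ j : ℤ, i - l.length ≤ j → j ≤ i → QH 𝔅 U j X) → QH 𝔅 U i A := by
  induction l with
  | nil =>
    open scoped ZeroObject in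
    exact ⟨X, 0, 𝟙 X, 0, 0, contractible_distinguished X, by simp, DG.zero _ (isZero_zero _), fun i h =>
      h i (by simp) le_rfl⟩
  | cons a l ih =>
    obtain ⟨T₁, Z₁, f₁, g₁, h₁, hT₁, hP₁, hD₁, hQ₁⟩ := ih
    obtain ⟨A, f, h, hT, hP⟩ := exists_fib a T₁
    obtain ⟨Z, g, k, hZ⟩ := distinguished_cocone_triangle (f ≫ f₁)
    refine ⟨A, Z, f ≫ f₁, g, k, hZ, ?_, ?_, ?_⟩
    · intro s hs
      rcases List.mem_cons.1 hs with rfl | hs
      · exact hP
      · exact PT.ext₁ hT (hP₁ s hs) (pt_phi (hP₁ s hs))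
    · have oct := Triangulated.someOctahedron rfl hT hT₁ hZ
      refine DG.ext _ oct.mem ?_ (hD₁.mono fun s hs => List.mem_cons_of_mem _ hs)
      exact DG.div _ a (by simp) (div_phi a T₁)
    · intro i hi
      have h1 : QH 𝔅 U (i - 1) T₁ := hQ₁ (i - 1) fun j hj hj' => hi j (by
        rw [List.length_cons]
        push_cast
        linarith) (by linarith)
      have h2 : QH 𝔅 U i T₁ := hQ₁ i fun j hj hj' => hi j (by
        rw [List.length_cons]
        push_cast
        linarith) hj'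
      exact QH.fib (sub_add_cancel i 1) hT h1 (h1.phi a) h2 (h2.phi a)

end Derived

section Abs

open Pretriangulated

variable {D : Type*} [Category* D] [HasZeroObject D] [HasShift D ℤ] [Preadditive D]
  [∀ n : ℤ, (shiftFunctor D n).Additive] [Pretriangulated D]

/-- Uniqueness of orthogonal decompositions. -/
theorem iso_of_orth {A A' E Z Z' : D} {a : A ⟶ E} {b : E ⟶ Z} {c : Z ⟶ A⟦(1 : ℤ)⟧}
    (hT : Triangle.mk a b c ∈ distTriang D) {a' : A' ⟶ E} {b' : E ⟶ Z'} {c' : Z' ⟶ A'⟦(1 : ℤ)⟧}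
    (hT' : Triangle.mk a' b' c' ∈ distTriang D) (h1 : ∀ f : A ⟶ Z', f = 0) (h2 : ∀ f : A' ⟶ Z, f = 0)
    (h3 : ∀ f : A ⟶ Z⟦(-1 : ℤ)⟧, f = 0) (h4 : ∀ f : A' ⟶ Z'⟦(-1 : ℤ)⟧, f = 0) : Nonempty (A ≅ A') := by
  obtain ⟨f, hf⟩ : ∃ f : A ⟶ A', a = f ≫ a' := Triangle.coyoneda_exact₂ _ hT' a (h1 _)
  obtain ⟨g, hg⟩ : ∃ g : A' ⟶ A, a' = g ≫ a := Triangle.coyoneda_exact₂ _ hT a' (h2 _)
  have h5 : ∀ k : A ⟶ A, k ≫ a = 0 → k = 0 := fun k hk => by
    obtain ⟨m, hm⟩ := Triangle.coyoneda_exact₂ _ (inv_rot_of_distTriang _ hT) k hk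
    rw [hm]
    rw [show m = 0 from h3 m]
    exact zero_comp
  have h6 : ∀ k : A' ⟶ A', k ≫ a' = 0 → k = 0 := fun k hk => by
    obtain ⟨m, hm⟩ := Triangle.coyoneda_exact₂ _ (inv_rot_of_distTriang _ hT') k hk
    rw [hm]
    rw [show m = 0 from h4 m]
    exact zero_comp
  refine ⟨⟨f, g, ?_, ?_⟩⟩
  · rw [← sub_eq_zero]
    apply h5
    rw [Preadditive.sub_comp, Category.assoc, ← hg, ← hf, Category.id_comp, sub_self]
  · rw [← sub_eq_zero]
    apply h6
    rw [Preadditive.sub_comp, Category.assoc, ← hf, ← hg, Category.id_comp, sub_self]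

end Abs

end K920.QUM
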