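import Groth.Agent.FTors.K920.ColimQ
import Groth.Agent.FTors.K919.IndCoh
import Groth.Agent.FTors.K919.QCTColim
import Groth.Agent.S6840

/-!
# `Q_t` preserves filtered colimits on noetherian formal schemes
-/

set_option autoImplicit false

universe u

open CategoryTheory CategoryTheory.Limits AlgebraicGeometry TopologicalSpace Opposite

noncomputable section

namespace K920.QtColim

open K29.RSec K29.RExact K919.QCT K919.IndCoh K920.TorsMod FTors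

variable {𝔛 : FSch.Sys.{u}} (h𝔛 : 𝔛.IsLocNoethFormal)

/-- Coherent torsion modules. -/
def cohT : ObjectProperty (FSch.ModF 𝔛 h𝔛.1) := fun C ↦ IsQCT 𝔛 h𝔛.1 C ∧ FSch.IsCohF 𝔛 h𝔛.1 C

/-- Maps out of quasi-coherent torsion modules are detected on coherent torsion modules. -/
theorem eq_zero_of_coh {M : FSch.ModF 𝔛 h𝔛.1} (hM : IsQCT 𝔛 h𝔛.1 M) {Z : FSch.ModF 𝔛 h𝔛.1}
    (h : M ⟶ Z) (hh : ∀ C, cohT h𝔛 C → ∀ f : C ⟶ M, f ≫ h = 0) : h = 0 := by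
  refine K29.RSec.hom_ext fun V s ↦ ?_
  refine eq_of_forall_nhds Z _ _ fun x hx ↦ ?_
  obtain ⟨G, i, hi, hG, W, hxW, hW, t, ht⟩ := exists_coh_sub h𝔛 hM s hx
  refine ⟨W, hxW, hW, ?_⟩
  have h1 : i ≫ h = 0 := hh G ⟨⟨isTors_of_mono i hM.1,
    K180.FSchCls.isQuasicoherent_of_isCohF h𝔛.1 hG⟩, hG⟩ i
  rw [← app_res, ← ht, ← app_comp, h1, ← app_res]
  rfl

include h𝔛 in
lemma isCompact_of_compactSpace [CompactSpace (𝔛.X 0)] (V : (𝔛.X 0).Opens) :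
    IsCompact (V : Set (𝔛.X 0)) :=
  isCompact_of_le h𝔛 (V := ⊤) isCompact_univ le_top

theorem preservesColimit_coyoneda [CompactSpace (𝔛.X 0)] {α : Type u} [Preorder α] [Nonempty α]
    [IsDirected α (· ≤ ·)] (D : α ⥤ FSch.ModF 𝔛 h𝔛.1) {C : FSch.ModF 𝔛 h𝔛.1}
    (hC : FSch.IsCohF 𝔛 h𝔛.1 C) : PreservesColimit D (coyoneda.obj (op C)) := by
  have hC' : SheafOfModules.IsFinitePresentation.{u} C := hC
  refine Groth.Agent.S6840.result (X := (𝔛.X 0).carrier) (𝔛.Osh h𝔛.1) ?_ D C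
  intro ι V hV
  have hc : IsCompact (Set.univ : Set (𝔛.X 0)) := isCompact_univ
  obtain ⟨t, ht⟩ := hc.elim_finite_subcover (fun i ↦ ((V i : Opens (𝔛.X 0)) : Set (𝔛.X 0)))
    (fun i ↦ (V i).isOpen) (fun x _ ↦ by
      have hx : x ∈ iSup V := by rw [hV]; trivial
      obtain ⟨i, hi⟩ := Opens.mem_iSup.1 hx
      exact Set.mem_iUnion.2 ⟨i, hi⟩)
  refine ⟨t, inferInstance, fun i ↦ V i.1, ?_, fun j ↦ ⟨j.1, le_rfl⟩, fun j j' ↦
    isCompact_of_compactSpace h𝔛 (V j.1 ⊓ V j'.1)⟩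
  refine top_unique fun x _ ↦ ?_
  obtain ⟨i, hi⟩ := Set.mem_iUnion.1 (ht (Set.mem_univ x))
  obtain ⟨hi1, hi2⟩ := Set.mem_iUnion.1 hi
  exact Opens.mem_iSup.2 ⟨⟨i, hi1⟩, hi2⟩

theorem main [CompactSpace (𝔛.X 0)] (Q : FSch.ModF 𝔛 h𝔛.1 ⥤ (IsQCT 𝔛 h𝔛.1).FullSubcategory)
    (adj : (IsQCT 𝔛 h𝔛.1).ι ⊣ Q) (J : Type u) [SmallCategory J] [IsFiltered J]
    (K : J ⥤ FSch.ModF 𝔛 h𝔛.1) : PreservesColimit K Q := by
  have hS := K919.SerreQCT.isWeakSerre_QCT h𝔛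
  obtain ⟨α, _, _, _, F, hF⟩ := IsFiltered.exists_directed J
  have hcl := K919.QCTColim.isClosedUnderColimits_QCT h𝔛 α
  have h1 : PreservesColimit (F ⋙ K) Q :=
    ColimQ.preservesColimit (IsQCT 𝔛 h𝔛.1) Q adj (F ⋙ K) (cohT h𝔛) (fun C hC ↦ hC.1)
      (fun C hC D ↦ preservesColimit_coyoneda h𝔛 D hC.2)
      (fun X hX Z h hh ↦ eq_zero_of_coh h𝔛 hX h hh)
      (fun g hX hY ↦ ObjectProperty.prop_kernel _ g hX hY)
  exact Functor.Final.preservesColimit_of_comp F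

end K920.QtColim
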