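import Groth.Agent.FTors.K920.QUM
import Groth.Agent.FTors.K920.LamF
import Groth.Agent.FSch.K181.Formal
import Groth.Agent.FSch.K181.Pres

/-!
# `RΓ'_𝔛` of a complex with quasi-coherent cohomology
-/

set_option autoImplicit false

universe u

open CategoryTheory CategoryTheory.Limits Opposite TopologicalSpace AlgebraicGeometry Pretriangulated

attribute [local instance] HasDerivedCategory.standard

namespace K920.RGamQC

open FTors K920.Sec K920.Good K920.TorsMod K920.TorsDer K920.PhiTor K920.PK K920.OrthTri K779.HU K920.TorPT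
  K920.CoprodTors K920.QUM K181.Good

section Local

variable {T : TopCat.{u}} {R : Sheaf (Opens.grothendieckTopology T) CommRingCat.{u}} {𝔅 : K181.Good.GoodCov R}
  {I : IdealFam R} [HasRgamma I] {U : Opens T} {𝔞 : Ideal (Rg R U)} {B : Set (Opens T)}

theorem qh_restr_iff (hB : U ∈ 𝔅.B) (E : DerivedCategory (ModSite.Mod R)) (j : ℤ) :
    QH 𝔅 U j ((restrD R U).obj E) ↔ Cart 𝔅 (SiteCmp.HMod E j) U := by
  rw [← qu_restr_iff hB]
  let e := (Groth.Agent.PerfA.ExactD.mapHomology (ModSite.restr R U) j).app E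
  exact ⟨fun h => QU.of_iso e h, fun h => QU.of_iso e.symm h⟩

theorem local_cart (hI : GoodD I) (hU : IsGoodOpen I U 𝔞 B) (l : List (Rg R U)) (hl : 𝔞 = Ideal.span {t | t ∈ l})
    (hB : U ∈ 𝔅.B) (E : DerivedCategory (ModSite.Mod R)) (i : ℤ)
    (hE : ∀ j : ℤ, i - l.length ≤ j → j ≤ i → Cart 𝔅 (SiteCmp.HMod E j) U) :
    Cart 𝔅 (SiteCmp.HMod ((Rgamma I).obj E) i) U := by
  obtain ⟨Z, b, c, hT⟩ := distinguished_cocone_triangle ((Rgammaε I).app E)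
  have hT1 := (restrD R U).map_distinguished _ hT
  obtain ⟨A, Z', f, g, h, hT2, hP, hD, hQ⟩ :=
    exists_rt (𝔅 := 𝔅) (l.map (DerComp.GSec.ofSect R U)) ((restrD R U).obj E)
  have hPA : ∀ s ∈ l.map (DerComp.GSec.ofSect R U), PT s ((restrD R U).obj ((Rgamma I).obj E)) := fun s hs => by
    obtain ⟨t, ht, rfl⟩ := List.mem_map.1 hs
    exact pt_restr hU (isDTors_Rgamma I E) (by rw [hl]; exact Ideal.subset_span ht)
  have hZ : Perp {s | s ∈ l.map (DerComp.GSec.ofSect R U)} ((restrD R U).obj Z) :=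
    perp_restr hU l hl Z (orth_of_triangle hI hT)
  have hZ' : Perp {s | s ∈ l.map (DerComp.GSec.ofSect R U)} Z' := Perp.of_dg hD
  obtain ⟨e⟩ : Nonempty ((restrD R U).obj ((Rgamma I).obj E) ≅ A) :=
    iso_of_orth hT1 hT2 (fun f => hom_eq_zero _ hPA hZ' f) (fun f => hom_eq_zero _ hP hZ f)
      (fun f => hom_eq_zero _ hPA (hZ.shift (-1)) f) (fun f => hom_eq_zero _ hP (hZ'.shift (-1)) f)
  rw [← qh_restr_iff hB]
  refine QH.of_iso (hQ i fun j hj hj' => ?_) e.symm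
  rw [List.length_map] at hj
  exact (qh_restr_iff hB E j).2 (hE j hj hj')

theorem exists_common (E : DerivedCategory (ModSite.Mod R))
    (hE : ∀ i : ℤ, SheafOfModules.IsQuasicoherent.{u} (SiteCmp.HMod E i)) (x : T) (i : ℤ) (n : ℕ) :
    ∃ (W : Opens T), x ∈ W ∧ ∀ V ∈ 𝔅.B, V ≤ W → ∀ j : ℤ, i - n ≤ j → j ≤ i → Cart 𝔅 (SiteCmp.HMod E j) V := by
  induction n with
  | zero =>
    obtain ⟨W, hxW, h⟩ := exists_cart_of_qc 𝔅 (SiteCmp.HMod E i) (hE i) x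
    refine ⟨W, hxW, fun V hV hVW j hj hj' => ?_⟩
    obtain rfl : i = j := le_antisymm (by simpa using hj) hj'
    exact h V hV hVW
  | succ n ih =>
    obtain ⟨W, hxW, h⟩ := ih
    obtain ⟨W', hxW', h'⟩ := exists_cart_of_qc 𝔅 (SiteCmp.HMod E (i - (n + 1))) (hE _) x
    refine ⟨W ⊓ W', ⟨hxW, hxW'⟩, fun V hV hVW j hj hj' => ?_⟩
    push_cast at hj
    rcases hj.eq_or_lt with h1 | h1
    · rw [← h1]
      exact h' V hV (hVW.trans inf_le_right)
    · exact h V hV (hVW.trans inf_le_left) j (by linarith [Int.add_one_le_of_lt h1]) hj'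

end Local

section Formal

open K919.AffBasic K919.AffFlat K181.Formal

variable {𝔛 : FSch.Sys.{u}} (h𝔛 : 𝔛.IsLocNoethFormal)

theorem main [FTors.HasRgammaT 𝔛 h𝔛.1] (E : DerivedCategory (FSch.ModF 𝔛 h𝔛.1))
    (hE : ∀ i : ℤ, SheafOfModules.IsQuasicoherent.{u} (SiteCmp.HMod E i)) :
    FTors.IsDQCT 𝔛 h𝔛.1 ((FTors.RgammaT 𝔛 h𝔛.1).obj E) := fun i => by
  refine ⟨isDTors_Rgamma _ E i, qc_of_cart (𝔅 := fcov h𝔛) fun x => ?_⟩
  obtain ⟨U₀, hU₀, hxU₀, -⟩ := Opens.isBasis_iff_nbhd.mp (𝔛.X 0).isBasis_affineOpens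
    (show x ∈ (⊤ : (𝔛.X 0).Opens) from trivial)
  have hU₀' : IsAffineOpen (𝔛.lvU h𝔛.1 0 U₀) := aff h𝔛 hU₀
  have h3 : IsNoetherianRing (OU 𝔛 h𝔛.1 U₀) := isNoetherianRing_OU h𝔛 hU₀'
  obtain ⟨s, hs⟩ := (isNoetherianRing_iff_ideal_fg _).1 h3 (II 𝔛 h𝔛.1 U₀)
  obtain ⟨W, hxW, hW⟩ := exists_common (𝔅 := fcov h𝔛) E hE x i s.toList.length
  obtain ⟨V, hV, hxV, hVW⟩ := (fcov h𝔛).exists_mem (show x ∈ W ⊓ U₀ from ⟨hxW, hxU₀⟩)
  refine ⟨V, hxV, ?_⟩
  have hV' : IsAffineOpen (𝔛.lvU h𝔛.1 0 V) := aff h𝔛 hV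
  have hle : V ≤ U₀ := hVW.trans inf_le_right
  refine local_cart (T := (𝔛.X 0).carrier) (goodD_openIdealFam h𝔛) (isGoodOpen_openIdealFam h𝔛 hV')
    (s.toList.map (rs 𝔛 h𝔛.1 hle)) ?_ hV E i fun j hj hj' => ?_
  · rw [← map_II h𝔛 hU₀' hV' hle, ← hs, Ideal.map_span]
    congr 1
    ext t
    simp
  · rw [List.length_map] at hj
    exact hW V hV (hVW.trans inf_le_left) j hj hj'

end Formal

end K920.RGamQC
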