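import Groth.Agent.DerComp.K302.LT
import Groth.Agent.PerfC.BifAdj
import Groth.Agent.KSix.K242.SiteBif
import Groth.Agent.ModSite.K291.Colim
import Groth.Prelude.Def_DerComp

/-!
# `- ⊗^L P` has a right adjoint, for every complex `P` of modules on a ringed site
-/

set_option autoImplicit false

universe u

open CategoryTheory CategoryTheory.Limits Opposite

attribute [local instance] HasDerivedCategory.standard

namespace K920.RHomEx

open K294.KFl K294.KFlat2

variable {C : Type u} [SmallCategory C] {J : GrothendieckTopology C} {O : Sheaf J CommRingCat.{u}}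

theorem isLeftAdjoint_tensorCx (P : CochainComplex (ModSite.Mod O) ℤ) :
    ((ModSite.tensorBi O).map₂CochainComplex.flip.obj P).IsLeftAdjoint :=
  have := K291.Colim.isGrothendieckAbelian O
  Groth.Agent.PerfC.BifAdj.isLeftAdjoint_flip_obj (ModSite.tensorBi O) P

/-- `RHom(P, -)` exists for every complex `P`. -/
theorem hasRHom (P : CochainComplex (ModSite.Mod O) ℤ) [ModSite.HasLTensorCx P] : DerComp.HasRHom P :=
  have := K291.Colim.isGrothendieckAbelian O
  Groth.Agent.Sga4h.TensRHom.isLeftAdjoint (ModSite.tensorBi O) (fun X => ModSite.IsKFlat X)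
    (fun f h₁ h₂ => isKFlat_mappingCone f h₁ h₂)
    (fun K => by
      obtain ⟨F', q, hF', -, hq, -⟩ := exists_resolution K
      exact ⟨F', q, hF', hq⟩)
    (fun K hK hK' M => K302.LT.acyclic_tensor K hK hK' M)
    Groth.Agent.Sga4h.TensRHom.hasKInj P (isLeftAdjoint_tensorCx P) (ModSite.LTensorCx P) ((ModSite.tensorCxQ P).totalLeftDerivedCounit DerivedCategory.Q
      (HomologicalComplex.quasiIso (ModSite.Mod O) (ComplexShape.up ℤ)))

end K920.RHomEx
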