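import Groth.Agent.FTors.K919.QCK29
import Groth.Agent.FTors.K919.Loc
import Mathlib.AlgebraicGeometry.AffineScheme

/-!
# Quasi-coherence on schemes in terms of sections over basic opens
-/

set_option autoImplicit false

universe u

open CategoryTheory CategoryTheory.Limits AlgebraicGeometry TopologicalSpace Opposite

namespace K920.SchQC

open K29.RSec K919.QCK29 K919.Loc

section General

variable {T : TopCat.{u}} {R : Sheaf (Opens.grothendieckTopology T) CommRingCat.{u}}
  {U : Opens T} {D : O R U → Opens T}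

/-- The opens `D a` behave like basic opens. -/
structure LocBasis (U : Opens T) (D : O R U → Opens T) : Prop where
  le : ∀ a, D a ≤ U
  isUnit : ∀ a, IsUnit (resO (le a) a)
  frac : ∀ a (c : O R (D a)), ∃ (n : ℕ) (g : O R U), resO (le a) g = resO (le a) a ^ n * c
  basis : ∀ (V : Opens T), V ≤ U → ∀ x ∈ V, ∃ a, x ∈ D a ∧ D a ≤ V

theorem gen_rel_of_locOn (hD : LocBasis U D) {M : Mod R}
    (hl : ∀ a : O R U, LocOn M a (D a) (hD.le a)) :
    ∃ (I K : Type u) (e : I → Sec M U) (r : K → I →₀ O R U), LG M U e ∧ LR M U e r := by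
  classical
  refine ⟨Sec M U, {r : Sec M U →₀ O R U // (r.sum fun s a => a • s) = 0}, fun s => s,
    fun r => r.1, ?_, fun k => k.2, ?_⟩
  · intro V hV t x hx
    obtain ⟨b, hxb, hb⟩ := hD.basis V hV x hx
    obtain ⟨N, s, hs⟩ := (hl b).2 (res M hb t)
    obtain ⟨w, hw⟩ := ((hD.isUnit b).pow N).exists_left_inv
    refine ⟨D b, hb, hxb, Finsupp.single s w, ?_⟩
    refine Eq.trans ?_ (Finsupp.sum_single_index (zero_smul _ (res M (hb.trans hV) s))).symm
    rw [hs, ← mul_smul, hw, one_smul]
  · intro V hV c hc x hx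
    obtain ⟨b, hxb, hb⟩ := hD.basis V hV x hx
    refine ⟨D b, hb, hxb, ?_⟩
    choose κ γ hγ using fun s => hD.frac b (resO hb (c s))
    let m := c.support.sup κ
    have hm : ∀ k ∈ c.support, κ k ≤ m := fun j hj => Finset.le_sup hj
    have hγ' : ∀ s ∈ c.support, resO (hD.le b) (b ^ (m - κ s) * γ s) =
        resO (hD.le b) b ^ m * resO hb (c s) := by
      intro s hs
      rw [map_mul, map_pow, hγ s, ← mul_assoc, ← pow_add, Nat.sub_add_cancel (hm s hs)]
    let f : Sec M U →₀ O R U :=
      ∑ s ∈ c.support, Finsupp.single s (b ^ (m - κ s) * γ s)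
    have hf : ∀ s, f s = if s ∈ c.support then b ^ (m - κ s) * γ s else 0 := by
      intro s
      change (∑ s ∈ c.support, Finsupp.single s (b ^ (m - κ s) * γ s)) s = _
      rw [Finsupp.finsetSum_apply]
      simp only [Finsupp.single_apply]
      rw [Finset.sum_ite_eq' c.support s]
    have hfs : (f.sum fun s a => a • s) = ∑ s ∈ c.support, (b ^ (m - κ s) * γ s) • s := by
      change Finsupp.linearCombination (O R U) (fun s : Sec M U => s)
        (∑ s ∈ c.support, Finsupp.single s (b ^ (m - κ s) * γ s)) = _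
      rw [map_sum]
      exact Finset.sum_congr rfl fun s _ => Finsupp.linearCombination_single _ _ _
    have hres : res M (hD.le b) (f.sum fun s a => a • s) = 0 := by
      rw [hfs, map_sum]
      have h1 := congrArg (fun z => resO (hD.le b) b ^ m • res M hb z) hc
      simp only [map_zero, smul_zero] at h1
      rw [← h1, Finsupp.sum, map_sum, Finset.smul_sum]
      refine Finset.sum_congr rfl fun s hs => ?_
      rw [res_smul, res_smul, res_res, ← mul_smul, hγ' s hs]
    obtain ⟨N, hN⟩ := (hl b).1 _ hres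
    obtain ⟨w, hw⟩ := ((hD.isUnit b).pow (N + m)).exists_left_inv
    let k₀ : {r : Sec M U →₀ O R U // (r.sum fun s a => a • s) = 0} := ⟨b ^ N • f, by
      have h3 := (Finsupp.linearCombination (O R U) (fun s : Sec M U => s)).map_smul (b ^ N) f
      exact h3.trans hN⟩
    refine ⟨Finsupp.single k₀ w, fun s => ?_⟩
    refine Eq.trans ?_ (Finsupp.sum_single_index (zero_mul _)).symm
    have h4 : (k₀.1 s : O R U) = b ^ N * f s := rfl
    rw [h4, map_mul, hf s]
    split_ifs with hs
    · rw [hγ' s hs, map_pow, ← mul_assoc (resO (hD.le b) b ^ N), ← pow_add, ← mul_assoc, hw,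
        one_mul]
    · rw [Finsupp.notMem_support_iff.1 hs, map_zero, map_zero, mul_zero, mul_zero]

end General

section Scheme

variable {X : Scheme.{u}}

/-- The basic open of a section. -/
def bo {V : X.Opens} (a : O X.sheaf V) : X.Opens := X.basicOpen (U := V) a

lemma bo_le {V : X.Opens} (a : O X.sheaf V) : bo a ≤ V := X.basicOpen_le (U := V) a

lemma locBasis {V : X.Opens} (hV : IsAffineOpen V) :
    LocBasis (T := X.carrier) (R := X.sheaf) V (fun a ↦ bo a) where
  le a := bo_le a
  isUnit a := X.toRingedSpace.isUnit_res_basicOpen (U := V) a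
  frac a c := by
    let a' : Γ(X, V) := a
    have h1 : IsLocalization.Away a' Γ(X, X.basicOpen a') := hV.isLocalization_basicOpen a'
    obtain ⟨n, g, hg⟩ := IsLocalization.Away.surj (S := Γ(X, X.basicOpen a')) a' c
    refine ⟨n, g, ?_⟩
    refine Eq.trans ?_ (hg.symm.trans (mul_comm _ _))
    rfl
  basis V' hV' x hx := by
    obtain ⟨a, ha, hxa⟩ := hV.exists_basicOpen_le (V := V') ⟨x, hx⟩ (hV' hx)
    exact ⟨a, hxa, ha⟩

/-- A module on a scheme is quasi-coherent if its sections over basic opens of small affine opens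
are localizations. -/
theorem isQuasicoherent_of_locOn (M : Mod X.sheaf)
    (h : ∀ x : X, ∃ V : X.Opens, x ∈ V ∧ IsAffineOpen V ∧ ∀ a : O X.sheaf V,
      LocOn M a (bo a) (bo_le a)) : SheafOfModules.IsQuasicoherent.{u} M := by
  refine isQuasicoherent_of M fun x ↦ ?_
  obtain ⟨V, hx, hV, hl⟩ := h x
  exact ⟨V, hx, gen_rel_of_locOn (locBasis hV) hl⟩

end Scheme

end K920.SchQC
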