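import Groth.Agent.FTors.K920.TorsMod
import Mathlib.Topology.Sheaves.SheafCondition.Sites
import Mathlib.Topology.Category.TopCat.Opens
import Mathlib.Algebra.Homology.QuasiIso

/-!
# Sections of sheaves of modules on a ringed space

`T : TopCat`, `O` a sheaf of commutative rings, `M : ModSite.Mod O`.
* `Rg O U`, `ModSite.sect M U`: sections; `ro`, `rm`: restrictions; `ap f U`: maps on sections;
* `eq_of_locally`, `glue`: sheaf property;
* `exact_iff_locally`: exactness of a short complex in terms of sections;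
* `quasiIso_of_locally`: quasi-isomorphisms in terms of sections.
-/

set_option autoImplicit false

universe u

open CategoryTheory CategoryTheory.Limits Opposite TopologicalSpace

namespace K920.Sec

open FTors Groth.Agent.Gaga.H976

variable {T : TopCat.{u}} {O : Sheaf (Opens.grothendieckTopology T) CommRingCat.{u}}

variable (O) in
/-- Sections of the sheaf of rings. -/
abbrev Rg (U : Opens T) : Type u := O.obj.obj (op U)

/-- Restriction of ring sections. -/
noncomputable def ro {U V : Opens T} (h : V ≤ U) : Rg O U →+* Rg O V := (O.obj.map (homOfLE h).op).hom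

lemma ro_ro {U V W : Opens T} (h : V ≤ U) (h' : W ≤ V) (t : Rg O U) :
    ro (O := O) h' (ro h t) = ro (h'.trans h) t := by
  have := ConcreteCategory.congr_hom (O.obj.map_comp (homOfLE h).op (homOfLE h').op) t
  exact this.symm

lemma ro_self {U : Opens T} (h : U ≤ U) (t : Rg O U) : ro (O := O) h t = t := by
  have h1 : (homOfLE h).op = 𝟙 (op U) := rfl
  change O.obj.map (homOfLE h).op t = t
  rw [h1, O.obj.map_id]
  rfl

/-- Restriction of sections of a module. -/
noncomputable def rm (M : ModSite.Mod O) {U V : Opens T} (h : V ≤ U) : ModSite.sect M U →+ ModSite.sect M V where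
  toFun s := FTors.res M (homOfLE h) s
  map_zero' := FTors.res_zero M _
  map_add' s t := FTors.res_add M _ s t

lemma rm_eq (M : ModSite.Mod O) {U V : Opens T} (h : V ≤ U) (s : ModSite.sect M U) :
    rm M h s = FTors.res M (homOfLE h) s := rfl

lemma res_eq_rm (M : ModSite.Mod O) {U V : Opens T} (g : V ⟶ U) (s : ModSite.sect M U) :
    FTors.res M g s = rm M (leOfHom g) s := rfl

lemma rm_smul (M : ModSite.Mod O) {U V : Opens T} (h : V ≤ U) (a : Rg O U)
    (s : ModSite.sect M U) : rm M h (a • s) = ro (O := O) h a • rm M h s :=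
  FTors.res_smul M (homOfLE h) a s

lemma rm_rm (M : ModSite.Mod O) {U V W : Opens T} (h : V ≤ U) (h' : W ≤ V)
    (t : ModSite.sect M U) : rm M h' (rm M h t) = rm M (h'.trans h) t :=
  (FTors.res_comp M (homOfLE h) (homOfLE h') t).symm

lemma rm_self (M : ModSite.Mod O) {U : Opens T} (h : U ≤ U) (t : ModSite.sect M U) :
    rm M h t = t :=
  FTors.res_id M t

/-- The map on sections of a morphism. -/
noncomputable def ap {M N : ModSite.Mod O} (f : M ⟶ N) (U : Opens T) :
    ModSite.sect M U →ₗ[Rg O U] ModSite.sect N U := (f.val.app (op U)).hom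

lemma ap_rm {M N : ModSite.Mod O} (f : M ⟶ N) {U V : Opens T} (h : V ≤ U) (s : ModSite.sect M U) :
    ap f V (rm M h s) = rm N h (ap f U s) :=
  (FTors.res_hom M f (homOfLE h) s).symm

lemma ap_comp {M N P : ModSite.Mod O} (f : M ⟶ N) (g : N ⟶ P) (U : Opens T)
    (s : ModSite.sect M U) : ap (f ≫ g) U s = ap g U (ap f U s) := rfl

lemma ap_id (M : ModSite.Mod O) (U : Opens T) (s : ModSite.sect M U) : ap (𝟙 M) U s = s := rfl

lemma ap_zero (M N : ModSite.Mod O) (U : Opens T) (s : ModSite.sect M U) :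
    ap (0 : M ⟶ N) U s = 0 := rfl

/-- Sections which agree locally are equal. -/
lemma eq_of_locally (M : ModSite.Mod O) {U : Opens T} {s t : ModSite.sect M U}
    (h : ∀ x ∈ U, ∃ (V : Opens T) (hV : V ≤ U), x ∈ V ∧ rm M hV s = rm M hV t) : s = t := by
  have hsep : Presheaf.IsSeparated (Opens.grothendieckTopology T) M.val.presheaf :=
    M.isSheaf.isSeparated
  refine hsep U (Sieve.generate fun V f => rm M (leOfHom f) s = rm M (leOfHom f) t) ?_ s t ?_
  · intro x hx
    obtain ⟨V, hV, hxV, e⟩ := h x hx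
    exact ⟨V, homOfLE hV, ⟨V, 𝟙 _, homOfLE hV, e, rfl⟩, hxV⟩
  · rintro V f ⟨W, g, k, hk, rfl⟩
    have h1 : rm M (leOfHom g) (rm M (leOfHom k) s) = rm M (leOfHom g) (rm M (leOfHom k) t) := by
      rw [hk]
    rw [rm_rm, rm_rm] at h1
    exact h1

lemma eq_zero_of_locally (M : ModSite.Mod O) {U : Opens T} {s : ModSite.sect M U}
    (h : ∀ x ∈ U, ∃ (V : Opens T) (hV : V ≤ U), x ∈ V ∧ rm M hV s = 0) : s = 0 :=
  eq_of_locally M fun x hx ↦ by
    obtain ⟨V, hV, hxV, e⟩ := h x hx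
    exact ⟨V, hV, hxV, by rw [e, map_zero]⟩

lemma epi_iff_locally {M N : ModSite.Mod O} (f : M ⟶ N) : Epi f ↔
    ∀ (U : Opens T) (t : ModSite.sect N U), ∀ x ∈ U, ∃ (V : Opens T) (hV : V ≤ U), x ∈ V ∧
      ∃ s : ModSite.sect M V, ap f V s = rm N hV t := by
  rw [TM0.epi_iff]
  constructor
  · intro h U t x hx
    obtain ⟨S, hS, h⟩ := h U t
    obtain ⟨V, g, hg, hxV⟩ := hS x hx
    obtain ⟨s, hs⟩ := h g hg
    exact ⟨V, leOfHom g, hxV, s, hs⟩
  · intro h U t
    refine ⟨Sieve.generate fun V f' => ∃ s : ModSite.sect M V, ap f V s = rm N (leOfHom f') t,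
      ?_, ?_⟩
    · intro x hx
      obtain ⟨V, hV, hxV, s, e⟩ := h U t x hx
      exact ⟨V, homOfLE hV, ⟨V, 𝟙 _, homOfLE hV, ⟨s, e⟩, rfl⟩, hxV⟩
    · rintro V f' ⟨W, g, k, ⟨s, hk⟩, rfl⟩
      refine ⟨rm M (leOfHom g) s, ?_⟩
      have h1 := ap_rm f (leOfHom g) s
      rw [hk, rm_rm] at h1
      exact h1

lemma mono_iff_injective {M N : ModSite.Mod O} (f : M ⟶ N) : Mono f ↔
    ∀ U : Opens T, Function.Injective (ap f U) := by
  rw [TM0.mono_iff]
  exact ⟨fun h U ↦ h (op U), fun h U ↦ h U.unop⟩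

/-- Sections killed by the second map of an exact sequence lift locally. -/
lemma exact_locally {S : ShortComplex (ModSite.Mod O)} (hS : S.Exact) {U : Opens T}
    (s : ModSite.sect S.X₂ U) (hs : ap S.g U s = 0) (x : T) (hx : x ∈ U) :
    ∃ (V : Opens T) (hV : V ≤ U), x ∈ V ∧ ∃ t : ModSite.sect S.X₁ V, ap S.f V t = rm S.X₂ hV s := by
  obtain ⟨k, hk⟩ := TM0.exists_kernel S.g (op U) s hs
  have he : Epi (kernel.lift S.g S.f S.zero) := hS.epi_kernelLift
  obtain ⟨V, hV, hxV, t, ht⟩ := (epi_iff_locally _).1 he U k x hx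
  refine ⟨V, hV, hxV, t, ?_⟩
  have h1 : ap S.f V t = ap (kernel.ι S.g) V (ap (kernel.lift S.g S.f S.zero) V t) := by
    rw [← ap_comp, kernel.lift_ι]
  rw [h1, ht, ap_rm]
  exact congrArg _ hk

/-- Exactness may be checked on sections, locally. -/
lemma exact_of_locally {S : ShortComplex (ModSite.Mod O)}
    (h : ∀ (U : Opens T) (s : ModSite.sect S.X₂ U), ap S.g U s = 0 → ∀ x ∈ U,
      ∃ (V : Opens T) (hV : V ≤ U), x ∈ V ∧ ∃ t : ModSite.sect S.X₁ V, ap S.f V t = rm S.X₂ hV s) :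
    S.Exact := by
  rw [S.exact_iff_epi_kernel_lift, epi_iff_locally]
  intro U k x hx
  have hk : ap S.g U (ap (kernel.ι S.g) U k) = 0 := by
    rw [← ap_comp, kernel.condition, ap_zero]
  obtain ⟨V, hV, hxV, t, ht⟩ := h U _ hk x hx
  refine ⟨V, hV, hxV, t, ?_⟩
  have hi := (mono_iff_injective (kernel.ι S.g)).1 inferInstance V
  apply hi
  rw [← ap_comp, kernel.lift_ι, ht, ap_rm]

/-- Gluing sections. -/
lemma glue (M : ModSite.Mod O) {U : Opens T} {ι : Type*} (V : ι → Opens T) (hV : ∀ i, V i ≤ U)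
    (hcov : ∀ x ∈ U, ∃ i, x ∈ V i) (s : ∀ i, ModSite.sect M (V i))
    (hs : ∀ i j, rm M (inf_le_left : V i ⊓ V j ≤ V i) (s i) =
      rm M (inf_le_right : V i ⊓ V j ≤ V j) (s j)) :
    ∃ t : ModSite.sect M U, ∀ i, rm M (hV i) t = s i := by
  have hM : Presieve.IsSheaf (Opens.grothendieckTopology T) (M.val.presheaf ⋙ forget Ab.{u}) :=
    (isSheaf_iff_isSheaf_of_type _ _).1
      ((Presheaf.isSheaf_iff_isSheaf_forget _ M.val.presheaf (forget Ab.{u})).1 M.isSheaf)
  -- the family on the sieve generated by the cover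
  let S : Sieve U := Sieve.generate fun W f => ∃ i, W = V i
  have hS : S ∈ Opens.grothendieckTopology T U := by
    intro x hx
    obtain ⟨i, hi⟩ := hcov x hx
    exact ⟨V i, homOfLE (hV i), ⟨V i, 𝟙 _, homOfLE (hV i), ⟨i, rfl⟩, rfl⟩, hi⟩
  have hS' : ∀ {W : Opens T} (f : W ⟶ U), S f → ∃ i, W ≤ V i := by
    rintro W f ⟨W', g, k, ⟨i, rfl⟩, rfl⟩
    exact ⟨i, leOfHom g⟩
  have key : ∀ {W : Opens T} (i j : ι) (hi : W ≤ V i) (hj : W ≤ V j),
      rm M hi (s i) = rm M hj (s j) := by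
    intro W i j hi hj
    have h := congrArg (rm M (le_inf hi hj)) (hs i j)
    rwa [rm_rm, rm_rm] at h
  let fam : Presieve.FamilyOfElements (M.val.presheaf ⋙ forget Ab.{u}) S.arrows :=
    fun W f hf => (rm M (hS' f hf).choose_spec (s (hS' f hf).choose) : ModSite.sect M W)
  have hcomp : fam.Compatible := by
    intro W₁ W₂ Z g₁ g₂ f₁ f₂ h₁ h₂ _
    change rm M (leOfHom g₁) (rm M _ _) = rm M (leOfHom g₂) (rm M _ _)
    rw [rm_rm, rm_rm]
    exact key _ _ _ _
  obtain ⟨t, ht, -⟩ := hM S hS fam hcomp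
  refine ⟨t, fun i ↦ ?_⟩
  have h1 : S (homOfLE (hV i)) := ⟨V i, 𝟙 _, homOfLE (hV i), ⟨i, rfl⟩, rfl⟩
  have h2 := ht (homOfLE (hV i)) h1
  have h3 : rm M (hV i) t = rm M (hS' _ h1).choose_spec (s (hS' _ h1).choose) := h2
  rw [h3, key _ i _ le_rfl, rm_self]

end K920.Sec
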