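import Groth.Agent.FTors.K920.Qis
import Groth.Agent.FTors.K920.TorAlg
import Groth.Agent.FCompl.K29.RExact

/-!
# Quasi-isomorphisms of complexes of sheaves of modules in terms of stalks
-/

set_option autoImplicit false

universe u

open CategoryTheory CategoryTheory.Limits Opposite TopologicalSpace

namespace K920.StQis

open FTors K920.Sec K920.Qis K29.RSec K29.RStalk K920.TorAlg

variable {T : TopCat.{u}} {O : Sheaf (Opens.grothendieckTopology T) CommRingCat.{u}}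
  {K L : CochainComplex (ModSite.Mod O) ℤ} (f : K ⟶ L)

lemma exists_surj [QuasiIso f] {i j : ℤ} (hij : i + 1 = j) (U : Opens T)
    (s : ModSite.sect (L.X j) U) (hs : dd L j (j + 1) U s = 0) (x : T) (hx : x ∈ U) :
    ∃ (V : Opens T) (hV : V ≤ U), x ∈ V ∧ ∃ (s' : ModSite.sect (K.X j) V)
      (z : ModSite.sect (L.X i) V), dd K j (j + 1) V s' = 0 ∧
        rm _ hV s = ap (f.f j) V s' + dd L i j V z := by
  obtain ⟨c, hc⟩ := exists_cycle rfl s hs
  have hiso : IsIso (HomologicalComplex.homologyMap f j) := by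
    rw [← quasiIsoAt_iff_isIso_homologyMap]
    exact (quasiIso_iff f).1 ‹_› j
  have hepi : Epi (HomologicalComplex.homologyMap f j) := inferInstance
  obtain ⟨V, hV, hxV, h', hh'⟩ := (epi_iff_locally _).1 hepi U (ap (L.homologyπ j) U c) x hx
  obtain ⟨W, hW, hxW, c', hc'⟩ := homologyπ_locally h' x hxV
  have h1 : ap (L.homologyπ j) W (rm _ (hW.trans hV) c -
      ap (HomologicalComplex.cyclesMap f j) W c') = 0 := by
    rw [map_sub, sub_eq_zero, ← ap_comp, ← HomologicalComplex.homologyπ_naturality, ap_comp, hc',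
      ap_rm, ap_rm, hh', rm_rm]
  obtain ⟨W', hW', hxW', z, hz⟩ := exists_of_homologyπ_eq_zero hij _ h1 x hxW
  refine ⟨W', hW'.trans (hW.trans hV), hxW', ap (K.iCycles j) W' (rm _ hW' c'), z,
    dd_iCycles _, ?_⟩
  have hA : ap (L.iCycles j) W' (rm _ hW' (rm _ (hW.trans hV) c)) =
      rm _ (hW'.trans (hW.trans hV)) s := by
    rw [rm_rm, ap_rm, hc]
  have hB : ap (L.iCycles j) W' (rm _ hW' (ap (HomologicalComplex.cyclesMap f j) W c')) =
      ap (f.f j) W' (ap (K.iCycles j) W' (rm _ hW' c')) := by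
    rw [← ap_rm, ← ap_comp, HomologicalComplex.cyclesMap_i, ap_comp]
  rw [hz, ← ap_rm, map_sub (rm (L.cycles j) hW'), map_sub (ap (L.iCycles j) W'), hA, hB]
  abel

lemma exists_inj [QuasiIso f] {i j : ℤ} (hij : i + 1 = j) (U : Opens T)
    (s : ModSite.sect (K.X j) U) (z : ModSite.sect (L.X i) U) (hs : dd K j (j + 1) U s = 0)
    (hz : ap (f.f j) U s = dd L i j U z) (x : T) (hx : x ∈ U) :
    ∃ (V : Opens T) (hV : V ≤ U), x ∈ V ∧ ∃ w : ModSite.sect (K.X i) V,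
      rm _ hV s = dd K i j V w := by
  obtain ⟨c, hc⟩ := exists_cycle rfl s hs
  have hiso : IsIso (HomologicalComplex.homologyMap f j) := by
    rw [← quasiIsoAt_iff_isIso_homologyMap]
    exact (quasiIso_iff f).1 ‹_› j
  have hmono : Mono (HomologicalComplex.homologyMap f j) := inferInstance
  have h1 : ap (K.homologyπ j) U c = 0 := by
    refine (Sec.mono_iff_injective _).1 hmono U ?_
    rw [map_zero, ← ap_comp, HomologicalComplex.homologyπ_naturality, ap_comp]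
    refine homologyπ_eq_zero _ z ?_
    rw [← ap_comp, HomologicalComplex.cyclesMap_i, ap_comp, hc, hz]
  obtain ⟨V, hV, hxV, w, hw⟩ := exists_of_homologyπ_eq_zero hij _ h1 x hx
  exact ⟨V, hV, hxV, w, by rw [hw, hc]⟩

/-- The differential on stalks. -/
noncomputable abbrev dS (K : CochainComplex (ModSite.Mod O) ℤ) (x : T) (i j : ℤ) :
    St (K.X i) x →ₗ[StO O x] St (K.X j) x := stMap (K.d i j) x

/-- The map on stalks. -/
noncomputable abbrev uS (x : T) (i : ℤ) : St (K.X i) x →ₗ[StO O x] St (L.X i) x := stMap (f.f i) x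

lemma dS_dS (x : T) (i j k : ℤ) (s : St (K.X i) x) : dS K x j k (dS K x i j s) = 0 := by
  rw [dS, dS, ← stMap_comp_apply, K.d_comp_d, stMap_zero]
  rfl

lemma uS_dS (x : T) (i j : ℤ) (s : St (K.X i) x) :
    uS f x j (dS K x i j s) = dS L x i j (uS f x i s) := by
  rw [uS, dS, ← stMap_comp_apply, ← f.comm, stMap_comp_apply]

theorem surj_of_quasiIso [QuasiIso f] (x : T) : Surj (dS K x) (dS L x) (uS f x) ⊥ := by
  intro i j hij s _ hs
  obtain ⟨V, hV, s, rfl⟩ := exists_gm (L.X j) x s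
  rw [dS, stMap_gm] at hs
  obtain ⟨W, hxW, hW, e⟩ := exists_res_eq_zero (L.X (j + 1)) hV hs
  have e' : dd L j (j + 1) W (rm _ hW s) = 0 := (ap_rm (L.d j (j + 1)) hW s).trans e
  obtain ⟨W', hW', hxW', s', z, h1, h2⟩ := exists_surj f hij W _ e' x hxW
  refine ⟨gm (K.X j) x W' hxW' s', gm (L.X i) x W' hxW' z, Tor.bot, ?_, Tor.bot, ?_⟩
  · rw [dS, stMap_gm]
    exact (congrArg (gm (K.X (j + 1)) x W' hxW') h1).trans (map_zero _)
  · rw [uS, dS, stMap_gm, stMap_gm, ← gm_res (L.X j) x (hW'.trans hW) hxW', ← map_add]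
    refine congrArg (gm (L.X j) x W' hxW') ?_
    rw [rm_rm] at h2
    exact h2

theorem inj_of_quasiIso [QuasiIso f] (x : T) : Inj (dS K x) (dS L x) (uS f x) ⊥ := by
  intro i j hij s z _ hs _ hsz
  obtain ⟨V, hV, s, rfl⟩ := exists_gm (K.X j) x s
  obtain ⟨V', hV', z, rfl⟩ := exists_gm (L.X i) x z
  rw [dS, stMap_gm] at hs
  obtain ⟨W, hxW, hW, e⟩ := exists_res_eq_zero (K.X (j + 1)) hV hs
  have e' : dd K j (j + 1) W (rm _ hW s) = 0 := (ap_rm (K.d j (j + 1)) hW s).trans e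
  rw [uS, dS, stMap_gm, stMap_gm, ← gm_res (L.X j) x (inf_le_left.trans hW : W ⊓ V' ≤ V) ⟨hxW, hV'⟩,
    ← gm_res (L.X j) x (inf_le_right : W ⊓ V' ≤ V') ⟨hxW, hV'⟩] at hsz
  obtain ⟨W₁, hxW₁, hW₁, e₁⟩ := exists_res_eq (L.X j) _ hsz
  have e₂ : ap (f.f j) W₁ (rm _ (hW₁.trans inf_le_left) (rm _ hW s)) =
      dd L i j W₁ (rm _ (hW₁.trans inf_le_right) z) := by
    rw [rm_rm, dd, ap_rm, ap_rm]
    rw [res_res, res_res] at e₁
    exact e₁
  obtain ⟨W₂, hW₂, hxW₂, w, hw⟩ := exists_inj f hij W₁ _ _ (by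
    rw [dd, ap_rm]
    exact (congrArg _ e').trans (map_zero _)) e₂ x hxW₁
  refine ⟨gm (K.X i) x W₂ hxW₂ w, Tor.bot, ?_⟩
  rw [dS, stMap_gm, ← gm_res (K.X j) x (hW₂.trans (hW₁.trans (inf_le_left.trans hW))) hxW₂]
  refine congrArg (gm (K.X j) x W₂ hxW₂) ?_
  rw [rm_rm, rm_rm] at hw
  exact hw

/-- A morphism of complexes which is bijective on the cohomology of all stalks (elementwise) is a
quasi-isomorphism. -/
theorem quasiIso_of_stalks
    (hsurj : ∀ x (i j : ℤ), i + 1 = j → ∀ s : St (L.X j) x, dS L x j (j + 1) s = 0 →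
      ∃ (s' : St (K.X j) x) (z : St (L.X i) x), dS K x j (j + 1) s' = 0 ∧
        s = uS f x j s' + dS L x i j z)
    (hinj : ∀ x (i j : ℤ), i + 1 = j → ∀ (s : St (K.X j) x) (z : St (L.X i) x),
      dS K x j (j + 1) s = 0 → uS f x j s = dS L x i j z → ∃ w : St (K.X i) x, s = dS K x i j w) :
    QuasiIso f := by
  refine quasiIso_of_locally f ?_ ?_
  · intro i j hij U s hs x hx
    obtain ⟨s', z, h1, h2⟩ := hsurj x i j hij (gm (L.X j) x U hx s) (by
      rw [dS, stMap_gm]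
      exact (congrArg (gm (L.X (j + 1)) x U hx) hs).trans (map_zero _))
    obtain ⟨V, hV, s', rfl⟩ := exists_gm (K.X j) x s'
    obtain ⟨V', hV', z, rfl⟩ := exists_gm (L.X i) x z
    rw [dS, stMap_gm] at h1
    obtain ⟨W, hxW, hW, e⟩ := exists_res_eq_zero (K.X (j + 1)) hV h1
    let W₀ := U ⊓ W ⊓ V'
    have hxW₀ : x ∈ W₀ := ⟨⟨hx, hxW⟩, hV'⟩
    have l1 : W₀ ≤ U := inf_le_left.trans inf_le_left
    have l2 : W₀ ≤ W := inf_le_left.trans inf_le_right
    have l3 : W₀ ≤ V' := inf_le_right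
    rw [uS, dS, stMap_gm, stMap_gm, ← gm_res (L.X j) x l1 hxW₀,
      ← gm_res (L.X j) x (l2.trans hW) hxW₀, ← gm_res (L.X j) x l3 hxW₀, ← map_add] at h2
    obtain ⟨W₁, hxW₁, hW₁, e₁⟩ := exists_res_eq (L.X j) _ h2
    refine ⟨W₁, hW₁.trans l1, hxW₁, rm _ (hW₁.trans (l2.trans hW)) s',
      rm _ (hW₁.trans l3) z, ?_, ?_⟩
    · have e2 : rm (K.X (j + 1)) (hW₁.trans l2) (rm _ hW (dd K j (j + 1) V s')) = 0 :=
        (congrArg (rm (K.X (j + 1)) (hW₁.trans l2)) e).trans (map_zero _)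
      rw [rm_rm] at e2
      exact (ap_rm (K.d j (j + 1)) _ s').trans e2
    · rw [map_add, res_res, res_res, res_res] at e₁
      rw [dd, ap_rm, ap_rm]
      exact e₁
  · intro i j hij U s z hs hz x hx
    obtain ⟨w, hw⟩ := hinj x i j hij (gm (K.X j) x U hx s) (gm (L.X i) x U hx z) (by
      rw [dS, stMap_gm]
      exact (congrArg (gm (K.X (j + 1)) x U hx) hs).trans (map_zero _)) (by
      rw [uS, dS, stMap_gm, stMap_gm]
      exact congrArg (gm (L.X j) x U hx) hz)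
    obtain ⟨V, hV, w, rfl⟩ := exists_gm (K.X i) x w
    rw [dS, stMap_gm, ← gm_res (K.X j) x (inf_le_left : U ⊓ V ≤ U) ⟨hx, hV⟩,
      ← gm_res (K.X j) x (inf_le_right : U ⊓ V ≤ V) ⟨hx, hV⟩] at hw
    obtain ⟨W₁, hxW₁, hW₁, e₁⟩ := exists_res_eq (K.X j) _ hw
    refine ⟨W₁, hW₁.trans inf_le_left, hxW₁, rm _ (hW₁.trans inf_le_right) w, ?_⟩
    rw [res_res, res_res] at e₁
    rw [dd, ap_rm]
    exact e₁

end K920.StQis
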