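import Groth.Agent.SiteCmp.K578.Der
import Groth.Prelude.Def_FTors2

/-!
# The derived torsion functor `RΓ_I` on a small ringed site
-/

set_option autoImplicit false

universe u

open CategoryTheory CategoryTheory.Limits Opposite Pretriangulated

attribute [local instance] HasDerivedCategory.standard

namespace K920.TorsDer

open Groth.Agent.Dcoh.DerAbs Groth.Agent.Dcoh.DerHo Groth.Agent.Dcoh.DerAdj
  Groth.Agent.Dcoh.DerComp FTors K578.Der

variable {C : Type u} [SmallCategory C] {J : GrothendieckTopology C}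
  {O : Sheaf J CommRingCat.{u}} (I : IdealFam O)

/-- The unbounded `RΓ_I` exists. -/
theorem hasRgamma : HasRgamma I := hasRightDerivedFunctor (hasKInj O) _

instance isTriangulated_gammaKh : (gammaKh I).IsTriangulated := by
  have h1 : ((gamma O I).mapHomotopyCategory (ComplexShape.up ℤ)).IsTriangulated := inferInstance
  have h2 : (DerivedCategory.Qh (C := ModSite.Mod O)).IsTriangulated := inferInstance
  exact Functor.IsTriangulated.instComp _ _

variable [HasRgamma I]

/-- The unit of `RΓ_I`. -/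
noncomputable def rgUnit : gammaKh I ⟶ DerivedCategory.Qh ⋙ Rgamma I :=
  (gammaKh I).totalRightDerivedUnit DerivedCategory.Qh (qis (ModSite.Mod O))

instance : (Rgamma I).IsRightDerivedFunctor (rgUnit I) (qis (ModSite.Mod O)) := by
  dsimp [rgUnit]
  infer_instance

/-- `RΓ_I` commutes with shifts. -/
@[instance_reducible]
noncomputable def rgCommShift : (Rgamma I).CommShift ℤ :=
  Groth.Agent.Dcoh.DerHo.commShift (hasKInj O) (Rgamma I) (rgUnit I)

/-- `RΓ_I` is a triangulated functor. -/
lemma rg_isTriangulated :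
    letI := rgCommShift I
    (Rgamma I).IsTriangulated :=
  Groth.Agent.Dcoh.DerHo.isTriangulated (hasKInj O) (Rgamma I) (rgUnit I)

/-- The unit of `RΓ_I` on complexes: `Q (Γ_I K) ⟶ RΓ_I (Q K)`. -/
noncomputable def rgUnitQ :
    (gamma O I).mapHomologicalComplex (ComplexShape.up ℤ) ⋙ DerivedCategory.Q ⟶
      DerivedCategory.Q ⋙ Rgamma I :=
  unitQ (gamma O I) (Rgamma I) (rgUnit I)

lemma isIso_rgUnit_app (K : CochainComplex (ModSite.Mod O) ℤ) (hK : K.IsKInjective) :
    IsIso ((rgUnit I).app ((HomotopyCategory.quotient _ _).obj K)) :=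
  isIso_unit_app' (hasKInj O) (Rgamma I) (rgUnit I) K hK

lemma isIso_rgUnitQ_app (K : CochainComplex (ModSite.Mod O) ℤ) (hK : K.IsKInjective) :
    IsIso ((rgUnitQ I).app K) :=
  isIso_unitQ_app _ _ _ _ (isIso_rgUnit_app I K hK)

/-- The inclusion `Γ_I K ⟶ K` of complexes. -/
noncomputable def incl (K : CochainComplex (ModSite.Mod O) ℤ) :
    ((gamma O I).mapHomologicalComplex (ComplexShape.up ℤ)).obj K ⟶ K :=
  (NatTrans.mapHomologicalComplex (gammaι I) (ComplexShape.up ℤ)).app K ≫
    (Functor.mapHomologicalComplexIdIso (ModSite.Mod O) (ComplexShape.up ℤ)).hom.app K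

omit [HasRgamma I] in
@[simp] lemma incl_f (K : CochainComplex (ModSite.Mod O) ℤ) (n : ℤ) :
    (incl I K).f n = (gammaι I).app (K.X n) := by
  simp [incl, Functor.mapHomologicalComplexIdIso]
  exact Category.comp_id _

omit [HasRgamma I] in
@[reassoc]
lemma incl_naturality {K L : CochainComplex (ModSite.Mod O) ℤ} (f : K ⟶ L) :
    ((gamma O I).mapHomologicalComplex (ComplexShape.up ℤ)).map f ≫ incl I L = incl I K ≫ f := by
  ext n : 1
  simp only [HomologicalComplex.comp_f, incl_f, Functor.mapHomologicalComplex_map_f]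
  exact (gammaι I).naturality (f.f n)

lemma comp_aux {E : Type*} [Category E] {X₁ X₂ X₃ X₄ X₅ X₆ : E} {a : X₁ ⟶ X₂} {b : X₂ ⟶ X₃}
    {c : X₃ ⟶ X₄} {e : X₄ ⟶ X₅} {c' : X₃ ⟶ X₆} {e' : X₆ ⟶ X₅} {f : X₂ ⟶ X₆} {g : X₁ ⟶ X₅}
    (h₁ : c ≫ e = c' ≫ e') (h₂ : b ≫ c' = f) (h₃ : a ≫ f ≫ e' = g) : (a ≫ b ≫ c) ≫ e = g := by
  rw [Category.assoc, Category.assoc, h₁, reassoc_of% h₂, h₃]

/-- The canonical map `RΓ_I (Q K) ⟶ Q K`, precomposed with the unit, is the inclusion. -/
@[reassoc]
lemma rgUnitQ_ε (K : CochainComplex (ModSite.Mod O) ℤ) :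
    (rgUnitQ I).app K ≫ (Rgammaε I).app (DerivedCategory.Q.obj K) =
      DerivedCategory.Q.map (incl I K) := by
  have h1 := (Rgamma I).rightDerived_fac_app (rgUnit I) (qis (ModSite.Mod O))
    (𝟭 (DerivedCategory (ModSite.Mod O))) (gammaτ I ≫ (Functor.rightUnitor _).inv)
    ((HomotopyCategory.quotient (ModSite.Mod O) (ComplexShape.up ℤ)).obj K)
  have h2 : (gammaτ I).app ((HomotopyCategory.quotient (ModSite.Mod O) (ComplexShape.up ℤ)).obj K) =
      DerivedCategory.Qh.map ((HomotopyCategory.quotient (ModSite.Mod O) (ComplexShape.up ℤ)).map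
        (incl I K)) := by
    have h3 : (gammaτ I).app ((HomotopyCategory.quotient (ModSite.Mod O) (ComplexShape.up ℤ)).obj K)
      = (gammaτ0 I).app K := rfl
    rw [h3]
    have h4 : DerivedCategory.Qh.map
        (((gamma O I).mapHomotopyCategoryFactors (ComplexShape.up ℤ)).hom.app K) = 𝟙 _ :=
      DerivedCategory.Qh.map_id _
    simp [gammaτ0, incl]
    exact (congrArg (fun t ↦ t ≫ _) h4).trans (Category.id_comp _)
  have h6 : (rgUnit I).app ((HomotopyCategory.quotient (ModSite.Mod O) (ComplexShape.up ℤ)).obj K) ≫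
      (Rgammaε I).app (DerivedCategory.Qh.obj
        ((HomotopyCategory.quotient (ModSite.Mod O) (ComplexShape.up ℤ)).obj K)) =
      DerivedCategory.Qh.map ((HomotopyCategory.quotient (ModSite.Mod O) (ComplexShape.up ℤ)).map
        (incl I K)) := by
    refine h1.trans ?_
    rw [NatTrans.comp_app, h2]
    exact Category.comp_id _
  have h7 : (Rgamma I).map ((DerivedCategory.quotientCompQhIso (ModSite.Mod O)).hom.app K) ≫
      (Rgammaε I).app (DerivedCategory.Q.obj K) =
      (Rgammaε I).app (DerivedCategory.Qh.obj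
        ((HomotopyCategory.quotient (ModSite.Mod O) (ComplexShape.up ℤ)).obj K)) ≫
      (DerivedCategory.quotientCompQhIso (ModSite.Mod O)).hom.app K :=
    (Rgammaε I).naturality _
  have h8 := (DerivedCategory.quotientCompQhIso (ModSite.Mod O)).hom.naturality (incl I K)
  dsimp only [Functor.comp_map] at h8
  have h9 : (DerivedCategory.quotientCompQhIso (ModSite.Mod O)).inv.app
        (((gamma O I).mapHomologicalComplex (ComplexShape.up ℤ)).obj K) ≫
      DerivedCategory.Qh.map ((HomotopyCategory.quotient (ModSite.Mod O) (ComplexShape.up ℤ)).map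
        (incl I K)) ≫ (DerivedCategory.quotientCompQhIso (ModSite.Mod O)).hom.app K =
      DerivedCategory.Q.map (incl I K) := by
    rw [h8, Iso.inv_hom_id_app_assoc]
  rw [rgUnitQ, unitQ_app]
  exact comp_aux h7 h6 h9

end K920.TorsDer
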