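import Groth.Agent.FTors.K920.DivSt
import Groth.Agent.FTors.K920.StQis
import Groth.Agent.FTors.K920.TorsDer

/-!
# Stalks of `Γ_I M`, and quasi-isomorphisms on `Γ_I`
-/

set_option autoImplicit false

universe u

open CategoryTheory CategoryTheory.Limits Opposite TopologicalSpace

namespace K920.StGam

open FTors K920.Sec K920.Good K920.Grm K29.RStalk K920.TorAlg K920.DivSt K920.StQis
  K920.TorsMod K920.TorsDer

variable {T : TopCat.{u}} {O : Sheaf (Opens.grothendieckTopology T) CommRingCat.{u}}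
  {I : IdealFam O}

lemma stMap_gammaι_injective (M : ModSite.Mod O) (x : T) :
    Function.Injective (stMap ((gammaι I).app M) x) := by
  rw [injective_iff_map_eq_zero]
  intro t ht
  obtain ⟨V, hV, s, rfl⟩ := exists_gr ((gamma O I).obj M) x t
  rw [stMap_gr] at ht
  obtain ⟨W, hW, hxW, e⟩ := exists_rm_eq_zero M hV ht
  rw [← ap_rm] at e
  have h1 : rm ((gamma O I).obj M) hW s = 0 := (Sec.mono_iff_injective ((gammaι I).app M)).1
    inferInstance W (e.trans (map_zero _).symm)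
  rw [← gr_rm _ x hW hxW, h1, map_zero]

variable {U : Opens T} {𝔞 : Ideal (Rg O U)} {B : Set (Opens T)} (hU : IsGoodOpen I U 𝔞 B)

include hU

/-- The stalk of `Γ_I M` consists of the torsion elements of the stalk. -/
theorem mem_range_iff (M : ModSite.Mod O) {x : T} (hx : x ∈ U) (z : St M x) :
    z ∈ Set.range (stMap ((gammaι I).app M) x) ↔ Tor (gI 𝔞 x hx) z := by
  constructor
  · rintro ⟨t, rfl⟩
    obtain ⟨V, hV, s, rfl⟩ := exists_gr ((gamma O I).obj M) x t
    rw [← gr_rm _ x (inf_le_left : V ⊓ U ≤ V) ⟨hV, hx⟩]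
    generalize rm ((gamma O I).obj M) (inf_le_left : V ⊓ U ≤ V) s = s'
    rw [stMap_gr]
    have h1 : IsTorsSect I M (ap ((gammaι I).app M) (V ⊓ U) s') := s'.2
    have h2 := (isTorsSect_iff hU (inf_le_right : V ⊓ U ≤ U) _).1 h1
    have h3 := tor_of_lt (inf_le_right : V ⊓ U ≤ U) ⟨hV, hx⟩ h2
    exact h3
  · intro hz
    obtain ⟨V, hV, s, rfl⟩ := exists_gr M x z
    rw [← gr_rm M x (inf_le_left : V ⊓ U ≤ V) ⟨hV, hx⟩] at hz ⊢
    generalize rm M (inf_le_left : V ⊓ U ≤ V) s = s' at hz ⊢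
    obtain ⟨W, hW, hxW, h1⟩ := exists_lt (inf_le_right : V ⊓ U ≤ U) hU.noeth ⟨hV, hx⟩ s' hz
    have h2 : IsTorsSect I M (rm M hW s') := (isTorsSect_iff hU (hW.trans inf_le_right) _).2 h1
    let s'' : ModSite.sect ((gamma O I).obj M) W := ⟨rm M hW s', h2⟩
    refine ⟨gr _ x W hxW s'', ?_⟩
    rw [stMap_gr, ← gr_rm M x hW hxW]
    rfl

omit hU in
/-- Criterion for `Γ_I u` to be a quasi-isomorphism. -/
theorem quasiIso_gamma {M N : CochainComplex (ModSite.Mod O) ℤ} (u : M ⟶ N) [QuasiIso u]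
    (h : ∀ x : T, ∃ (U : Opens T) (hx : x ∈ U) (𝔞 : Ideal (Rg O U)) (B : Set (Opens T)),
      IsGoodOpen I U 𝔞 B ∧ ∃ F₀ : Finset (StO O x), Ideal.span (F₀ : Set (StO O x)) = gI 𝔞 x hx ∧
        (∀ G ⊆ F₀, ∀ t ∈ F₀, ∀ i, Dv (St (M.X i) x) (Ideal.span (G : Set (StO O x))) t) ∧
        (∀ G ⊆ F₀, ∀ t ∈ F₀, ∀ i, Dv (St (N.X i) x) (Ideal.span (G : Set (StO O x))) t)) :
    QuasiIso (((gamma O I).mapHomologicalComplex (ComplexShape.up ℤ)).map u) := by
  have key : ∀ x : T, ∃ 𝔟 : Ideal (StO O x),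
      (∀ (P : ModSite.Mod O) (z : St P x),
        z ∈ Set.range (stMap ((gammaι I).app P) x) ↔ Tor 𝔟 z) ∧
      Surj (dS M x) (dS N x) (uS u x) 𝔟 ∧ Inj (dS M x) (dS N x) (uS u x) 𝔟 := by
    intro x
    obtain ⟨U, hx, 𝔞, B, hU, F₀, hF₀, hM, hN⟩ := h x
    refine ⟨gI 𝔞 x hx, fun P z ↦ mem_range_iff hU P hx z, ?_⟩
    rw [← hF₀]
    exact TorAlg.main (dS_dS (K := M) x) (dS_dS (K := N) x) (uS_dS u x) F₀
      (surj_of_quasiIso u x) (inj_of_quasiIso u x) hM hN
  clear h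
  have natM : ∀ (P Q : ModSite.Mod O) (g : P ⟶ Q) (x : T) (s : St ((gamma O I).obj P) x),
      stMap ((gammaι I).app Q) x (stMap ((gamma O I).map g) x s) =
        stMap g x (stMap ((gammaι I).app P) x s) := by
    intro P Q g x s
    have h1 : (gamma O I).map g ≫ (gammaι I).app Q = (gammaι I).app P ≫ g :=
      (gammaι I).naturality g
    rw [← stMap_comp_apply, ← stMap_comp_apply, h1]
  refine quasiIso_of_stalks _ ?_ ?_
  · intro x i j hij s hs
    obtain ⟨𝔟, hr, hsurj, -⟩ := key x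
    have e1 : dS N x j (j + 1) (stMap ((gammaι I).app (N.X j)) x s) = 0 := by
      have h1 := natM _ _ (N.d j (j + 1)) x s
      refine h1.symm.trans ?_
      exact (congrArg _ hs).trans (map_zero _)
    obtain ⟨s', z, hs', hds', hz, e⟩ := hsurj i j hij _ ((hr _ _).1 ⟨s, rfl⟩) e1
    obtain ⟨s', rfl⟩ := (hr _ _).2 hs'
    obtain ⟨z, rfl⟩ := (hr _ _).2 hz
    refine ⟨s', z, ?_, ?_⟩
    · refine stMap_gammaι_injective (I := I) (M.X (j + 1)) x ?_
      exact ((natM _ _ (M.d j (j + 1)) x s').trans hds').trans (map_zero _).symm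
    · refine stMap_gammaι_injective (I := I) (N.X j) x ?_
      exact (e.trans (congrArg₂ (· + ·) (natM _ _ (u.f j) x s').symm
        (natM _ _ (N.d i j) x z).symm)).trans (map_add _ _ _).symm
  · intro x i j hij s z hs hsz
    obtain ⟨𝔟, hr, -, hinj⟩ := key x
    have e1 : dS M x j (j + 1) (stMap ((gammaι I).app (M.X j)) x s) = 0 := by
      have h1 := natM _ _ (M.d j (j + 1)) x s
      refine h1.symm.trans ?_
      exact (congrArg _ hs).trans (map_zero _)
    have e2 : uS u x j (stMap ((gammaι I).app (M.X j)) x s) =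
        dS N x i j (stMap ((gammaι I).app (N.X i)) x z) := by
      have h1 := natM _ _ (u.f j) x s
      have h2 := natM _ _ (N.d i j) x z
      refine h1.symm.trans (Eq.trans ?_ h2)
      exact congrArg _ hsz
    obtain ⟨w, hw, e⟩ := hinj i j hij _ _ ((hr _ _).1 ⟨s, rfl⟩) e1 ((hr _ _).1 ⟨z, rfl⟩) e2
    obtain ⟨w, rfl⟩ := (hr _ _).2 hw
    refine ⟨w, ?_⟩
    refine stMap_gammaι_injective (I := I) (M.X j) x ?_
    exact e.trans (natM _ _ (M.d i j) x w).symm

end K920.StGam
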