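import Groth.Agent.FTors.K920.PhiTor
import Groth.Agent.FTors.K920.LocOrth
import Groth.Agent.FTors.K920.TorsDer2

/-!
# Torsion modules are killed by `- ⊗ O_t`

* `isZero_G`: `M ⊗ O_s = 0` if the sections of `M` are locally killed by powers of `s`;
* `pt_restr`: `X|_U ⊗ O_t = 0` for `X` with torsion cohomology, `U` a good open and `t` in the ideal.
-/

set_option autoImplicit false

universe u

open CategoryTheory CategoryTheory.Limits Opposite TopologicalSpace

attribute [local instance] HasDerivedCategory.standard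

namespace K920.TorPT

open K302.AwayTens K920.PhiTor

section Site

variable {C : Type u} [SmallCategory C] {J : GrothendieckTopology C} {O : Sheaf J CommRingCat.{u}}

theorem isIso_pow_smul {s : DerComp.GSec O} {N : ModSite.Mod O} (hN : IsIso (s • 𝟙 N)) (k : ℕ) :
    IsIso (s ^ k • 𝟙 N) := by
  induction k with
  | zero =>
    rw [pow_zero, one_smul]
    infer_instance
  | succ k ih =>
    have h : s ^ (k + 1) • 𝟙 N = (s ^ k • 𝟙 N) ≫ (s • 𝟙 N) := by
      rw [Linear.smul_comp, Linear.comp_smul, Category.comp_id, smul_smul, pow_succ]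
    rw [h]
    infer_instance

theorem hom_eq_zero_of_tors {s : DerComp.GSec O} {M N : ModSite.Mod O}
    (hM : ∀ (X : C) (x : M.val.obj (op X)), ∃ S ∈ J X, ∀ ⦃V : C⦄ (g : V ⟶ X), S g →
      ∃ k : ℕ, DerComp.GSec.val' (s ^ k) (op V) • M.val.map g.op x = 0)
    (hN : IsIso (s • 𝟙 N)) (f : M ⟶ N) : f = 0 := by
  ext X x
  obtain ⟨S, hS, h⟩ := hM X.unop x
  refine K779.Gen.eq_zero_of_locally (F := N) _ S hS fun V g hg => ?_
  obtain ⟨k, hk'⟩ := h g hg
  let y : M.val.obj (op V) := M.val.map g.op x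
  have hk : DerComp.GSec.val' (s ^ k) (op V) • y = 0 := hk'
  refine (PresheafOfModules.naturality_apply f.val g.op x).symm.trans ?_
  change (f.val.app (op V)).hom y = 0
  have h2 : (f.val.app (op V)).hom (DerComp.GSec.val' (s ^ k) (op V) • y) =
      DerComp.GSec.val' (s ^ k) (op V) • (f.val.app (op V)).hom y := (f.val.app (op V)).hom.map_smul _ _
  rw [hk, map_zero] at h2
  have h3 := isIso_pow_smul hN k
  have h4 : (s ^ k • 𝟙 N) ≫ inv (s ^ k • 𝟙 N) = 𝟙 N := IsIso.hom_inv_id _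
  have h5 := congrArg (fun φ : N ⟶ N => (φ.val.app (op V)).hom ((f.val.app (op V)).hom y)) h4
  have h6 : ((inv (s ^ k • 𝟙 N)).val.app (op V)).hom (DerComp.GSec.val' (s ^ k) (op V) • (f.val.app (op V)).hom y) =
      (f.val.app (op V)).hom y := h5
  rw [← h2, map_zero] at h6
  exact h6.symm

theorem isZero_G {s : DerComp.GSec O} {M : ModSite.Mod O}
    (hM : ∀ (X : C) (x : M.val.obj (op X)), ∃ S ∈ J X, ∀ ⦃V : C⦄ (g : V ⟶ X), S g →
      ∃ k : ℕ, DerComp.GSec.val' (s ^ k) (op V) • M.val.map g.op x = 0) :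
    IsZero ((G s).obj M) := by
  have h1 : (eta s).app M = 0 := hom_eq_zero_of_tors hM (isIso_smul_G s M) _
  have h2 := isIso_G_eta s M
  rw [h1] at h2
  have h3 : (G s).map (0 : (𝟭 (ModSite.Mod O)).obj M ⟶ (G s).obj M) = 0 := (G s).map_zero _ _
  rw [h3] at h2
  have h4 : 𝟙 ((G s).obj M) = 0 := by
    have h5 : 𝟙 ((G s).obj M) = (0 : (G s).obj M ⟶ (G s).obj ((G s).obj M)) ≫
        (@inv _ _ _ _ (0 : (G s).obj M ⟶ (G s).obj ((G s).obj M)) h2) := (IsIso.hom_inv_id _).symm
    rw [h5, zero_comp]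
  exact (IsZero.iff_id_eq_zero _).2 h4

end Site

open FTors K920.Sec K920.Good K920.TorsMod

variable {T : TopCat.{u}} {O : Sheaf (Opens.grothendieckTopology T) CommRingCat.{u}}
  {I : IdealFam O} {U : Opens T} {𝔞 : Ideal (Rg O U)} {B : Set (Opens T)}

theorem isZero_G_restr (hU : IsGoodOpen I U 𝔞 B) {M : ModSite.Mod O} (hM : IsTors I M) {t : Rg O U} (ht : t ∈ 𝔞) :
    IsZero ((G (DerComp.GSec.ofSect O U t)).obj ((ModSite.restr O U).obj M)) := by
  refine isZero_G fun V x => ?_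
  let x' : ModSite.sect M V.left := x
  have h1 : IsTorsSect I M x' := hM _ _
  rw [isTorsSect_iff hU (leOfHom V.hom)] at h1
  let S' : Sieve V.left :=
    { arrows := fun W f => ∃ k : ℕ, Kill M ((leOfHom f).trans (leOfHom V.hom)) (𝔞 ^ k) (rm M (leOfHom f) x')
      downward_closed := by
        rintro W W' f ⟨k, hk⟩ g
        refine ⟨k, ?_⟩
        have h2 := hk.rm (leOfHom g)
        rw [rm_rm] at h2
        exact h2 }
  refine ⟨(Sieve.overEquiv V).symm S', (Opens.grothendieckTopology T).overEquiv_symm_mem_over _ _ ?_, ?_⟩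
  · intro y hy
    obtain ⟨W, hW, hyW, k, hk⟩ := h1 y hy
    exact ⟨W, homOfLE hW, ⟨k, hk⟩, hyW⟩
  · rintro W g ⟨k, hk⟩
    refine ⟨k, ?_⟩
    have h2 := hk (t ^ k) (Ideal.pow_mem_pow ht k)
    have h4 : ro (O := O) ((leOfHom g.left).trans (leOfHom V.hom)) (t ^ k) =
        ((DerComp.GSec.ofSect O U t) ^ k).1 W := by
      rw [map_pow]
      rfl
    exact (congrArg (fun r : Rg O W.left => r • rm M (leOfHom g.left) x') h4).symm.trans h2

section Derived

open K779.HU

theorem pt_restr (hU : IsGoodOpen I U 𝔞 B) {X : DerivedCategory (ModSite.Mod O)} (hX : IsDTors I X) {t : Rg O U}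
    (ht : t ∈ 𝔞) : PT (DerComp.GSec.ofSect O U t) ((restrD O U).obj X) := by
  rw [pt_iff]
  intro n
  exact (isZero_G_restr hU (hX n) ht).of_iso ((G (DerComp.GSec.ofSect O U t)).mapIso
    ((Groth.Agent.PerfA.ExactD.mapHomology (ModSite.restr O U) n).app X))

end Derived

end K920.TorPT
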